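import Cfsg.Agent.Lib.NineMax.Setup
import Cfsg.Agent.Lib.Classical.Transvection

/-!
Every block diagonal element has blocks in the normaliser on three points.
-/

set_option autoImplicit false
set_option linter.unusedSectionVars false
set_option maxRecDepth 10000

namespace CfsgLib.NineMax

open Matrix
open scoped Kronecker
open CfsgLib.HessianMax (Rsub gm Dm)

variable {F : Type*} [Field F] [Fintype F]

local notation "M3" => Matrix (Fin 3) (Fin 3) F
local notation "M9" => Matrix (Fin 3 × Fin 3) (Fin 3 × Fin 3) F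

variable {p : ℕ} {ω : F} {M : Subgroup (GL (Fin 3 × Fin 3) F)}

/-- A transvection on nine points. -/
def T9 (x y : V3) (c : F) : M9 := 1 + Matrix.single x y c

theorem T9_comm {x y z : V3} (hxy : x ≠ y) (hyz : y ≠ z) (hxz : x ≠ z) (c : F) :
    T9 x y c * T9 y z 1 * T9 x y (-c) * T9 y z (-1) = T9 x z c := by
  simp only [T9, Matrix.add_mul, Matrix.mul_add, Matrix.mul_one, Matrix.one_mul, Matrix.single_mul_single_same,
    Matrix.single_mul_single_of_ne _ _ _ _ hxy.symm, Matrix.single_mul_single_of_ne _ _ _ _ hxz.symm,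
    Matrix.single_mul_single_of_ne _ _ _ _ hyz.symm, add_zero, zero_add, mul_one, mul_neg, neg_mul, neg_neg,
    Matrix.single_neg]
  ext a b
  simp only [Matrix.add_apply, Matrix.neg_apply, Matrix.single, Matrix.of_apply]
  split_ifs <;> ring

theorem X_T3 {ω : F} (hω : ω ^ 2 + ω + 1 = 0) (c : F) :
    W3 ω ((1, 0) : V3) * T3 0 1 c * W3 ω ((2, 0) : V3) * T3 0 1 (-c) = T3 0 1 ((ω ^ 2 - 1) * c) ∧
    W3 ω ((2, 0) : V3) * T3 0 1 c * W3 ω ((1, 0) : V3) * T3 0 1 (-c) = T3 0 1 ((ω - 1) * c) := by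
  have hT : ∀ c : F, T3 0 1 c = !![1, c, 0; 0, 1, 0; 0, 0, 1] := fun c => by
    ext i j; fin_cases i <;> fin_cases j <;> simp [T3, Matrix.single]
  have h1 : W3 ω ((1, 0) : V3) = !![1, 0, 0; 0, ω, 0; 0, 0, ω ^ 2] := by
    rw [W3_one_zero]; rfl
  have h2 : W3 ω ((2, 0) : V3) = !![1, 0, 0; 0, ω ^ 2, 0; 0, 0, ω] := by
    ext i j; fin_cases i <;> fin_cases j <;> simp [W3_apply, chi]
  rw [h1, h2]
  simp only [hT]
  constructor <;>
    (ext i j; fin_cases i <;> fin_cases j <;> simp [Matrix.mul_apply, Fin.sum_univ_three] <;> grind)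

namespace Setup

variable (h : Setup p ω M)
include h

/-- Single-block transvections give everything. -/
theorem false_of_T3 (hT : ∀ i j : Fin 3, i ≠ j → ∀ c : F, In M (bd ![1, 1, T3 i j c])) : False := by
  have hrow : ∀ i a b : Fin 3, a ≠ b → ∀ c, In M (T9 (i, a) (i, b) c : M9) := by
    intro i a b hab c
    have base : In M (bd (fun m => if m = i then T3 a b c else 1)) := by
      have hi : i = 2 ∨ i = 1 ∨ i = 0 := by revert i; decide
      rcases hi with rfl | rfl | rfl
      · convert hT a b hab c using 2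
        funext m; fin_cases m <;> simp
      · convert h.in_shift (hT a b hab c) using 2
        funext m; fin_cases m <;> simp
      · convert h.in_shift (h.in_shift (hT a b hab c)) using 2
        funext m; fin_cases m <;> simp
    convert base using 1
    ext ⟨j, u⟩ ⟨k, v⟩
    by_cases hjk : j = k
    · subst hjk
      by_cases hji : j = i
      · subst hji; simp [T9, T3, bd, Matrix.one_apply, Matrix.single]
      · simp [T9, bd, hji, Ne.symm hji, Matrix.one_apply, Matrix.single]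
    · simp [T9, bd, hjk, Matrix.one_apply, Matrix.single]
      intro h1 h2 h3
      exact absurd (h1.symm.trans h3) hjk
  have hcol : ∀ a i j : Fin 3, i ≠ j → ∀ c, In M (T9 (i, a) (j, a) c : M9) := by
    intro a i j hij c
    convert h.in_sw (hrow a i j hij c) using 1
    ext ⟨u, v⟩ ⟨k, l⟩
    simp [T9, sw, Matrix.one_apply, Matrix.single, and_comm]
  have hall : ∀ x y : V3, x ≠ y → ∀ c, In M (T9 x y c : M9) := by
    rintro ⟨i, a⟩ ⟨j, b⟩ hxy c
    by_cases h1 : i = j
    · subst h1; exact hrow i a b (fun e => hxy (by rw [e])) c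
    by_cases h2 : a = b
    · subst h2; exact hcol a i j h1 c
    rw [← T9_comm (x := (i, a)) (y := ((i, b) : V3)) (z := (j, b)) (by simp [h2]) (by simp [h1]) (by simp [h1]) c]
    exact in_mul (in_mul (in_mul (hrow i a b h2 c) (hcol b i j h1 1)) (hrow i a b h2 _)) (hcol b i j h1 _)
  apply h.ntop
  intro g hg
  let H : Subgroup (Matrix.SpecialLinearGroup V3 F) := M.comap Matrix.SpecialLinearGroup.toGL
  have hH : H = ⊤ := CfsgLib.Classical.eq_top_of_transvection_mem H fun x y hxy c => by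
    obtain ⟨g', hg', e⟩ := hall x y hxy c
    show Matrix.SpecialLinearGroup.toGL _ ∈ M
    convert hg' using 1
    refine Units.ext ?_
    rw [e]; rfl
  obtain ⟨sg, hsg⟩ : ∃ sg : Matrix.SpecialLinearGroup V3 F, (sg : M9) = (g : M9) := ⟨⟨(g : M9), hg⟩, rfl⟩
  have h' : sg ∈ H := by rw [hH]; exact Subgroup.mem_top _
  convert (show Matrix.SpecialLinearGroup.toGL sg ∈ M from h') using 1
  exact Units.ext hsg.symm

/-- The blocks cannot cover `SL₃` up to scalars. -/
theorem false_of_big (hb : ∀ g : M3, g.det = 1 → ∃ c : F, ∃ d, In M (bd d) ∧ d 0 = c • g) : False := by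
  have hω := h.om
  have w3 : ω ^ 3 = 1 := CfsgLib.HessianMax.om3 hω
  have hne : ω ≠ 1 := CfsgLib.HessianMax.om_ne_one hω h.three
  have hb2 : ∀ g : M3, g.det = 1 → ∃ c : F, ∃ d, In M (bd d) ∧ d 2 = c • g := fun g hg => by
    obtain ⟨c, d, hd, e⟩ := hb g hg
    exact ⟨c, _, h.in_shift hd, e⟩
  have cinv : ∀ {c : F} {g g' e' : M3}, g * g' = 1 → c • g * e' = 1 → ∀ x : M3, c • g * x * e' = g * x * g' := by
    intro c g g' e' hg he x
    have h1 : c • e' = g' := by
      calc c • e' = g' * g * (c • e') := by rw [mul_eq_one_comm.1 hg, Matrix.one_mul]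
        _ = _ := by
          rw [Matrix.mul_assoc, Matrix.mul_smul, ← Matrix.smul_mul, he, Matrix.mul_one]
    rw [← h1, Matrix.mul_smul, Matrix.smul_mul, Matrix.smul_mul]
  have W12 : W3 ω ((1, 0) : V3) * W3 ω ((2, 0) : V3) = 1 := by
    rw [W3_mul hω, show (0 : Fin 3) * 2 = 0 from rfl, chi_zero, one_smul]; exact W3_zero
  have W21 : W3 ω ((2, 0) : V3) * W3 ω ((1, 0) : V3) = 1 := by
    rw [W3_mul hω, show (0 : Fin 3) * 1 = 0 from rfl, chi_zero, one_smul]; exact W3_zero
  have Tinv : ∀ c : F, T3 0 1 c * T3 0 1 (-c) = 1 := fun c => by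
    rw [T3_mul (by decide), add_neg_cancel, T3_zero]
  -- the second block inside the kernel of the first
  let P : M3 → Prop := fun g => ∃ d, In M (bd d) ∧ d 0 = 1 ∧ d 2 = g
  have hP : ∀ i j : Fin 3, i ≠ j → ∀ e : F, P (T3 i j e) := by
    refine all_T3 h.exists_natCast ?_ ⟨fun _ => 1, by rw [bd_one]; exact in_one, rfl, rfl⟩ ?_
      (c := ω - 1) (sub_ne_zero.2 hne) ?_
    · rintro x y ⟨d, hd, d0, d2⟩ ⟨e, he, e0, e2⟩
      exact ⟨fun i => d i * e i, bd_mul d e ▸ in_mul hd he, by simp [d0, e0], by simp [d2, e2]⟩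
    · rintro g g' x hg hgg ⟨d, hd, d0, d2⟩
      obtain ⟨c, f, hf, ef⟩ := hb2 g hg
      obtain ⟨f', hf', hff⟩ := h.blk_inv hf
      refine ⟨fun i => f i * d i * f' i, by rw [← bd_mul (fun i => f i * d i) f', ← bd_mul f d]; exact in_mul (in_mul hf hd) hf',
        by simp [d0, (hff 0).1], ?_⟩
      simp only [d2, ef]
      exact cinv hgg (ef ▸ (hff 2).1) x
    · obtain ⟨c, f, hf, ef⟩ := hb2 (T3 0 1 1) (T3_det (by decide) 1)
      obtain ⟨f', hf', hff⟩ := h.blk_inv hf
      have hs := h.in_shX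
      have hs' : In M (bd fun i => W3 ω (-i, 0)) := h.in_bd_inv hs fun i => by
        rw [W3_mul hω, (fin3_law (-i) 0 0).2.2.1, chi_zero, one_smul]
        show W3 ω (i + -i, (0 : Fin 3) + 0) = 1
        rw [add_neg_cancel, add_zero]; exact W3_zero
      refine ⟨fun i => W3 ω (i, 0) * f i * W3 ω (-i, 0) * f' i, ?_, ?_, ?_⟩
      · rw [← bd_mul (fun i => W3 ω (i, 0) * f i * W3 ω (-i, 0)) f',
          ← bd_mul (fun i => W3 ω (i, 0) * f i) fun i => W3 ω (-i, 0), ← bd_mul (fun i => W3 ω (i, 0)) f]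
        exact in_mul (in_mul (in_mul hs hf) hs') hf'
      · show W3 ω ((0, 0) : V3) * f 0 * W3 ω ((-0, 0) : V3) * f' 0 = 1
        rw [neg_zero, show W3 ω ((0, 0) : V3) = (1 : M3) from W3_zero, Matrix.one_mul, Matrix.mul_one, (hff 0).1]
      · show W3 ω ((2, 0) : V3) * f 2 * W3 ω ((1, 0) : V3) * f' 2 = _
        have e1 : f 2 * (c⁻¹ • T3 0 1 (-1 : F)) = 1 := by
          have hc : c ≠ 0 := fun e => h.det_blk hf 2 (by rw [ef, e, zero_smul]; simp)
          rw [ef, Matrix.smul_mul, Matrix.mul_smul, smul_smul, mul_inv_cancel₀ hc, one_smul, Tinv]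
        have e2 : f' 2 = c⁻¹ • T3 0 1 (-1 : F) := left_inv_eq_right_inv (hff 2).2 e1
        have hc : c ≠ 0 := fun e => h.det_blk hf 2 (by rw [ef, e, zero_smul]; simp)
        simp only [e2, ef, Matrix.mul_smul, Matrix.smul_mul, smul_smul, mul_inv_cancel₀ hc, inv_mul_cancel₀ hc,
          one_smul]
        rw [(X_T3 hω 1).2, mul_one]
  -- a single block
  let Q : M3 → Prop := fun g => In M (bd ![1, 1, g])
  have hQ : ∀ i j : Fin 3, i ≠ j → ∀ e : F, Q (T3 i j e) := by
    refine all_T3 h.exists_natCast ?_ ?_ ?_ (c := ω ^ 2 - 1) (sub_ne_zero.2 fun e => hne ?_) ?_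
    · intro x y hx hy
      have := in_mul hx hy
      rw [bd_mul] at this
      convert this using 2
      funext i; fin_cases i <;> simp
    · show In M (bd ![1, 1, 1])
      rw [show (![1, 1, 1] : Fin 3 → M3) = fun _ => 1 by funext i; fin_cases i <;> rfl, bd_one]
      exact in_one
    · intro g g' x hg hgg hx
      obtain ⟨c, f, hf, ef⟩ := hb2 g hg
      obtain ⟨f', hf', hff⟩ := h.blk_inv hf
      have := in_mul (in_mul hf hx) hf'
      rw [bd_mul, bd_mul] at this
      show In M (bd ![1, 1, g * x * g'])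
      convert this using 2
      funext i; fin_cases i
      · simp [(hff 0).1]
      · simp [(hff 1).1]
      · show g * x * g' = f 2 * x * f' 2
        rw [ef]
        exact (cinv hgg (ef ▸ (hff 2).1) x).symm
    · linear_combination w3 - ω * e
    · obtain ⟨f, hf, f0, f2⟩ := hP 0 1 (by decide) 1
      obtain ⟨f', hf', hff⟩ := h.blk_inv hf
      have hs : In M (bd fun i => W3 ω (2 + i, 0)) := by
        convert h.in_AP (2, 0) (1, 0) 0 using 2
        funext i
        have : ∀ i : Fin 3, i * 1 = i ∧ (0 : Fin 3) + i * 0 = 0 := by decide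
        simp [(this i).1, (this i).2, chi_zero]
      have hs' : In M (bd fun i => W3 ω (1 + 2 * i, 0)) := h.in_bd_inv hs fun i => by
        rw [W3_mul hω, (fin3_law (1 + 2 * i) 0 0).2.2.1, chi_zero, one_smul]
        have : ∀ i : Fin 3, ((2 + i, 0) : V3) + (1 + 2 * i, 0) = 0 := by decide
        rw [this]; exact W3_zero
      have := in_mul (in_mul (in_mul hs hf) hs') hf'
      rw [bd_mul, bd_mul, bd_mul] at this
      show In M (bd ![1, 1, T3 0 1 (ω ^ 2 - 1)])
      convert this using 2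
      funext i; fin_cases i
      · show (1 : M3) = W3 ω ((2, 0) : V3) * f 0 * W3 ω ((1, 0) : V3) * f' 0
        have : f' 0 = 1 := left_inv_eq_right_inv (hff 0).2 (by rw [f0, Matrix.one_mul])
        rw [f0, Matrix.mul_one, this, Matrix.mul_one, W21]
      · show (1 : M3) = W3 ω ((0, 0) : V3) * f 1 * W3 ω ((0, 0) : V3) * f' 1
        rw [show W3 ω ((0, 0) : V3) = (1 : M3) from W3_zero, Matrix.one_mul, Matrix.mul_one, (hff 1).1]
      · show T3 0 1 (ω ^ 2 - 1) = W3 ω ((1, 0) : V3) * f 2 * W3 ω ((2, 0) : V3) * f' 2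
        have : f' 2 = T3 0 1 (-1 : F) := left_inv_eq_right_inv (hff 2).2 (by rw [f2, Tinv])
        rw [f2, this, (X_T3 hω 1).1, mul_one]
  exact h.false_of_T3 hQ

/-- The blocks normalise the Heisenberg group on three points. -/
theorem small {d : Fin 3 → M3} (hd : In M (bd d)) (i : Fin 3) : ∃ L, Act (W3 ω) (d i) L := by
  haveI : Finite (GL (Fin 3) F) := Finite.of_injective _ Units.val_injective
  let H : Subgroup (GL (Fin 3) F) :=
    { carrier := {g | ∃ d, In M (bd d) ∧ d 0 = (g : M3)}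
      one_mem' := ⟨fun _ => 1, by rw [bd_one]; exact in_one, rfl⟩
      mul_mem' := by
        rintro a b ⟨d, hd, e⟩ ⟨d', hd', e'⟩
        exact ⟨fun i => d i * d' i, bd_mul d d' ▸ in_mul hd hd', by simp [e, e', Units.val_mul]⟩
      inv_mem' := by
        rintro a ⟨d, hd, e⟩
        obtain ⟨d', hd', hdd⟩ := h.blk_inv hd
        exact ⟨d', hd', (Units.inv_eq_of_mul_eq_one_right (e ▸ (hdd 0).1)).symm⟩ }
  have hN : ∀ g ∈ Subgroup.normalizer (Rsub F ω h.om : Set (GL (Fin 3) F)), (g : M3).det = 1 → g ∈ H := by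
    intro g hg hdg
    rw [grp_eq h.om h.three] at hg
    obtain ⟨L, hL⟩ := h.heis'.mem_normalizer_iff.1 hg
    exact ⟨fun _ => (g : M3), by rw [bd_const]; exact h.in_one_kron (by rw [hdg, one_pow]) hL, rfl⟩
  rcases dich h.prime h.card h.seven h.om H hN with hs | hb
  · obtain ⟨d', hd', e⟩ : ∃ d', In M (bd d') ∧ d' 0 = d i := by
      have hi : i = 0 ∨ i = 1 ∨ i = 2 := by revert i; decide
      rcases hi with rfl | rfl | rfl
      · exact ⟨d, hd, rfl⟩
      · exact ⟨_, h.in_shift hd, rfl⟩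
      · exact ⟨_, h.in_shift (h.in_shift hd), rfl⟩
    let g := Matrix.GeneralLinearGroup.mkOfDetNeZero (d i) (h.det_blk hd i)
    have hg : g ∈ H := ⟨d', hd', e⟩
    have := hs g hg
    rw [grp_eq h.om h.three] at this
    exact h.heis'.mem_normalizer_iff.1 this
  · exact (h.false_of_big fun g hg => by
      obtain ⟨c, x, ⟨d, hd, e⟩, ex⟩ := hb g hg
      exact ⟨c, d, hd, e.trans ex⟩).elim

end Setup

end CfsgLib.NineMax
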