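import Cfsg.Agent.Lib.NineMax.Big

/-!
Block diagonal elements: either all normalise, or all block diagonal matrices with Heisenberg blocks are in the
group.
-/

set_option autoImplicit false
set_option linter.unusedSectionVars false
set_option maxRecDepth 10000
set_option maxHeartbeats 1000000

namespace CfsgLib.NineMax

open Matrix
open scoped Kronecker
open CfsgLib.HessianMax (gm Dm)

variable {F : Type*} [Field F] [Fintype F]

local notation "M3" => Matrix (Fin 3) (Fin 3) F
local notation "M9" => Matrix (Fin 3 × Fin 3) (Fin 3 × Fin 3) F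

variable {p : ℕ} {ω : F} {M : Subgroup (GL (Fin 3 × Fin 3) F)}

/-- Some element of `M` has the twisting matrices `v` in its blocks, up to scalars. -/
def Tr (M : Subgroup (GL (Fin 3 × Fin 3) F)) (ω : F) (v : Fin 3 → V3) : Prop :=
  ∃ c : Fin 3 → F, In M (bd fun i => c i • W3 ω (v i))

/-- A non-trivial single scalar-and-twisting block. -/
def HasU (M : Subgroup (GL (Fin 3 × Fin 3) F)) (ω : F) : Prop := ∃ S : V3, S ≠ 0 ∧ Tr M ω ![0, 0, S]

theorem ap_id : ∀ v0 v1 v2 : V3, v2 + v1 + v0 = 0 →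
    ∀ i : Fin 3, ![v0, v1, v2] i = (v0.1 + i * (v1.1 - v0.1), v0.2 + i * (v1.2 - v0.2)) := by decide +kernel

theorem sum_id : ∀ v0 v1 v2 : V3, v2 - (v0.1 + 2 * (v1.1 - v0.1), v0.2 + 2 * (v1.2 - v0.2)) = v0 + v1 + v2 := by
  decide +kernel

theorem span_J : ∀ S : V3, S ≠ 0 → ∀ v : V3, ∃ a b : Fin 3,
    v = (a * (Jl S - S).1 + b * (Jl (Jl S - S)).1, a * (Jl S - S).2 + b * (Jl (Jl S - S)).2) := by decide +kernel

namespace Setup

variable (h : Setup p ω M)
include h

theorem tr_add {v w : Fin 3 → V3} (hv : Tr M ω v) (hw : Tr M ω w) : Tr M ω (v + w) := by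
  obtain ⟨c, hc⟩ := hv
  obtain ⟨d, hd⟩ := hw
  refine ⟨fun i => c i * d i * chi ω ((v i).2 * (w i).1), ?_⟩
  have := in_mul hc hd
  rw [bd_mul] at this
  convert this using 2
  funext i
  rw [Matrix.smul_mul, Matrix.mul_smul, W3_mul h.om, smul_smul, smul_smul]
  rfl

theorem tr_AP (a b : V3) : Tr M ω fun i => (a.1 + i * b.1, a.2 + i * b.2) :=
  ⟨fun _ => 1, by simpa [chi_zero] using h.in_AP a b 0⟩

theorem sum_zero (hU : ¬ HasU M ω) {v : Fin 3 → V3} (hv : Tr M ω v) : v 0 + v 1 + v 2 = 0 := by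
  by_contra hne
  refine hU ⟨v 0 + v 1 + v 2, hne, ?_⟩
  have := h.tr_add hv (h.tr_AP (-v 0) (-(v 1 - v 0)))
  convert this using 1
  funext i
  have k : ∀ a b : V3, ((0 : V3) = a + (-a.1 + 0 * b.1, -a.2 + 0 * b.2)) ∧
      ((0 : V3) = b + (-a.1 + 1 * -(b.1 - a.1), -a.2 + 1 * -(b.2 - a.2))) := by decide +kernel
  have hi : i = 0 ∨ i = 1 ∨ i = 2 := by revert i; decide
  rcases hi with rfl | rfl | rfl
  · exact (k (v 0) _).1
  · exact (k (v 0) (v 1)).2
  · show v 0 + v 1 + v 2 = v 2 + _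
    rw [← sum_id]
    have k2 : ∀ a b c : V3, c - (a.1 + 2 * (b.1 - a.1), a.2 + 2 * (b.2 - a.2)) =
        c + (-a.1 + 2 * -(b.1 - a.1), -a.2 + 2 * -(b.2 - a.2)) := by decide +kernel
    exact k2 _ _ _

theorem bd_act_of_noU (hU : ¬ HasU M ω) {d : Fin 3 → M3} (hd : In M (bd d)) : ∃ L, Act (W9 ω) (bd d) L := by
  have H3 := h.heis'
  have hu : ∀ i, IsUnit (d i) := fun i =>
    (Matrix.isUnit_iff_isUnit_det _).2 (isUnit_iff_ne_zero.2 (h.det_blk hd i))
  choose L hL using h.small hd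
  obtain ⟨d', hd', hdd⟩ := h.blk_inv hd
  -- the linear parts agree
  have key : ∀ a : V3, ∀ d : Fin 3 → M3, In M (bd d) → ∀ (L : Fin 3 → V3 → V3),
      (∀ i, Act (W3 ω) (d i) (L i)) → (∀ i, IsUnit (d i)) → L 1 a = L 2 a := by
    intro a d hd L hL hu
    obtain ⟨d', hd', hdd⟩ := h.blk_inv hd
    have hin := in_mul (in_mul hd (h.in_line a)) hd'
    rw [bd_mul, bd_mul] at hin
    choose c hc using fun i => hL i (i * a.1, i * a.2)
    have hT : Tr M ω fun i => L i (i * a.1, i * a.2) := by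
      refine ⟨c, ?_⟩
      convert hin using 2
      funext i
      rw [hc, Matrix.smul_mul, Matrix.mul_assoc, (hdd i).1, Matrix.mul_one]
    have e := h.sum_zero hU hT
    have k : ∀ b : V3, ((0 * b.1, 0 * b.2) : V3) = 0 ∧ ((1 * b.1, 1 * b.2) : V3) = b ∧
        ((2 * b.1, 2 * b.2) : V3) = -b := by decide
    rw [(k a).1, (k a).2.1, (k a).2.2, H3.act_zero (hu 0) (hL 0), H3.act_neg (hu 2) (hL 2), zero_add,
      ← sub_eq_add_neg, sub_eq_zero] at e
    exact e
  have h12 : ∀ a, L 1 a = L 2 a := fun a => key a d hd L hL hu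
  have h20 : ∀ a, L 2 a = L 0 a := fun a =>
    key a (fun i => d (i + 1)) (h.in_shift hd) (fun i => L (i + 1)) (fun i => hL _) fun i => hu _
  have hLi : ∀ i a, L i a = L 0 a := by
    intro i a
    have hi : i = 0 ∨ i = 1 ∨ i = 2 := by revert i; decide
    rcases hi with rfl | rfl | rfl
    · rfl
    · rw [h12, h20]
    · rw [h20]
  obtain ⟨g, hg, aG⟩ := real3 h.om h.three (H3.act_add (hu 0) (hL 0)) (H3.act_symp (hu 0) (hL 0))
  obtain ⟨g', rfl⟩ : IsUnit g :=
    (Matrix.isUnit_iff_isUnit_det g).2 (isUnit_iff_ne_zero.2 fun e => by simp [e] at hg)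
  obtain ⟨Ki, aGi⟩ := H3.mem_normalizer_iff.1 (inv_mem (H3.mem_normalizer_iff.2 ⟨L 0, aG⟩))
  have hKi : ∀ a, L 0 (Ki a) = a := fun a => H3.act_uniq isUnit_one (L := L 0 ∘ Ki) (K := id)
    (by rw [← Units.val_one, ← mul_inv_cancel g', Units.val_mul]; exact aG.comp aGi) (act_one _) a
  set gi : M3 := ((g'⁻¹ : GL (Fin 3) F) : M3) with hgi
  have hgid : gi.det ^ 3 = 1 := by
    have e : (g' : M3).det * gi.det = 1 := by rw [hgi, ← det_mul, ← Units.val_mul, mul_inv_cancel, Units.val_one, det_one]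
    calc gi.det ^ 3 = ((g' : M3).det * gi.det) ^ 3 := by rw [mul_pow, hg, one_mul]
      _ = 1 := by rw [e, one_pow]
  have hin : In M (bd fun i => d i * gi) := by
    have := in_mul hd (by rw [bd_const]; exact h.in_one_kron hgid aGi : In M (bd fun _ => gi))
    rwa [bd_mul] at this
  have hid : ∀ i, Act (W3 ω) (d i * gi) id := fun i =>
    ((hL i).comp aGi).congr fun a => by rw [Function.comp_apply, hLi, hKi]; rfl
  choose c v hc0 hcv using fun i => H3.act_id ((hu i).mul g'⁻¹.isUnit) (hid i)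
  have hT : Tr M ω v := ⟨c, by simpa only [← hcv] using hin⟩
  have hsum := h.sum_zero hU hT
  set a := v 0 with ha
  set b := v 1 - v 0 with hb
  have hv : ∀ i, v i = (a.1 + i * b.1, a.2 + i * b.2) := fun i => by
    have := ap_id (v 0) (v 1) (v 2) (by rw [← hsum]; abel) i
    refine Eq.trans ?_ this
    fin_cases i <;> rfl
  have hP := h.in_AP a b 0
  simp only [Pi.zero_apply, chi_zero, one_smul, ← hv] at hP
  obtain ⟨P', hP', hPP⟩ := h.blk_inv hP
  -- the scalar part
  have hc : In M (bd fun i => c i • (1 : M3)) := by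
    have := in_mul hin hP'
    rw [bd_mul] at this
    convert this using 2
    funext i
    rw [hcv, Matrix.smul_mul, (hPP i).1]
  have esw : sw (bd fun i => c i • (1 : M3)) = bd fun _ => Matrix.diagonal c := by
    ext ⟨i, x⟩ ⟨j, y⟩
    by_cases h1 : i = j <;> by_cases h2 : x = y <;> simp [sw, bd, h1, h2, Matrix.one_apply]
  obtain ⟨Lc, hLc⟩ := h.small (esw ▸ h.in_sw hc) 0
  have aT : Act (W9 ω) (bd fun i => c i • (1 : M3)) (pmap Lc id) := by
    have e : (bd fun i => c i • (1 : M3)) = Matrix.diagonal c ⊗ₖ (1 : M3) := by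
      ext ⟨i, x⟩ ⟨j, y⟩
      by_cases h1 : i = j <;> by_cases h2 : x = y <;> simp [bd, h1, h2, Matrix.one_apply]
    rw [e]; exact kron_act hLc (act_one _)
  -- reassemble
  haveI : Finite (GL (Fin 3 × Fin 3) F) := Finite.of_injective _ Units.val_injective
  obtain ⟨u1, hu1, e1⟩ := hc
  obtain ⟨u2, hu2, e2⟩ := hP
  have hA : In M (bd fun _ => (g' : M3)) := by rw [bd_const]; exact h.in_one_kron hg aG
  obtain ⟨u3, hu3, e3⟩ := hA
  have hAP : ∃ K, Act (W9 ω) (bd fun i => W3 ω (v i)) K := by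
    obtain ⟨K, hK⟩ := h.ap_act a b
    exact ⟨K, by simpa only [← hv] using hK⟩
  obtain ⟨K, hK⟩ := hAP
  have a3 : Act (W9 ω) (u3 : M9) (pmap id (L 0)) := by rw [e3, bd_const]; exact kron_act (act_one _) aG
  refine ⟨pmap Lc id ∘ K ∘ pmap id (L 0), ?_⟩
  have eall : bd d = (bd fun i => c i • (1 : M3)) * ((bd fun i => W3 ω (v i)) * (u3 : M9)) := by
    rw [e3, bd_mul, bd_mul]
    congr 1
    funext i
    rw [Matrix.smul_mul, Matrix.one_mul, ← Matrix.smul_mul, ← hcv, Matrix.mul_assoc, ← Units.val_mul,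
      inv_mul_cancel, Units.val_one, Matrix.mul_one]
  rw [eall]
  exact aT.comp (hK.comp a3)

/-- With one exotic block, all block diagonal matrices with Heisenberg blocks are in the group. -/
theorem in_blocks_of_U (hU : HasU M ω) (d : Fin 3 → M3) (hd : ∀ i, InW ω (W3 ω) (d i)) : In M (bd d) := by
  have hω := h.om
  have H3 := h.heis'
  obtain ⟨S, hS, c, hc⟩ := hU
  let P : V3 → Prop := fun v => In M (bd ![1, 1, W3 ω v])
  have fix : ∀ {v : V3} {k : Fin 3}, In M (bd ![1, 1, chi ω k • W3 ω v]) → P v := fun {v k} hk => by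
    have := in_mul (h.in_phase ![0, 0, -k]) hk
    rw [bd_mul] at this
    show In M (bd ![1, 1, W3 ω v])
    convert this using 2
    funext i
    fin_cases i <;> simp [chi_zero, smul_smul, chi_neg hω, show chi ω k * chi ω (-k) = 1 from (mul_comm _ _).trans (chi_neg hω k)]
  have padd : ∀ v w, P v → P w → P (v + w) := fun v w hv hw => by
    refine fix (k := v.2 * w.1) ?_
    have := in_mul hv hw
    rw [bd_mul] at this
    convert this using 2
    funext i
    fin_cases i <;> simp [W3_mul hω]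
  obtain ⟨g, hg⟩ := CfsgLib.HessianMax.exists_unit_of_det (CfsgLib.HessianMax.gm_det hω h.three)
  set gi : M3 := ((g⁻¹ : GL (Fin 3) F) : M3) with hgi
  have gg : gm ω * gi = 1 := by rw [hgi, ← hg, ← Units.val_mul, mul_inv_cancel, Units.val_one]
  have gconj : ∀ v : V3, ∃ k, gm ω * W3 ω v * gi = chi ω k • W3 ω (Jl v) := fun v => by
    obtain ⟨c, hc⟩ := gm_act hω h.three v
    obtain ⟨k, rfl⟩ := H3.act_exists (hg ▸ g.isUnit) hc
    exact ⟨k, by rw [hc, Matrix.smul_mul, Matrix.mul_assoc, gg, Matrix.mul_one]⟩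
  have pJ : ∀ v, P v → P (Jl v) := fun v hv => by
    obtain ⟨k, hk⟩ := gconj v
    refine fix (k := k) ?_
    have := h.in_conj1 h.in_gm gg hv
    convert this using 2
    funext i
    fin_cases i <;> simp [gg, hk]
  have base : P (Jl S - S) := by
    obtain ⟨k, hk⟩ := gconj S
    obtain ⟨m, hm⟩ := H3.neg_mul S
    obtain ⟨l, hl⟩ := H3.mul (Jl S) (-S)
    refine fix (k := k + l + -m) ?_
    have hc' : In M (bd fun i => c i • W3 ω (![0, 0, S] i)) := hc
    obtain ⟨e, he, hee⟩ := h.blk_inv hc'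
    have := in_mul (h.in_conj1 h.in_gm gg hc') he
    rw [bd_mul] at this
    convert this using 2
    funext i
    have h0 : ∀ i, c i • W3 ω (![0, 0, S] i) * e i = 1 := fun i => (hee i).1
    have hi : i = 0 ∨ i = 1 ∨ i = 2 := by revert i; decide
    rcases hi with rfl | rfl | rfl
    · have := h0 0
      simp [W3_zero] at this
      simp [W3_zero, gg, this]
    · have := h0 1
      simp [W3_zero] at this
      simp [W3_zero, gg, this]
    · show chi ω (k + l + -m) • W3 ω (Jl S - S) = gm ω * (c 2 • W3 ω S) * gi * e 2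
      have hc0 : c 2 ≠ 0 := fun e0 => by
        have := h0 2
        simp [e0] at this
      have e2 : e 2 = ((c 2)⁻¹ * chi ω (-m)) • W3 ω (-S) := left_inv_eq_right_inv (hee 2).2 (by
        show c 2 • W3 ω S * _ = 1
        rw [Matrix.smul_mul, Matrix.mul_smul, hm, smul_smul, smul_smul,
          show c 2 * ((c 2)⁻¹ * chi ω (-m)) * chi ω m = 1 by rw [← mul_assoc, mul_inv_cancel₀ hc0, one_mul, chi_neg hω],
          one_smul])
      rw [Matrix.mul_smul, Matrix.smul_mul, hk, e2, Matrix.smul_mul, Matrix.smul_mul, Matrix.mul_smul, hl,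
        smul_smul, smul_smul, smul_smul, sub_eq_add_neg, chi_add hω, chi_add hω]
      congr 1
      field_simp
  have all : ∀ v, P v := by
    intro v
    obtain ⟨a, b, e⟩ := span_J S hS v
    have hz : P 0 := by
      show In M (bd ![1, 1, W3 ω (0 : V3)])
      rw [W3_zero, show (![1, 1, 1] : Fin 3 → M3) = fun _ => 1 by funext i; fin_cases i <;> rfl, bd_one]
      exact in_one
    have hm : ∀ (a : Fin 3) (w : V3), P w → P (a * w.1, a * w.2) := by
      intro a w hw
      have k : ∀ w : V3, ((0 * w.1, 0 * w.2) : V3) = 0 ∧ ((1 * w.1, 1 * w.2) : V3) = w ∧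
          ((2 * w.1, 2 * w.2) : V3) = w + w := by decide
      have hi : a = 0 ∨ a = 1 ∨ a = 2 := by revert a; decide
      rcases hi with rfl | rfl | rfl
      · rw [(k w).1]; exact hz
      · rw [(k w).2.1]; exact hw
      · rw [(k w).2.2]; exact padd _ _ hw hw
    have h2 := padd (a * (Jl S - S).1, a * (Jl S - S).2) (b * (Jl (Jl S - S)).1, b * (Jl (Jl S - S)).2)
      (hm a (Jl S - S) base) (hm b (Jl (Jl S - S)) (pJ (Jl S - S) base))
    rw [Prod.mk_add_mk, ← e] at h2
    exact h2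
  choose k v hv using hd
  have := in_mul (h.in_phase k) (in_mul (h.in_shift (h.in_shift (all (v 0))))
    (in_mul (h.in_shift (all (v 1))) (all (v 2))))
  rw [bd_mul, bd_mul, bd_mul] at this
  convert this using 2
  funext i
  rw [hv i]
  fin_cases i <;> simp

end Setup

end CfsgLib.NineMax
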