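import Cfsg.Agent.Lib.NineMax.CentBase

/-!
The centraliser of the involution of trace `-3` normalises the twisting group.
-/

set_option autoImplicit false
set_option linter.unusedSectionVars false
set_option maxRecDepth 10000
set_option maxHeartbeats 1000000
set_option synthInstance.maxSize 2000

namespace CfsgLib.NineMax

open Matrix
open scoped Kronecker
open CfsgLib.HessianMax (Rsub gm Dm)

variable {F : Type*} [Field F] [Fintype F]

local notation "M3" => Matrix (Fin 3) (Fin 3) F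
local notation "M9" => Matrix (Fin 3 × Fin 3) (Fin 3 × Fin 3) F
local notation "G9" => GL (Fin 3 × Fin 3) F

theorem cent_tbl : ∀ P Q : V3, sy P Q = -1 → (∀ v, ev (P, Q) (Dl v) = Dl (ev (P, Q) v)) →
    (∀ v, ev (P, Q) (ev (P, Q) (ev (P, Q) v)) = v) →
    (∀ v, ev (P, Q) v = v) ∨ (∀ v, ev (P, Q) v = Dl v) ∨ (∀ v, ev (P, Q) v = Dl (Dl v)) := by
  decide +kernel

theorem norm_tbl : ∀ P Q : V3, sy P Q = -1 →
    ((∀ v, ev (P, Q) (Dl v) = ev (P, Q) v) ∨ (∀ v, ev (P, Q) (Dl v) = Dl (ev (P, Q) v)) ∨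
      (∀ v, ev (P, Q) (Dl v) = Dl (Dl (ev (P, Q) v)))) →
    (∀ v, ev (P, Q) (Dl v) = Dl (ev (P, Q) v)) ∧ ∀ v, (ev (P, Q))^[6] v = v := by
  decide +kernel

theorem act_pow {n : Type*} [Fintype n] [DecidableEq n] {V : Type*} [AddCommGroup V] {W : V → Matrix n n F} {A : Matrix n n F}
    {L : V → V} (hA : Act W A L) : ∀ m : ℕ, Act W (A ^ m) L^[m]
  | 0 => by rw [pow_zero]; exact act_one W
  | m + 1 => by rw [pow_succ, Function.iterate_succ]; exact (act_pow hA m).comp hA

/-- The part of the centraliser of the involution acting trivially on its fixed space. -/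
def KK (M : Subgroup G9) (ω : F) : Subgroup G9 where
  carrier := {g | g ∈ M ∧ Commute (g : M9) (tM ω) ∧ uu (g : M9) = 1}
  one_mem' := ⟨one_mem M, by rw [Units.val_one]; exact Commute.one_left _, by rw [Units.val_one, uu_one]⟩
  mul_mem' := by
    rintro a b ⟨ha, ca, ua⟩ ⟨hb, cb, ub⟩
    exact ⟨mul_mem ha hb, by rw [Units.val_mul]; exact ca.mul_left cb,
      by rw [Units.val_mul, uu_mul _ cb, ua, ub, Matrix.one_mul]⟩
  inv_mem' := by
    rintro a ⟨ha, ca, ua⟩
    refine ⟨inv_mem ha, ca.units_inv_left, ?_⟩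
    have := uu_mul ((a⁻¹ : G9) : M9) ca
    rwa [← Units.val_mul, inv_mul_cancel, Units.val_one, uu_one, ua, Matrix.mul_one, eq_comm] at this

/-- The part of `KK` centralising the twists of the second factor. -/
def LL (M : Subgroup G9) (ω : F) : Subgroup G9 where
  carrier := {g | g ∈ KK M ω ∧ ∀ v : V3, Commute (g : M9) (W9 ω ((0 : V3), v))}
  one_mem' := ⟨one_mem _, fun v => by rw [Units.val_one]; exact Commute.one_left _⟩
  mul_mem' := by
    rintro a b ⟨ha, ca⟩ ⟨hb, cb⟩
    exact ⟨mul_mem ha hb, fun v => by rw [Units.val_mul]; exact (ca v).mul_left (cb v)⟩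
  inv_mem' := fun ⟨ha, ca⟩ => ⟨inv_mem ha, fun v => (ca v).units_inv_left⟩

variable {p : ℕ} {ω : F} {M : Subgroup (GL (Fin 3 × Fin 3) F)}

theorem one_act (ω : F) : Act (W9 ω) (((1 : G9) : G9) : M9) (pmap id id) := by
  rw [Units.val_one]; exact (act_one _).congr fun _ => rfl

theorem KK_conj {g k : G9} (hg : g ∈ M) (cg : Commute (g : M9) (tM ω)) (hk : k ∈ KK M ω) :
    g * k * g⁻¹ ∈ KK M ω := by
  obtain ⟨mk, ck, uk⟩ := hk
  refine ⟨mul_mem (mul_mem hg mk) (inv_mem hg), ?_, ?_⟩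
  · rw [Units.val_mul, Units.val_mul]; exact (cg.mul_left ck).mul_left cg.units_inv_left
  · rw [Units.val_mul, Units.val_mul, uu_mul _ cg.units_inv_left, uu_mul _ ck, uk, Matrix.mul_one,
      ← uu_mul _ cg.units_inv_left, ← Units.val_mul, mul_inv_cancel, Units.val_one, uu_one]

namespace Setup

variable (h : Setup p ω M)
include h

theorem x_unit (v : V3) :
    ∃ x : G9, (x : M9) = W9 ω ((0 : V3), v) ∧ x ∈ M ∧ Commute (x : M9) (tM ω) ∧ uu (x : M9) = W3 ω v := by
  obtain ⟨x, hx, ex⟩ := h.in_W ((0 : V3), v)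
  refine ⟨x, ex, hx, ex ▸ W_comm_tM ω v, ?_⟩
  rw [ex, W9_snd, uu_kron]
  simp

/-- Normalising elements of `KK` centralise the second factor. -/
theorem KK_normalising {k : G9} (hk : k ∈ KK M ω) {L : V4 → V4} (aL : Act (W9 ω) (k : M9) L) :
    k ∈ LL M ω := by
  have H := h.heis
  obtain ⟨mk, ck, uk⟩ := hk
  refine ⟨⟨mk, ck, uk⟩, fun v => ?_⟩
  have e1 : ∀ w, L (Lt w) = Lt (L w) := fun w =>
    H.act_uniq (k.isUnit.mul (h.in_unit h.in_tM)) (L := L ∘ Lt) (K := Lt ∘ L) (aL.comp (tM_act h.om))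
      (ck.eq ▸ (tM_act h.om).comp aL) w
  have hv : (L ((0 : V3), v)).1 = 0 := by
    have := congrArg Prod.fst (e1 ((0 : V3), v))
    simp only [Lt, neg_zero] at this
    have k0 : ∀ a : V3, a = -a → a = 0 := by decide
    exact k0 _ this
  obtain ⟨c, hc⟩ := aL ((0 : V3), v)
  obtain ⟨v', hv'⟩ : ∃ v', L ((0 : V3), v) = ((0 : V3), v') := ⟨_, Prod.ext hv rfl⟩
  rw [hv'] at hc
  have := congrArg uu hc
  rw [uu_mul _ (W_comm_tM ω v), uu_smul, uu_mul _ ck, uk, Matrix.one_mul, Matrix.mul_one, W9_snd, W9_snd, uu_kron,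
    uu_kron] at this
  simp only [one_apply_eq, ne_eq, Fin.reduceEq, not_false_eq_true, one_apply_ne, sub_zero, one_smul] at this
  have hvv := h.heis'.inj _ _ c this
  subst hvv
  have hc1 : c = 1 := by
    refine (smul_left_injective F (h.heis'.isUnit v).ne_zero ?_).symm
    show (1 : F) • W3 ω v = c • W3 ω v
    rw [one_smul]; exact this
  rwa [hc1, one_smul] at hc

/-- One centralised twist of the second factor is enough. -/
theorem LL_of_one {k : G9} (hk : k ∈ KK M ω) {v : V3} (hv : v ≠ 0) (hc : Commute (k : M9) (W9 ω ((0 : V3), v))) :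
    k ∈ LL M ω := by
  obtain ⟨L, hL⟩ := h.act_commW ⟨k, hk.1, rfl⟩ hv hc
  exact h.KK_normalising hk hL

/-- Elements of `LL` move only the first factor. -/
theorem LL_act {k : G9} (hk : k ∈ LL M ω) : ∃ Λ : V3 → V3, Act (W9 ω) (k : M9) (pmap Λ id) ∧
    (∀ v, Λ v = ev (Λ (1, 0), Λ (0, 1)) v) ∧ sy (Λ (1, 0)) (Λ (0, 1)) = -1 := by
  have H := h.heis
  obtain ⟨L, aL⟩ := h.act_commW (A := (k : M9)) ⟨k, hk.1.1, rfl⟩ (v := (1, 0)) (by decide) (hk.2 _)
  have hfix : ∀ v : V3, L ((0 : V3), v) = ((0 : V3), v) := fun v => by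
    obtain ⟨c, hc⟩ := aL ((0 : V3), v)
    rw [(hk.2 v).eq, ← Matrix.smul_mul] at hc
    exact (H.inj _ _ c (k.isUnit.mul_left_injective hc)).symm
  have hsnd : ∀ u : V3, (L (u, (0 : V3))).2 = 0 := fun u => by
    have e : ∀ v, sy (L (u, (0 : V3))).2 v = 0 := fun v => by
      have := H.act_symp k.isUnit aL (u, (0 : V3)) ((0 : V3), v)
      rw [hfix] at this
      simpa [sy4, sy] using this
    have k0 : ∀ a : V3, (∀ v, sy a v = 0) → a = 0 := by decide
    exact k0 _ e
  refine ⟨fun u => (L (u, (0 : V3))).1, aL.congr fun v => ?_, additive3 fun v w => ?_, ?_⟩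
  · have e : ((v.1, 0) : V4) + (0, v.2) = v := Prod.ext (add_zero _) (zero_add _)
    conv_lhs => rw [← e]
    rw [H.act_add k.isUnit aL, hfix]
    refine Prod.ext ?_ ?_
    · simp [pmap]
    · simp [pmap, hsnd]
  · have := congrArg Prod.fst (H.act_add k.isUnit aL (v, (0 : V3)) (w, (0 : V3)))
    rwa [Prod.mk_add_mk, add_zero] at this
  · have := H.act_symp k.isUnit aL (((1, 0) : V3), (0 : V3)) (((0, 1) : V3), (0 : V3))
    simp only [sy4, hsnd] at this
    simpa [sy] using this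

/-- An element of `LL` is determined by its action. -/
theorem LL_eq {a b : G9} (ha : a ∈ LL M ω) (hb : b ∈ LL M ω) {L : V4 → V4} (aa : Act (W9 ω) (a : M9) L)
    (ab : Act (W9 ω) (b : M9) L) : a = b := by
  have H := h.heis
  haveI : Finite (GL V3 F) := Finite.of_injective _ Units.val_injective
  obtain ⟨Ki, abi⟩ := H.mem_normalizer_iff.1 (inv_mem (H.mem_normalizer_iff.2 ⟨L, ab⟩))
  have hid : ∀ v, Ki (L v) = v := fun v => H.act_uniq isUnit_one (L := Ki ∘ L) (K := id)
    (by rw [← Units.val_one, ← inv_mul_cancel b, Units.val_mul]; exact abi.comp ab) (act_one _) v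
  obtain ⟨k, hk⟩ : ∃ k, k = b⁻¹ * a := ⟨_, rfl⟩
  have kL : k ∈ LL M ω := hk ▸ mul_mem (inv_mem hb) ha
  have ak : Act (W9 ω) (k : M9) id := (show Act (W9 ω) (k : M9) (Ki ∘ L) by
    rw [hk, Units.val_mul]; exact abi.comp aa).congr hid
  obtain ⟨c, u, hc0, e⟩ := H.act_id k.isUnit ak
  obtain ⟨⟨-, ck, uk⟩, hcv⟩ := kL
  have hu : u = 0 := by
    have h2 : ∀ v, sy u.2 v = 0 := fun v => by
      have h1 := (hcv v).eq
      rw [e, Matrix.smul_mul, Matrix.mul_smul] at h1
      have := smul_right_injective M9 hc0 h1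
      rw [H.comm u ((0 : V3), v)] at this
      have hne : W9 ω ((0 : V3), v) * W9 ω u ≠ 0 := ((H.isUnit _).mul (H.isUnit _)).ne_zero
      have e0 := smul_left_injective F hne (this.trans (one_smul F _).symm)
      have := chi_inj h.om h.three (e0.trans chi_zero.symm)
      simpa [sy4, sy] using this
    have k0 : ∀ a : V3, (∀ v, sy a v = 0) → a = 0 := by decide
    have k1 : ∀ a : V3, a = -a → a = 0 := by decide
    obtain ⟨d, hd⟩ := tM_act h.om u
    have h1 := ck.eq
    rw [e, Matrix.smul_mul, Matrix.mul_smul, hd] at h1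
    have h3 := smul_right_injective M9 hc0 h1
    rw [← Matrix.smul_mul] at h3
    have h4 := H.inj _ _ d ((h.in_unit h.in_tM).mul_left_injective h3)
    exact Prod.ext (k1 _ (congrArg Prod.fst h4)) (k0 _ h2)
  rw [e, hu, W9_zero, uu_smul, uu_one] at uk
  have hc1 : c = 1 := by simpa using congrFun (congrFun uk 0) 0
  rw [hu, W9_zero, hc1, one_smul] at e
  have hk1 : k = 1 := Units.ext e
  rw [hk1, eq_comm, inv_mul_eq_one] at hk
  exact hk.symm

/-- The diagonal element of order three in `LL`. -/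
theorem exists_tau : ∃ t : G9, t ∈ LL M ω ∧ (t : M9) = Dm ω ⊗ₖ (1 : M3) ∧ Act (W9 ω) (t : M9) (pmap Dl id) ∧
    t ^ 3 = 1 := by
  have a : Act (W9 ω) (Dm ω ⊗ₖ (1 : M3)) (pmap Dl id) := kron_act (Dm_act h.om h.three) (act_one _)
  obtain ⟨t, ht, et⟩ := h.in_act (A := Dm ω ⊗ₖ (1 : M3)) (by simp [det_kronecker, Dm_det h.om, CfsgLib.HessianMax.om3 h.om]) a
  have htL : t ∈ LL M ω := ⟨⟨ht, et ▸ kron_comm_tM ω (Dm_comm_S3 ω), by rw [et, uu_kron]; simp [Dm]⟩, fun v => by
    rw [et, W9_snd, Commute, SemiconjBy, ← mul_kronecker_mul, ← mul_kronecker_mul, Matrix.mul_one, Matrix.one_mul,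
      Matrix.mul_one, Matrix.one_mul]⟩
  refine ⟨t, htL, et, et.symm ▸ a, h.LL_eq (pow_mem htL 3) (one_mem _) ?_ (L := id) ((one_act ω).congr fun _ => rfl)⟩
  rw [Units.val_pow_eq_pow_val, et]
  refine (act_pow a 3).congr fun v => ?_
  have k3 : ∀ v : V3, Dl (Dl (Dl v)) = v := by decide
  exact Prod.ext (k3 v.1) rfl

/-- Everything acting trivially on the fixed space centralises the second factor. -/
theorem KK_le : KK M ω ≤ LL M ω := by
  classical
  haveI : Finite (GL V3 F) := Finite.of_injective _ Units.val_injective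
  haveI : Fact (Nat.Prime 3) := ⟨Nat.prime_three⟩
  have H := h.heis
  obtain ⟨t, htL, et, aT, t3⟩ := h.exists_tau
  set P := Subgroup.zpowers t with hPdef
  have memP : ∀ x ∈ P, x = 1 ∨ x = t ∨ x = t * t := by
    intro x hx
    obtain ⟨n, rfl⟩ := Subgroup.mem_zpowers_iff.1 hx
    have e : t ^ n = t ^ (n % 3) := by
      conv_lhs => rw [← Int.emod_add_ediv_mul n 3, _root_.zpow_add, mul_comm (n / 3), _root_.zpow_mul, zpow_ofNat, t3, _root_.one_zpow,
        mul_one]
    rw [e]
    have : n % 3 = 0 ∨ n % 3 = 1 ∨ n % 3 = 2 := by omega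
    rcases this with h' | h' | h' <;> rw [h']
    · exact Or.inl (zpow_zero t)
    · exact Or.inr (Or.inl (zpow_one t))
    · exact Or.inr (Or.inr (by rw [zpow_two]))
  have hPgr : IsPGroup 3 P := fun x => ⟨1, Subtype.ext (by
    rcases memP x x.2 with e | e | e
    · simp [e]
    · simp [e, t3]
    · simp only [pow_one, SubmonoidClass.coe_pow, e, OneMemClass.coe_one]
      rw [← pow_two, ← pow_mul, mul_comm, pow_mul, t3, one_pow])⟩
  have hPL : P ≤ LL M ω := Subgroup.zpowers_le.2 htL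
  have hPK : P ≤ KK M ω := fun x hx => (hPL hx).1
  -- elements of `LL` commuting with the torus of order three
  have centP : ∀ f ∈ LL M ω, f * t = t * f → f ^ 3 = 1 → f ∈ P := by
    intro f hf hft hf3
    obtain ⟨Λ, aΛ, hev, hsy⟩ := h.LL_act hf
    have e1 : ∀ v, Λ (Dl v) = Dl (Λ v) := fun v => congrArg Prod.fst
      (H.act_uniq (f.isUnit.mul t.isUnit) (L := pmap Λ id ∘ pmap Dl id) (K := pmap Dl id ∘ pmap Λ id) (aΛ.comp aT)
        (by rw [← Units.val_mul, hft, Units.val_mul]; exact aT.comp aΛ) (v, (0 : V3)))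
    have e3 : ∀ v, Λ (Λ (Λ v)) = v := fun v => congrArg Prod.fst
      (H.act_uniq isUnit_one (L := (pmap Λ id)^[3]) (K := id)
        (by rw [← Units.val_one, ← hf3, Units.val_pow_eq_pow_val]; exact act_pow aΛ 3) (act_one _) (v, (0 : V3)))
    rcases cent_tbl _ _ hsy (fun v => by rw [← hev, ← hev]; exact e1 v)
      (fun v => by rw [← hev, ← hev, ← hev]; exact e3 v) with e | e | e
    · rw [h.LL_eq hf (one_mem _) aΛ ((one_act ω).congr fun v => Prod.ext ((hev v.1).trans (e v.1)).symm rfl)]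
      exact one_mem P
    · rw [h.LL_eq hf htL aΛ (aT.congr fun v => Prod.ext ((hev v.1).trans (e v.1)).symm rfl)]
      exact Subgroup.mem_zpowers t
    · rw [h.LL_eq hf (mul_mem htL htL) aΛ ((show Act (W9 ω) ((t * t : G9) : M9) (pmap Dl id ∘ pmap Dl id) by
        rw [Units.val_mul]; exact aT.comp aT).congr fun v => Prod.ext ((hev v.1).trans (e v.1)).symm rfl)]
      exact mul_mem (Subgroup.mem_zpowers t) (Subgroup.mem_zpowers t)
  have normP : ∀ s ∈ LL M ω, (∀ x ∈ P, s * x * s⁻¹ ∈ P) → s * t = t * s ∧ s ^ 6 = 1 := by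
    intro s hs hn
    obtain ⟨Λ, aΛ, hev, hsy⟩ := h.LL_act hs
    have key : ∀ x : G9, ∀ K : V3 → V3, Act (W9 ω) (x : M9) (pmap K id) → s * t * s⁻¹ = x →
        ∀ v, Λ (Dl v) = K (Λ v) := fun x K ax ex v => congrArg Prod.fst
      (H.act_uniq (s.isUnit.mul t.isUnit) (L := pmap Λ id ∘ pmap Dl id) (K := pmap K id ∘ pmap Λ id) (aΛ.comp aT)
        (by rw [← Units.val_mul, ← inv_mul_cancel_right (s * t) s, ex, Units.val_mul]; exact ax.comp aΛ) (v, (0 : V3)))
    have hk : (∀ v, Λ (Dl v) = Λ v) ∨ (∀ v, Λ (Dl v) = Dl (Λ v)) ∨ (∀ v, Λ (Dl v) = Dl (Dl (Λ v))) := by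
      rcases memP _ (hn t (Subgroup.mem_zpowers t)) with e | e | e
      · exact Or.inl (key 1 id (one_act ω) e)
      · exact Or.inr (Or.inl (key t Dl aT e))
      · exact Or.inr (Or.inr (key (t * t) (Dl ∘ Dl) (by rw [Units.val_mul]; exact (aT.comp aT).congr fun _ => rfl) e))
    obtain ⟨hc, h6⟩ := norm_tbl _ _ hsy (by simpa only [← hev] using hk)
    have hΛ : ev (Λ (1, 0), Λ (0, 1)) = Λ := funext fun v => (hev v).symm
    rw [hΛ] at hc h6
    refine ⟨h.LL_eq (mul_mem hs htL) (mul_mem htL hs) (L := pmap Λ id ∘ pmap Dl id)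
      (by rw [Units.val_mul]; exact aΛ.comp aT)
      ((show Act (W9 ω) ((t * s : G9) : M9) (pmap Dl id ∘ pmap Λ id) by rw [Units.val_mul]; exact aT.comp aΛ).congr
        fun v => Prod.ext (hc v.1).symm rfl),
      h.LL_eq (pow_mem hs 6) (one_mem _) (L := id) ?_ ((one_act ω).congr fun _ => rfl)⟩
    rw [Units.val_pow_eq_pow_val]
    exact (act_pow aΛ 6).congr fun v => Prod.ext (h6 v.1) rfl
  -- the twists of the second factor
  choose x ex hxM hxc hxu using h.x_unit
  have hxP : ∀ v, ∀ y ∈ P, x v * y = y * x v := fun v y hy => Units.ext (by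
    rw [Units.val_mul, Units.val_mul, ex]; exact ((hPL hy).2 v).eq.symm)
  -- elements whose commutators with the twists lie in the torus
  have fixl : ∀ w ∈ KK M ω, (∀ v, w⁻¹ * x v * w * (x v)⁻¹ ∈ LL M ω ∧
      (w⁻¹ * x v * w * (x v)⁻¹) * t = t * (w⁻¹ * x v * w * (x v)⁻¹)) → w ∈ LL M ω := by
    intro w hw hf
    obtain ⟨f, hf'⟩ : ∃ f, f = fun v => w⁻¹ * x v * w * (x v)⁻¹ := ⟨_, rfl⟩
    have hfL : ∀ v, f v ∈ LL M ω := fun v => hf' ▸ (hf v).1
    have hfx : ∀ u v, x u * f v = f v * x u := fun u v => Units.ext (by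
      rw [Units.val_mul, Units.val_mul, ex]; exact ((hfL v).2 u).eq.symm)
    have fadd : ∀ u v, f (u + v) = f u * f v := fun u v => by
      obtain ⟨k, hk⟩ := h.heis.mul ((0 : V3), u) ((0 : V3), v)
      rw [show ((0 : V3), u) + ((0 : V3), v) = ((0 : V3), u + v) from Prod.ext (add_zero 0) rfl] at hk
      obtain ⟨z, hz, ez⟩ := h.in_chi k
      have hzc : ∀ y : G9, z * y = y * z := fun y => Units.ext (by
        rw [Units.val_mul, Units.val_mul, ez, Matrix.smul_mul, Matrix.mul_smul, Matrix.one_mul, Matrix.mul_one])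
      have e : x u * x v = z * x (u + v) := Units.ext (by
        rw [Units.val_mul, Units.val_mul, ex, ex, ex, ez, hk, Matrix.smul_mul, Matrix.one_mul])
      calc f (u + v) = w⁻¹ * (x u * x v) * w * (x u * x v)⁻¹ := by
            rw [hf', e]; simp only
            rw [_root_.mul_inv_rev, ← mul_assoc w⁻¹ z, ← hzc w⁻¹]
            calc w⁻¹ * x (u + v) * w * (x (u + v))⁻¹
                = z * (w⁻¹ * x (u + v) * w * (x (u + v))⁻¹) * z⁻¹ := by rw [hzc, mul_inv_cancel_right]
              _ = _ := by group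
        _ = (w⁻¹ * x u * w * (x u)⁻¹) * (x u * (w⁻¹ * x v * w * (x v)⁻¹) * (x u)⁻¹) := by group
        _ = f u * f v := by
            have := hfx u v
            rw [hf'] at this ⊢
            simp only at this ⊢
            rw [this, mul_inv_cancel_right]
    have f0 : f 0 = 1 := by
      have := fadd 0 0
      rw [add_zero] at this
      exact left_eq_mul.1 this
    have hfP : ∀ v, f v ∈ P := fun v => centP _ (hfL v) (hf' ▸ (hf v).2) (by
      have k3 : ∀ v : V3, v + v + v = 0 := by decide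
      rw [pow_succ, pow_two, ← fadd, ← fadd, k3, f0])
    obtain ⟨u, v, huv, e⟩ : ∃ u v, u ≠ v ∧ f u = f v := by
      by_contra hne
      push Not at hne
      have hle := Finset.card_le_card_of_injOn (s := (Finset.univ : Finset V3)) (t := {1, t, t * t}) f
        (fun v _ => by simpa using memP _ (hfP v))
        (fun u _ v _ huv => by_contra fun e => hne u v e huv)
      have := hle.trans Finset.card_le_three
      simp at this
    have e1 : f (u - v) = 1 := by
      have := fadd (u - v) v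
      rw [sub_add_cancel, e] at this
      exact right_eq_mul.1 this
    refine h.LL_of_one hw (sub_ne_zero.2 huv) ?_
    rw [hf'] at e1
    simp only at e1
    rw [mul_inv_eq_one, mul_assoc, inv_mul_eq_iff_eq_mul] at e1
    have := congrArg Units.val e1
    rw [Units.val_mul, Units.val_mul, ex] at this
    exact this.symm
  let E : Subgroup G9 :=
    { carrier := {g | ∃ k v, (g : M9) = chi ω k • W9 ω ((0 : V3), v)}
      one_mem' := ⟨0, 0, by rw [chi_zero, one_smul, Units.val_one]; exact (W9_zero).symm⟩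
      mul_mem' := by
        rintro a b ⟨k, u, e⟩ ⟨l, v, e'⟩
        obtain ⟨m, hm⟩ := h.heis.mul ((0 : V3), u) ((0 : V3), v)
        rw [show ((0 : V3), u) + ((0 : V3), v) = ((0 : V3), u + v) from Prod.ext (add_zero 0) rfl] at hm
        exact ⟨k + l + m, u + v, by
          rw [Units.val_mul, e, e', Matrix.smul_mul, Matrix.mul_smul, hm, smul_smul, smul_smul, chi_add h.om,
            chi_add h.om, mul_assoc]⟩
      inv_mem' := by
        rintro a ⟨k, v, e⟩
        obtain ⟨m, hm⟩ := h.heis.mul ((0 : V3), v) ((0 : V3), v)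
        rw [show ((0 : V3), v) + ((0 : V3), v) = ((0 : V3), v + v) from Prod.ext (add_zero 0) rfl] at hm
        have h2 : ((a⁻¹ : G9) : M9) = (a : M9) ^ 2 := by
          have h3 : a ^ 2 * a = 1 := Units.ext (by
            rw [← pow_succ, Units.val_pow_eq_pow_val, H.inW_cube ⟨k, _, e⟩, Units.val_one])
          rw [inv_eq_of_mul_eq_one_left h3, Units.val_pow_eq_pow_val]
        exact ⟨k + k + m, v + v, by
          rw [h2, pow_two, e, Matrix.smul_mul, Matrix.mul_smul, hm, smul_smul, smul_smul, chi_add h.om,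
            chi_add h.om, mul_assoc]⟩ }
  have hE : IsPGroup 3 E := fun e => ⟨1, Subtype.ext (Units.ext (by
    obtain ⟨k, v, hv⟩ := e.2
    simpa using H.inW_cube ⟨k, _, hv⟩))⟩
  have hEx : ∀ v, x v ∈ E := fun v => ⟨0, v, by rw [chi_zero, one_smul, ex]⟩
  have hEM : ∀ e ∈ E, e ∈ M ∧ Commute (e : M9) (tM ω) := by
    rintro e ⟨k, v, hv⟩
    refine ⟨?_, by rw [hv]; exact (W_comm_tM ω v).smul_left _⟩
    obtain ⟨z, hz, ez⟩ := h.in_chi k
    have : e = z * x v := Units.ext (by rw [hv, Units.val_mul, ez, ex, Matrix.smul_mul, Matrix.one_mul])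
    exact this ▸ mul_mem hz (hxM v)
  have hEP : ∀ e ∈ E, ∀ y ∈ P, e * y = y * e := by
    rintro e ⟨k, v, hv⟩ y hy
    refine Units.ext ?_
    rw [Units.val_mul, Units.val_mul, hv, Matrix.smul_mul, Matrix.mul_smul, ((hPL hy).2 v).eq]
  have memC : ∀ j : G9, j ∈ Subgroup.centralizer (P : Set G9) ↔ ∀ y ∈ P, j * y = y * j := fun j => by
    rw [Subgroup.mem_centralizer_iff]
    exact ⟨fun hj y hy => (hj y hy).symm, fun hj y hy => (hj y hy).symm⟩
  -- the torus is a Sylow subgroup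
  have hsyl : ∀ Q : Subgroup G9, IsPGroup 3 Q → P ≤ Q → Q ≤ KK M ω → Q = P := by
    intro Q hQ hPQ hQK
    by_contra hne
    haveI : Group.IsNilpotent Q := hQ.isNilpotent
    have hlt : P.subgroupOf Q < ⊤ := lt_top_iff_ne_top.2 fun e =>
      hne (le_antisymm (Subgroup.subgroupOf_eq_top.1 e) hPQ)
    obtain ⟨q, hq, hqP⟩ := SetLike.exists_of_lt (normalizerCondition_of_isNilpotent _ hlt)
    have hqn : ∀ y ∈ P, (q : G9) * y * (q : G9)⁻¹ ∈ P := fun y hy => by
      have := (Subgroup.mem_normalizer_iff.1 hq ⟨y, hPQ hy⟩).1 hy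
      exact this
    set Y := KK M ω ⊓ Subgroup.normalizer (P : Set G9) with hY
    have hnP : ∀ y : G9, (∀ z ∈ P, y * z * y⁻¹ ∈ P) → y ∈ Subgroup.normalizer (P : Set G9) := by
      intro y hy
      have : Subgroup.zpowers y ≤ Subgroup.normalizer (P : Set G9) := by
        rw [Subgroup.zpowers_le, Subgroup.mem_normalizer_iff]
        intro z
        refine ⟨hy z, fun hz => ?_⟩
        let g : P → P := fun a => ⟨y * a * y⁻¹, hy a a.2⟩
        have hinj : Function.Injective g := fun a b h => Subtype.ext (by simpa [g] using congrArg Subtype.val h)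
        obtain ⟨a, ha⟩ := (Finite.injective_iff_surjective.1 hinj) ⟨y * z * y⁻¹, hz⟩
        have : (a : G9) = z := by simpa [g] using congrArg Subtype.val ha
        exact this ▸ a.2
      exact this (Subgroup.mem_zpowers y)
    have hPY : P ≤ Y := fun y hy => ⟨hPK hy, Subgroup.le_normalizer hy⟩
    obtain ⟨s, hsY, hsP, ⟨m, hm⟩, hs⟩ := exists_fixed_coset (E := E) (P := P) (Y := Y) hE hPgr hPY
      (fun y hy z hz => (Subgroup.mem_normalizer_iff.1 hy.2 z).1 hz)
      (fun e he y hy => ⟨KK_conj (hEM e he).1 (hEM e he).2 hy.1, Subgroup.mul_mem _ (Subgroup.mul_mem _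
        (hnP e fun z hz => by rw [hEP e he z hz, mul_inv_cancel_right]; exact hz) hy.2)
        (Subgroup.inv_mem _ (hnP e fun z hz => by rw [hEP e he z hz, mul_inv_cancel_right]; exact hz))⟩)
      hEP (Q := (Q ⊓ Subgroup.normalizer (P : Set G9))) (hQ.to_le inf_le_left)
      (lt_of_le_of_ne (le_inf hPQ Subgroup.le_normalizer) fun e => hqP (by
        show (q : G9) ∈ P
        rw [e]; exact ⟨q.2, hnP _ hqn⟩))
      (inf_le_inf_right _ hQK)
    have hsn := fun y hy => (Subgroup.mem_normalizer_iff.1 hsY.2 y).1 hy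
    have hsL : s ∈ LL M ω := fixl s hsY.1 fun v => by
      refine ⟨hPL (hs _ (hEx v)), ?_⟩
      rcases memP _ (hs _ (hEx v)) with e | e | e <;> rw [e] <;> simp [mul_assoc]
    obtain ⟨hst, h6⟩ := normP s hsL hsn
    refine hsP (centP s hsL hst ?_)
    have hd := Nat.dvd_gcd (orderOf_dvd_of_pow_eq_one hm) (orderOf_dvd_of_pow_eq_one h6)
    refine orderOf_dvd_iff_pow_eq_one.1 (hd.trans ?_)
    have : Nat.Coprime (3 ^ m) 2 := Nat.Coprime.pow_left m (by decide)
    rw [show (6 : ℕ) = 3 * 2 from rfl, Nat.Coprime.gcd_mul_right_cancel_right 3 this.symm]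
    exact Nat.gcd_dvd_right _ _
  let π := QuotientGroup.mk' (Subgroup.center G9)
  have scal_of : ∀ a b : G9, π a = π b → ∃ c : F, (b : M9) = c • (a : M9) := by
    intro a b hab
    rw [QuotientGroup.mk'_apply, QuotientGroup.mk'_apply, QuotientGroup.eq, Subgroup.mem_center_iff] at hab
    obtain ⟨c, hc⟩ := h.heis.scal ((a⁻¹ * b : G9) : M9) fun v => by
      obtain ⟨g, hg⟩ := h.heis.isUnit v
      rw [← hg, ← Units.val_mul, ← Units.val_mul, hab g]
    refine ⟨c, ?_⟩
    rw [show b = a * (a⁻¹ * b) by group, Units.val_mul, hc, Matrix.mul_smul, Matrix.mul_one]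
  haveI : IsMulCommutative (E.map π) := ⟨⟨by
    rintro ⟨_, a, ha, rfl⟩ ⟨_, b, hb, rfl⟩
    refine Subtype.ext (show π a * π b = π b * π a from ?_)
    obtain ⟨k, u, eu⟩ := ha
    obtain ⟨l, v, ev'⟩ := hb
    rw [← map_mul, ← map_mul, QuotientGroup.mk'_apply, QuotientGroup.mk'_apply, QuotientGroup.eq,
      Subgroup.mem_center_iff]
    intro g
    obtain ⟨c, hc⟩ : ∃ c : F, ((b * a : G9) : M9) = c • ((a * b : G9) : M9) := ⟨chi ω (sy4 ((0 : V3), v) ((0 : V3), u)), by
      rw [Units.val_mul, Units.val_mul, eu, ev']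
      simp only [Matrix.smul_mul, Matrix.mul_smul, smul_smul]
      rw [H.comm ((0 : V3), v) ((0 : V3), u), smul_smul]
      congr 1
      ring⟩
    have e : (((a * b)⁻¹ * (b * a) : G9) : M9) = c • 1 := by
      rw [Units.val_mul, hc, Matrix.mul_smul, ← Units.val_mul, inv_mul_cancel, Units.val_one]
    exact Units.ext (by rw [Units.val_mul g, Units.val_mul _ g, e, Matrix.smul_mul, Matrix.mul_smul, Matrix.one_mul,
      Matrix.mul_one])⟩⟩
  have hA : ¬ IsCyclic (E.map π) := by
    intro hc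
    obtain ⟨g, hg⟩ := hc.exists_generator
    have hinj : Function.Injective fun v => (⟨π (x v), x v, hEx v, rfl⟩ : E.map π) := by
      intro u v huv
      obtain ⟨c, hc⟩ := scal_of _ _ (congrArg Subtype.val huv).symm
      rw [ex, ex] at hc
      exact congrArg Prod.snd (H.inj _ _ c hc)
    have h9 := Nat.card_le_card_of_injective _ hinj
    obtain ⟨⟨_, a, ⟨k, v, hv⟩, rfl⟩, -⟩ : ∃ g' : E.map π, g' = g := ⟨g, rfl⟩
    have hord : orderOf g ≤ 3 := by
      obtain ⟨_, a, ⟨k, v, hv⟩, rfl⟩ := g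
      refine orderOf_le_of_pow_eq_one (by norm_num) (Subtype.ext ?_)
      show π a ^ 3 = 1
      rw [← map_pow, show a ^ 3 = 1 from Units.ext (by
        rw [Units.val_pow_eq_pow_val, H.inW_cube ⟨k, _, hv⟩, Units.val_one]), map_one]
    rw [orderOf_eq_card_of_forall_mem_zpowers hg] at hord
    rw [Nat.card_eq_fintype_card (α := V3)] at h9
    simp only [Fintype.card_prod, Fintype.card_fin] at h9
    omega
  have hfix : ∀ g ∈ E.map π, g ≠ 1 → ∀ j ∈ KK M ω, π j * g = g * π j → j ∈ LL M ω := by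
    rintro _ ⟨e, ⟨k, v, hv⟩, rfl⟩ hne j hj hcomm
    have hv0 : v ≠ 0 := by
      intro e0
      refine hne ?_
      rw [QuotientGroup.mk'_apply, QuotientGroup.eq_one_iff, Subgroup.mem_center_iff]
      intro g
      refine Units.ext ?_
      rw [Units.val_mul, Units.val_mul, hv, e0, show W9 ω ((0 : V3), (0 : V3)) = (1 : M9) from W9_zero,
        Matrix.mul_smul, Matrix.smul_mul, Matrix.mul_one, Matrix.one_mul]
    rw [← map_mul, ← map_mul] at hcomm
    obtain ⟨c, hc⟩ := scal_of _ _ hcomm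
    have hu := congrArg uu hc
    rw [Units.val_mul, Units.val_mul, hv] at hc hu
    rw [uu_smul, uu_mul _ hj.2.1, uu_mul _ ((W_comm_tM ω v).smul_left _), hj.2.2, Matrix.one_mul, Matrix.mul_one,
      uu_smul, W9_snd, uu_kron, smul_smul] at hu
    simp only [one_apply_eq, ne_eq, Fin.reduceEq, not_false_eq_true, one_apply_ne, sub_zero, one_smul, mul_one] at hu
    rw [smul_smul] at hu
    have hc1 : c = 1 := by
      have := smul_left_injective F (h.heis'.isUnit v).ne_zero hu
      exact mul_right_cancel₀ (chi_ne_zero h.om k) (by rw [one_mul]; exact this.symm)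
    rw [hc1, one_smul, Matrix.mul_smul, Matrix.smul_mul] at hc
    exact h.LL_of_one hj hv0 (smul_right_injective M9 (chi_ne_zero h.om k) hc).symm
  have hinj : ∀ j ∈ KK M ω, π j = 1 → j = 1 := by
    intro j hj e
    obtain ⟨c, hc⟩ := scal_of 1 j (by rw [e, map_one])
    have hu := hj.2.2
    rw [hc, Units.val_one, uu_smul, uu_one] at hu
    have hc1 : c = 1 := by simpa using congrFun (congrFun hu 0) 0
    exact Units.ext (by rw [hc, hc1, one_smul, Units.val_one])
  -- the centraliser of the torus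
  have hC : KK M ω ⊓ Subgroup.centralizer (P : Set G9) ≤ LL M ω := by
    refine le_of_centralisers π hA hE (le_inf hPK fun y hy => (memC y).2 fun z hz => ?_) hPgr
      (fun Q hQ h1 h2 => hsyl Q hQ h1 (h2.trans inf_le_left)) (fun j hj _ y hy => (memC j).1 hj.2 y hy) ?_
      (fun j hj => hinj j hj.1) hPL (fun g hg h1 j hj => hfix g hg h1 j hj.1)
    · rcases memP y hy with rfl | rfl | rfl <;> rcases memP z hz with rfl | rfl | rfl <;> simp [mul_assoc]
    · intro e he j hj
      exact ⟨KK_conj (hEM e he).1 (hEM e he).2 hj.1, Subgroup.mul_mem _ (Subgroup.mul_mem _ ((memC e).2 (hEP e he)) hj.2)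
        (Subgroup.inv_mem _ ((memC e).2 (hEP e he)))⟩
  refine le_of_centralisers π hA hE hPK hPgr hsyl (fun w hw hn y hy => ?_)
    (fun e he j hj => KK_conj (hEM e he).1 (hEM e he).2 hj) hinj hPL hfix
  have hwL : w ∈ LL M ω := fixl w hw fun v => by
    have hmem : w⁻¹ * x v * w * (x v)⁻¹ ∈ KK M ω ⊓ Subgroup.centralizer (P : Set G9) := by
      refine ⟨?_, (memC _).2 fun z hz => ?_⟩
      · rw [mul_assoc _ w, mul_assoc]
        refine Subgroup.mul_mem _ (Subgroup.inv_mem _ hw) ?_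
        rw [← mul_assoc]
        exact KK_conj (hxM v) (hxc v) hw
      · have e1 := hxP v _ (hn z hz)
        calc w⁻¹ * x v * w * (x v)⁻¹ * z = w⁻¹ * x v * w * (z * (x v)⁻¹) := by
              rw [mul_assoc _ (x v)⁻¹, ← (show Commute (x v) z from hxP v z hz).inv_left.eq.symm]
          _ = w⁻¹ * (x v * (w * z * w⁻¹)) * w * (x v)⁻¹ := by group
          _ = w⁻¹ * (w * z * w⁻¹ * x v) * w * (x v)⁻¹ := by rw [e1]
          _ = z * (w⁻¹ * x v * w * (x v)⁻¹) := by group
    exact ⟨hC hmem, (memC _).1 hmem.2 t (Subgroup.mem_zpowers t)⟩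
  rcases memP y hy with rfl | rfl | rfl
  · simp
  · exact (normP w hwL hn).1
  · rw [← mul_assoc, (normP w hwL hn).1, mul_assoc, (normP w hwL hn).1, ← mul_assoc]

/-- The centraliser of the involution normalises. -/
theorem act_of_comm_tM {g : G9} (hg : g ∈ M) (cg : Commute (g : M9) (tM ω)) :
    ∃ L, Act (W9 ω) (g : M9) L := by
  haveI : Finite (GL V3 F) := Finite.of_injective _ Units.val_injective
  haveI : Finite (GL (Fin 3) F) := Finite.of_injective _ Units.val_injective
  have H := h.heis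
  have H3 := h.heis'
  have hKL := h.KK_le
  obtain ⟨x, ex, hx, cx, ux⟩ := h.x_unit (1, 0)
  -- fixed twist
  have stepg : ∀ a : G9, a ∈ M → Commute (a : M9) (tM ω) → Commute (uu (a : M9)) (W3 ω (1, 0)) →
      ∃ L, Act (W9 ω) (a : M9) L := by
    intro a ha ca hu
    obtain ⟨l, hl⟩ : ∃ l, l = a * x * a⁻¹ * x⁻¹ := ⟨_, rfl⟩
    have hlK : l ∈ KK M ω := by
      refine ⟨hl ▸ mul_mem (mul_mem (mul_mem ha hx) (inv_mem ha)) (inv_mem hx), ?_, ?_⟩
      · rw [hl, Units.val_mul, Units.val_mul, Units.val_mul]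
        exact ((ca.mul_left cx).mul_left ca.units_inv_left).mul_left cx.units_inv_left
      · rw [hl, Units.val_mul, Units.val_mul, Units.val_mul, uu_mul _ cx.units_inv_left,
          uu_mul _ ca.units_inv_left, uu_mul _ cx, ux, hu.eq, ← ux, Matrix.mul_assoc (uu (x : M9)),
          ← uu_mul _ ca.units_inv_left, ← Units.val_mul, mul_inv_cancel, Units.val_one, uu_one, Matrix.mul_one,
          ← uu_mul _ cx.units_inv_left, ← Units.val_mul, mul_inv_cancel, Units.val_one, uu_one]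
    have hlL := hKL hlK
    have hcx : ∀ y ∈ LL M ω, x * y = y * x := fun y hy => Units.ext (by
      rw [Units.val_mul, Units.val_mul, ex]; exact (hy.2 _).eq.symm)
    have hcl : ∀ y ∈ LL M ω, l * y = y * l := by
      intro y hy
      have h1 : a⁻¹ * y * a ∈ LL M ω := hKL (by
        have := KK_conj (inv_mem ha) ca.units_inv_left hy.1
        rwa [inv_inv] at this)
      have h2 : (a * x * a⁻¹) * y = y * (a * x * a⁻¹) := by
        calc (a * x * a⁻¹) * y = a * (x * (a⁻¹ * y * a)) * a⁻¹ := by group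
          _ = a * ((a⁻¹ * y * a) * x) * a⁻¹ := by rw [hcx _ h1]
          _ = _ := by group
      rw [hl, mul_assoc, (show Commute x y from hcx y hy).inv_left.eq, ← mul_assoc, h2, mul_assoc]
    have hl3 : l ^ 3 = 1 := by
      have e1 : a * x * a⁻¹ = l * x := by rw [hl]; group
      have x3 : x ^ 3 = 1 := Units.ext (by rw [Units.val_pow_eq_pow_val, ex, H.cube, Units.val_one])
      have h2 : Commute l x := (hcx l hlL).symm
      have e3 := congrArg (fun z => z ^ 3) e1
      simp only [conj_pow, h2.mul_pow, x3, mul_one, mul_inv_cancel] at e3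
      exact e3.symm
    obtain ⟨Λ, aΛ, hev, hsy⟩ := h.LL_act hlL
    obtain ⟨t, htL, et, aT, t3⟩ := h.exists_tau
    have aj0 : Act (W9 ω) (gm ω ⊗ₖ (1 : M3)) (pmap Jl id) := kron_act (gm_act h.om h.three) (act_one _)
    obtain ⟨j, hj, ej⟩ := h.in_act (A := gm ω ⊗ₖ (1 : M3)) (by simp [det_kronecker, CfsgLib.HessianMax.gm_det h.om h.three]) aj0
    have aj : Act (W9 ω) (j : M9) (pmap Jl id) := ej.symm ▸ aj0
    have htj : j * t * j⁻¹ ∈ LL M ω := hKL (KK_conj hj (ej ▸ kron_comm_tM ω (gm_comm_S3 ω)) htL.1)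
    obtain ⟨Θ, aΘ, -, -⟩ := h.LL_act htj
    have eΘ : ∀ v, Θ (Jl v) = Jl (Dl v) := fun v => congrArg Prod.fst
      (H.act_uniq ((j * t).isUnit) (L := pmap Θ id ∘ pmap Jl id) (K := pmap Jl id ∘ pmap Dl id)
        (by rw [← inv_mul_cancel_right (j * t) j, Units.val_mul]; exact aΘ.comp aj)
        (by rw [Units.val_mul]; exact aj.comp aT) (v, (0 : V3)))
    have e1 : ∀ v, Λ (Dl v) = Dl (Λ v) := fun v => congrArg Prod.fst
      (H.act_uniq (l.isUnit.mul t.isUnit) (L := pmap Λ id ∘ pmap Dl id) (K := pmap Dl id ∘ pmap Λ id) (aΛ.comp aT)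
        (by rw [← Units.val_mul, hcl t htL, Units.val_mul]; exact aT.comp aΛ) (v, (0 : V3)))
    have e2 : ∀ v, Λ (Θ v) = Θ (Λ v) := fun v => congrArg Prod.fst
      (H.act_uniq (l.isUnit.mul (j * t * j⁻¹).isUnit) (L := pmap Λ id ∘ pmap Θ id) (K := pmap Θ id ∘ pmap Λ id)
        (aΛ.comp aΘ) (by rw [← Units.val_mul, hcl _ htj, Units.val_mul]; exact aΘ.comp aΛ) (v, (0 : V3)))
    have e3 : ∀ v, Λ (Λ (Λ v)) = v := fun v => congrArg Prod.fst
      (H.act_uniq isUnit_one (L := (pmap Λ id)^[3]) (K := id)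
        (by rw [← Units.val_one, ← hl3, Units.val_pow_eq_pow_val]; exact act_pow aΛ 3) (act_one _) (v, (0 : V3)))
    have kJ : ∀ v, Jl (Jl (Jl (Jl v))) = v := by decide
    have eΘ' : ∀ v, Θ v = Jl (Dl (Jl (Jl (Jl v)))) := fun v => by rw [← eΘ, kJ]
    have kd : ¬ (∀ v, Dl (Jl (Dl (Jl (Jl (Jl v))))) = Jl (Dl (Jl (Jl (Jl (Dl v)))))) ∧
        ¬ (∀ v, Dl (Dl (Jl (Dl (Jl (Jl (Jl v)))))) = Jl (Dl (Jl (Jl (Jl (Dl (Dl v))))))) := by decide
    have hl1 : l = 1 := by
      rcases cent_tbl _ _ hsy (fun v => by rw [← hev, ← hev]; exact e1 v)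
        (fun v => by rw [← hev, ← hev, ← hev]; exact e3 v) with e | e | e
      · exact h.LL_eq hlL (one_mem _) aΛ
          ((one_act ω).congr fun v => Prod.ext ((hev v.1).trans (e v.1)).symm rfl)
      · exact absurd (fun v => by
          have := e2 v
          rwa [eΘ', eΘ', hev (Jl _), e, hev v, e] at this) kd.1
      · exact absurd (fun v => by
          have := e2 v
          rwa [eΘ', eΘ', hev (Jl _), e, hev v, e] at this) kd.2
    rw [hl1, eq_comm, mul_inv_eq_one, mul_inv_eq_iff_eq_mul] at hl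
    refine h.act_commW ⟨a, ha, rfl⟩ (v := (1, 0)) (by decide) ?_
    show (a : M9) * _ = _
    rw [← ex, ← Units.val_mul, ← Units.val_mul, hl]
  -- the images in dimension three
  let U : Subgroup (GL (Fin 3) F) :=
    { carrier := {u | ∃ a ∈ M, Commute (a : M9) (tM ω) ∧ uu (a : M9) = (u : M3)}
      one_mem' := ⟨1, one_mem M, by rw [Units.val_one]; exact Commute.one_left _,
        by rw [Units.val_one, uu_one, Units.val_one]⟩
      mul_mem' := by
        rintro u w ⟨a, ha, ca, ea⟩ ⟨b, hb, cb, eb⟩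
        exact ⟨a * b, mul_mem ha hb, by rw [Units.val_mul]; exact ca.mul_left cb,
          by rw [Units.val_mul, uu_mul _ cb, ea, eb, Units.val_mul]⟩
      inv_mem' := by
        rintro u ⟨a, ha, ca, ea⟩
        refine ⟨a⁻¹, inv_mem ha, ca.units_inv_left, (Units.inv_eq_of_mul_eq_one_right ?_).symm⟩
        rw [← ea, ← uu_mul _ ca.units_inv_left, ← Units.val_mul, mul_inv_cancel, Units.val_one, uu_one] }
  have hN : ∀ u ∈ Subgroup.normalizer (Rsub F ω h.om : Set (GL (Fin 3) F)), (u : M3).det = 1 → u ∈ U := by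
    intro u hu hd
    rw [grp_eq h.om h.three] at hu
    obtain ⟨L, hL⟩ := H3.mem_normalizer_iff.1 hu
    obtain ⟨a, ha, ea⟩ := h.in_one_kron (A := (u : M3)) (by rw [hd, one_pow]) hL
    exact ⟨a, ha, ea ▸ kron_comm_tM ω (Commute.one_left _), by rw [ea, uu_kron]; simp⟩
  have hu : IsUnit (uu (g : M9)) := IsUnit.of_mul_eq_one (uu ((g⁻¹ : G9) : M9))
    (by rw [← uu_mul _ cg.units_inv_left, ← Units.val_mul, mul_inv_cancel, Units.val_one, uu_one])
  rcases dich h.prime h.card h.seven h.om U hN with hs | hb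
  · have hmem := hs hu.unit ⟨g, hg, cg, rfl⟩
    rw [grp_eq h.om h.three] at hmem
    obtain ⟨L, hL⟩ := H3.mem_normalizer_iff.1 hmem
    rw [IsUnit.unit_spec] at hL
    obtain ⟨B, dB, aB⟩ := real3 h.om h.three (H3.act_add hu hL) (H3.act_symp hu hL)
    obtain ⟨b, hbm, eb⟩ := h.in_one_kron dB aB
    have cb : Commute (b : M9) (tM ω) := eb ▸ kron_comm_tM ω (Commute.one_left _)
    have ub : uu (b : M9) = B := by rw [eb, uu_kron]; simp
    have uB : IsUnit B := (Matrix.isUnit_iff_isUnit_det B).2 (IsUnit.of_pow_eq_one dB (by norm_num))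
    obtain ⟨β, rfl⟩ := uB
    obtain ⟨Bi, aBi⟩ := H3.mem_normalizer_iff.1 (inv_mem (H3.mem_normalizer_iff.2 ⟨L, aB⟩))
    have hid : ∀ v, Bi (L v) = v := fun v => H3.act_uniq isUnit_one (L := Bi ∘ L) (K := id)
      (by rw [← Units.val_one, ← inv_mul_cancel β, Units.val_mul]; exact aBi.comp aB) (act_one _) v
    obtain ⟨c, u, -, eu⟩ := H3.act_id ((β⁻¹).isUnit.mul hu) ((aBi.comp hL).congr hid)
    have ubi : uu ((b⁻¹ : G9) : M9) = ((β⁻¹ : GL (Fin 3) F) : M3) := by
      refine (Units.inv_eq_of_mul_eq_one_right ?_).symm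
      rw [← ub, ← uu_mul _ cb.units_inv_left, ← Units.val_mul, mul_inv_cancel, Units.val_one, uu_one]
    obtain ⟨xu, exu, hxu, cxu, uxu⟩ := h.x_unit (-u)
    obtain ⟨k, hk⟩ := H3.mul (-u) u
    rw [neg_add_cancel, H3.zero] at hk
    obtain ⟨L', hL'⟩ := stepg (xu * b⁻¹ * g) (mul_mem (mul_mem hxu (inv_mem hbm)) hg)
      (by rw [Units.val_mul, Units.val_mul]; exact (cxu.mul_left cb.units_inv_left).mul_left cg)
      (by rw [Units.val_mul, Units.val_mul, uu_mul _ cg, uu_mul _ cb.units_inv_left, uxu, ubi, Matrix.mul_assoc, eu,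
            Matrix.mul_smul, hk, smul_smul]
          exact (Commute.one_left _).smul_left _)
    have hgN : g ∈ Subgroup.normalizer (H.grp : Set G9) := by
      have h1 : (xu * b⁻¹)⁻¹ ∈ Subgroup.normalizer (H.grp : Set G9) := inv_mem (mul_mem
        (H.mem_normalizer_iff.2 ⟨id, exu.symm ▸ H.act_W _⟩)
        (inv_mem (H.mem_normalizer_iff.2 ⟨_, eb.symm ▸ kron_act (act_one _) aB⟩)))
      have := mul_mem h1 (H.mem_normalizer_iff.2 ⟨L', hL'⟩)
      rwa [inv_mul_cancel_left] at this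
    exact H.mem_normalizer_iff.1 hgN
  · exfalso
    have hd : (diagonal ![(-1 : F), -1, 1] : M3).det = 1 := by simp [det_diagonal, Fin.prod_univ_three]
    obtain ⟨c, u, ⟨a, ha, ca, ea⟩, eu⟩ := hb _ hd
    have hW : W3 ω ((1, 0) : V3) = diagonal fun i : Fin 3 => chi ω i := by
      ext i j
      have k1 : ∀ i : Fin 3, 1 * i = i ∧ i + 0 = i := by decide
      rw [W3_apply]
      by_cases h1 : i = j <;> simp [h1, (k1 j).1, Matrix.diagonal, Ne.symm]
    obtain ⟨L, aL⟩ := stepg a ha ca (by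
      rw [ea, eu, hW]; exact (Matrix.commute_diagonal _ _).smul_left _)
    have hc0 : c ≠ 0 := fun e => u.isUnit.ne_zero (by rw [eu, e, zero_smul])
    have e1 : ∀ w, L (Lt w) = Lt (L w) := fun w =>
      H.act_uniq (a.isUnit.mul (h.in_unit h.in_tM)) (L := L ∘ Lt) (K := Lt ∘ L) (aL.comp (tM_act h.om))
        (ca.eq ▸ (tM_act h.om).comp aL) w
    obtain ⟨d, hd'⟩ := aL ((0 : V3), (0, 1))
    have hfst : (L ((0 : V3), (0, 1))).1 = 0 := by
      have := congrArg Prod.fst (e1 ((0 : V3), (0, 1)))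
      simp only [Lt, neg_zero] at this
      have k0 : ∀ a : V3, a = -a → a = 0 := by decide
      exact k0 _ this
    obtain ⟨v', hv'⟩ : ∃ v', L ((0 : V3), (0, 1)) = ((0 : V3), v') := ⟨_, Prod.ext hfst rfl⟩
    rw [hv'] at hd'
    have hu' := congrArg uu hd'
    rw [uu_mul _ (W_comm_tM ω _), uu_smul, uu_mul _ ca, W9_snd, W9_snd, uu_kron, uu_kron, ea, eu] at hu'
    simp only [one_apply_eq, ne_eq, Fin.reduceEq, not_false_eq_true, one_apply_ne, sub_zero, one_smul,
      Matrix.smul_mul, Matrix.mul_smul] at hu'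
    rw [smul_comm] at hu'
    have h' := smul_right_injective M3 hc0 hu'
    have ent : ∀ i j : Fin 3, ![(-1 : F), -1, 1] i * W3 ω (0, 1) i j = d * (W3 ω v' i j * ![(-1 : F), -1, 1] j) :=
      fun i j => by
      have := congrFun (congrFun h' i) j
      simpa [Matrix.diagonal_mul, Matrix.mul_diagonal] using this
    have hv2 : v'.2 = 1 := by
      have := ent 0 1
      simp [W3_apply, chi] at this
      by_contra hne
      simp [Ne.symm hne] at this
    have h01 := ent 0 1
    have h12 := ent 1 2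
    have k : ∀ a : Fin 3, a * 0 = 0 ∧ a * 1 = a := by decide
    simp [W3_apply, hv2, chi_zero, (k v'.1).1, (k v'.1).2, show (1 : Fin 3) + 1 = 2 by decide] at h01 h12
    have h3 := chi_cube h.om v'.1
    have hd1 : d = 1 := by linear_combination -h01
    rw [hd1, one_mul] at h12
    rw [← h12] at h3
    have := h.natCast_ne (m := 2) (by norm_num) (by have := h.seven; omega)
    apply this
    push_cast
    linear_combination -h3

end Setup

end CfsgLib.NineMax
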