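import Mathlib
import Cfsg.Agent.Lib.Coprime.Generation

/-!
Two group lemmas: a fixed coset for an action of a three-group, and generation by centralisers after a transfer.
-/

set_option autoImplicit false
set_option linter.unusedSectionVars false
set_option linter.style.haveILetI false

open scoped Pointwise

namespace CfsgLib.NineMax

variable {G : Type*} [Group G] [Finite G]

/-- A three-group acting on `Y ⊇ P` fixes a non-trivial coset of three-power order if `P` is not Sylow. -/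
theorem exists_fixed_coset {E P Y : Subgroup G} (hE : IsPGroup 3 E) (hP : IsPGroup 3 P) (hPY : P ≤ Y)
    (hnor : ∀ y ∈ Y, ∀ x ∈ P, y * x * y⁻¹ ∈ P) (hEY : ∀ e ∈ E, ∀ y ∈ Y, e * y * e⁻¹ ∈ Y)
    (hEP : ∀ e ∈ E, ∀ x ∈ P, e * x = x * e) {Q : Subgroup G} (hQ : IsPGroup 3 Q) (hPQ : P < Q) (hQY : Q ≤ Y) :
    ∃ s ∈ Y, s ∉ P ∧ (∃ n : ℕ, s ^ 3 ^ n = 1) ∧ ∀ e ∈ E, s⁻¹ * e * s * e⁻¹ ∈ P := by
  classical
  haveI : Fact (Nat.Prime 3) := ⟨Nat.prime_three⟩
  letI : MulDistribMulAction E Y :=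
    { smul := fun e y => ⟨e * y * (e : G)⁻¹, hEY e e.2 y y.2⟩
      one_smul := fun y => Subtype.ext (show (1 : G) * y * (1 : G)⁻¹ = y by simp)
      mul_smul := fun a b y => Subtype.ext (show ((a * b : E) : G) * (y : G) * ((a * b : E) : G)⁻¹ =
        (a : G) * ((b : G) * (y : G) * (b : G)⁻¹) * (a : G)⁻¹ by simp [mul_assoc])
      smul_mul := fun a x y => Subtype.ext (show (a : G) * ((x : G) * (y : G)) * (a : G)⁻¹ =
        ((a : G) * (x : G) * (a : G)⁻¹) * ((a : G) * (y : G) * (a : G)⁻¹) by simp [mul_assoc])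
      smul_one := fun a => Subtype.ext (show (a : G) * 1 * (a : G)⁻¹ = 1 by simp) }
  have hsm : ∀ (e : E) (y : Y), ((e • y : Y) : G) = e * y * (e : G)⁻¹ := fun _ _ => rfl
  -- a fixed Sylow subgroup
  have hnd : ¬ 3 ∣ Nat.card (Sylow 3 Y) := by
    intro h
    have h1 := card_sylow_modEq_one 3 Y
    unfold Nat.ModEq at h1
    omega
  obtain ⟨S, hS⟩ := hE.nonempty_fixed_point_of_prime_not_dvd_card (Sylow 3 Y) hnd
  have hPn : (P.subgroupOf Y).Normal := ⟨fun x hx y => by
    rw [Subgroup.mem_subgroupOf] at hx ⊢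
    exact hnor y y.2 x hx⟩
  haveI := hPn
  have hPS : P.subgroupOf Y ≤ (S : Subgroup Y) := by
    obtain ⟨T, hT⟩ := (hP.comap_of_injective _ Y.subtype_injective : IsPGroup 3 (P.subgroupOf Y)).exists_le_sylow
    obtain ⟨y, rfl⟩ := MulAction.exists_smul_eq Y T S
    intro x hx
    rw [Sylow.coe_subgroup_smul, Subgroup.mem_pointwise_smul_iff_inv_smul_mem]
    refine hT ?_
    have := hPn.conj_mem x hx y⁻¹
    simpa [MulAut.smul_def] using this
  have hne : P.subgroupOf Y < (S : Subgroup Y) := by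
    refine lt_of_le_of_ne hPS fun e => ?_
    have h1 : Nat.card Q ∣ Nat.card (S : Subgroup Y) := by
      obtain ⟨T, hT⟩ := (hQ.comap_of_injective Y.subtype Y.subtype_injective : IsPGroup 3 (Q.subgroupOf Y)).exists_le_sylow
      rw [← Nat.card_congr (Subgroup.subgroupOfEquivOfLe hQY).toEquiv]
      exact (Subgroup.card_dvd_of_le hT).trans (dvd_of_eq ((T.equiv S).toEquiv |> Nat.card_congr))
    rw [← e, Nat.card_congr (Subgroup.subgroupOfEquivOfLe hPY).toEquiv] at h1
    have h2 := Subgroup.card_dvd_of_le hPQ.le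
    exact absurd (Subgroup.eq_of_le_of_card_ge hPQ.le (Nat.dvd_antisymm h1 h2).le) hPQ.ne
  set P' := (P.subgroupOf Y).subgroupOf (S : Subgroup Y)
  have hstab : ∀ (e : E) (s : (S : Subgroup Y)), e • (s : Y) ∈ (S : Subgroup Y) := fun e s => by
    have h1 : e • (s : Y) ∈ e • (S : Subgroup Y) := Subgroup.smul_mem_pointwise_smul (s : Y) _ _ s.2
    rwa [← Sylow.pointwise_smul_def, hS e] at h1
  have hfixP : ∀ (e : E) (x : Y), (x : G) ∈ P → e • x = x := fun e x hx => Subtype.ext (by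
    rw [hsm, hEP e e.2 x hx, mul_inv_cancel_right])
  let act : E → ((S : Subgroup Y) ⧸ P') → ((S : Subgroup Y) ⧸ P') := fun e =>
    Quotient.map' (fun s => (⟨e • (s : Y), hstab e s⟩ : (S : Subgroup Y))) fun a b hab => by
      rw [QuotientGroup.leftRel_apply] at hab ⊢
      simp only [P', Subgroup.mem_subgroupOf, Subgroup.coe_mul, Subgroup.coe_inv] at hab ⊢
      have e1 : ((e • (a : Y) : Y) : G)⁻¹ * ((e • (b : Y) : Y) : G) = (a : Y).1⁻¹ * (b : Y).1 := by
        rw [hsm, hsm]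
        have := hEP e e.2 _ hab
        calc ((e : G) * (a : Y).1 * (e : G)⁻¹)⁻¹ * ((e : G) * (b : Y).1 * (e : G)⁻¹)
            = (e : G) * ((a : Y).1⁻¹ * (b : Y).1) * (e : G)⁻¹ := by group
          _ = _ := by rw [this, mul_inv_cancel_right]
      show ((e • (a : Y) : Y) : G)⁻¹ * ((e • (b : Y) : Y) : G) ∈ P
      rw [e1]; exact hab
  letI : MulAction E ((S : Subgroup Y) ⧸ P') :=
    { smul := act
      one_smul := fun q => by
        induction q using Quotient.inductionOn' with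
        | h s => exact congrArg Quotient.mk'' (Subtype.ext (one_smul E (s : Y)))
      mul_smul := fun a b q => by
        induction q using Quotient.inductionOn' with
        | h s => exact congrArg Quotient.mk'' (Subtype.ext (mul_smul a b (s : Y))) }
  have hdvd : 3 ∣ Nat.card ((S : Subgroup Y) ⧸ P') := by
    obtain ⟨k, hk⟩ := IsPGroup.iff_card.1 S.2
    have hd : Nat.card ((S : Subgroup Y) ⧸ P') ∣ 3 ^ k := hk ▸ Subgroup.card_quotient_dvd_card P'
    obtain ⟨j, -, hj⟩ := (Nat.dvd_prime_pow Nat.prime_three).1 hd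
    rcases j with _ | j
    · exfalso
      rw [pow_zero] at hj
      have : P' = ⊤ := Subgroup.index_eq_one.1 hj
      exact hne.not_ge (Subgroup.subgroupOf_eq_top.1 this)
    · rw [hj]; exact dvd_pow_self 3 j.succ_ne_zero
  obtain ⟨q, hq, hq1⟩ := hE.exists_fixed_point_of_prime_dvd_card_of_fixed_point _ hdvd
    (a := (QuotientGroup.mk (1 : (S : Subgroup Y)) : (S : Subgroup Y) ⧸ P'))
    (fun e => congrArg Quotient.mk'' (Subtype.ext (smul_one e)))
  obtain ⟨s, rfl⟩ := QuotientGroup.mk_surjective q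
  refine ⟨((s : Y) : G), (s : Y).2, fun hs => hq1 (QuotientGroup.eq.2 ?_), ?_, fun e he => ?_⟩
  · simpa [P', Subgroup.mem_subgroupOf] using hs
  · obtain ⟨n, hn⟩ := S.2 s
    exact ⟨n, by
      have := congrArg (fun x : (S : Subgroup Y) => ((x : Y) : G)) hn
      simpa using this⟩
  · have h1 := hq ⟨e, he⟩
    have h2 : (QuotientGroup.mk (⟨(⟨e, he⟩ : E) • (s : Y), hstab _ s⟩ : (S : Subgroup Y)) : (S : Subgroup Y) ⧸ P') =
        QuotientGroup.mk s := h1
    rw [eq_comm, QuotientGroup.eq] at h2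
    simp only [P', Subgroup.mem_subgroupOf, Subgroup.coe_mul, Subgroup.coe_inv, hsm] at h2
    simpa [mul_assoc] using h2

/-- A subgroup with central Sylow three-subgroup generated by centralisers of a non-cyclic group. -/
theorem le_of_centralisers {G' : Type*} [Group G'] [Finite G'] (π : G →* G') {E P J L : Subgroup G}
    [IsMulCommutative (E.map π)] (hA : ¬ IsCyclic (E.map π)) (hE : IsPGroup 3 E) (hPJ : P ≤ J) (hP : IsPGroup 3 P)
    (hsyl : ∀ Q : Subgroup G, IsPGroup 3 Q → P ≤ Q → Q ≤ J → Q = P)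
    (hcen : ∀ j ∈ J, (∀ x ∈ P, j * x * j⁻¹ ∈ P) → ∀ x ∈ P, j * x = x * j)
    (hEJ : ∀ e ∈ E, ∀ j ∈ J, e * j * e⁻¹ ∈ J) (hinj : ∀ j ∈ J, π j = 1 → j = 1) (hPL : P ≤ L)
    (hfix : ∀ g ∈ E.map π, g ≠ 1 → ∀ j ∈ J, π j * g = g * π j → j ∈ L) : J ≤ L := by
  classical
  haveI : Fact (Nat.Prime 3) := ⟨Nat.prime_three⟩
  have hmax : ∀ Q : Subgroup J, IsPGroup 3 Q → P.subgroupOf J ≤ Q → Q = P.subgroupOf J := fun Q hQ hle => by
    have h1 := hsyl (Q.map J.subtype) (hQ.map _) (by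
      rw [← Subgroup.map_subgroupOf_eq_of_le hPJ]; exact Subgroup.map_mono hle) (Subgroup.map_subtype_le Q)
    rw [← Subgroup.map_subgroupOf_eq_of_le hPJ] at h1
    exact Subgroup.map_injective J.subtype_injective h1
  let S : Sylow 3 J := ⟨P.subgroupOf J, hP.comap_of_injective _ J.subtype_injective, fun hQ hle => hmax _ hQ hle⟩
  have hS : Subgroup.normalizer ((S : Subgroup J) : Set J) ≤ Subgroup.centralizer ((S : Subgroup J) : Set J) := by
    intro j hj
    rw [Subgroup.mem_centralizer_iff]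
    intro x hx
    refine Subtype.ext (hcen j j.2 (fun y hy => ?_) x hx).symm
    have := (Subgroup.mem_normalizer_iff.1 hj ⟨y, hPJ hy⟩).1 hy
    exact this
  set N := (MonoidHom.transferSylow S hS).ker with hN
  have hcompl := MonoidHom.ker_transferSylow_isComplement' S hS
  have hnd := MonoidHom.not_dvd_card_ker_transferSylow S hS
  rw [← hN] at hcompl hnd
  set H := N.map J.subtype with hH
  have hHJ : H ≤ J := Subgroup.map_subtype_le N
  have hHcard : Nat.card H = Nat.card N := Subgroup.card_map_of_injective J.subtype_injective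
  have hEH : ∀ e ∈ E, ∀ h ∈ H, e * h * e⁻¹ ∈ H := by
    rintro e he _ ⟨n, hn, rfl⟩
    refine ⟨⟨e * n * e⁻¹, hEJ e he n n.2⟩, ?_, rfl⟩
    set y : J := ⟨e * n * e⁻¹, hEJ e he n n.2⟩
    have ho : orderOf y = orderOf n := by
      rw [← Subgroup.orderOf_coe y, ← Subgroup.orderOf_coe n]
      exact (MulEquiv.orderOf_eq (MulAut.conj e) (n : G))
    have h1 : orderOf (MonoidHom.transferSylow S hS y) ∣ Nat.card N := (orderOf_map_dvd _ y).trans (ho ▸ N.orderOf_dvd_natCard hn)
    obtain ⟨k, hk⟩ := S.2 (MonoidHom.transferSylow S hS y)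
    show y ∈ MonoidHom.ker (MonoidHom.transferSylow S hS)
    rw [MonoidHom.mem_ker, ← orderOf_eq_one_iff]
    obtain ⟨j, -, hj⟩ := (Nat.dvd_prime_pow Nat.prime_three).1 (orderOf_dvd_of_pow_eq_one hk)
    rcases j with _ | j
    · rw [hj, pow_zero]
    · exact absurd ((dvd_pow_self 3 j.succ_ne_zero).trans (hj ▸ h1)) hnd
  -- the complement
  have hHL : H ≤ L := by
    have hAK : E.map π ≤ Subgroup.normalizer (H.map π : Set G') := by
      rw [Subgroup.le_normalizer_iff]
      rintro _ ⟨e, he, rfl⟩ _ ⟨h, hh, rfl⟩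
      exact ⟨e * h * e⁻¹, hEH e he h hh, by simp⟩
    have hcop : (Nat.card (E.map π)).Coprime (Nat.card (H.map π)) := by
      obtain ⟨k, hk⟩ := IsPGroup.iff_card.1 (hE.map π)
      rw [hk]
      refine Nat.Coprime.pow_left k ((Nat.prime_three.coprime_iff_not_dvd).2 fun hd => hnd ?_)
      rw [← hHcard]
      exact hd.trans (Subgroup.card_map_dvd H π)
    have h1 := CfsgLib.Coprime.le_of_centralizer_le (Y := (J ⊓ L).map π) hA hAK hcop fun g hg hg1 => by
      rintro _ ⟨⟨h, hh, rfl⟩, hc⟩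
      exact ⟨h, ⟨hHJ hh, hfix g hg hg1 h (hHJ hh) (Subgroup.mem_centralizer_iff.1 hc g rfl).symm⟩, rfl⟩
    intro h hh
    obtain ⟨x, hx, e⟩ := h1 (Subgroup.mem_map_of_mem π hh)
    have : x⁻¹ * h = 1 := hinj _ (mul_mem (inv_mem hx.1) (hHJ hh)) (by rw [map_mul, map_inv, e, inv_mul_cancel])
    rw [inv_mul_eq_one] at this
    exact this ▸ hx.2
  intro j hj
  obtain ⟨⟨⟨n, hn⟩, ⟨x, hx⟩⟩, e⟩ := hcompl.2 ⟨j, hj⟩
  have e' : (n : G) * (x : G) = j := congrArg Subtype.val e
  rw [← e']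
  exact mul_mem (hHL ⟨n, hn, rfl⟩) (hPL hx)

end CfsgLib.NineMax
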