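import Cfsg.Agent.Lib.NineMax.Plane
import Cfsg.Agent.Lib.NineMax.CentGroup

/-!
Elements commuting with a twisting matrix, and the map of the centraliser of the involution to its three-dimensional
fixed space.
-/

set_option autoImplicit false
set_option linter.unusedSectionVars false
set_option maxRecDepth 10000

namespace CfsgLib.NineMax

open Matrix
open scoped Kronecker
open CfsgLib.HessianMax (gm Dm)

variable {F : Type*} [Field F] [Fintype F]

local notation "M3" => Matrix (Fin 3) (Fin 3) F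
local notation "M9" => Matrix (Fin 3 × Fin 3) (Fin 3 × Fin 3) F

/-- The involution on the first factor. -/
def S3 : M3 := of fun i j => if i = -j then -1 else 0

theorem tM_kron (ω : F) : tM ω = (S3 : M3) ⊗ₖ (1 : M3) := by
  ext ⟨i, a⟩ ⟨j, b⟩
  by_cases h1 : i = -j <;> by_cases h2 : a = b <;> simp [tM, mon, negFst, S3, chi, Matrix.one_apply, h1, h2]

theorem kron_comm_tM (ω : F) {A B : M3} (hA : Commute A S3) : Commute (A ⊗ₖ B) (tM ω) := by
  rw [tM_kron, Commute, SemiconjBy, ← mul_kronecker_mul, ← mul_kronecker_mul, hA.eq, Matrix.mul_one, Matrix.one_mul]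

theorem W9_snd (ω : F) (v : V3) : W9 ω ((0 : V3), v) = (1 : M3) ⊗ₖ W3 ω v := by rw [W9, W3_zero]

theorem W_comm_tM (ω : F) (v : V3) : Commute (W9 ω ((0 : V3), v)) (tM ω) := by
  rw [W9_snd]; exact kron_comm_tM ω (Commute.one_left _)

theorem gm_comm_S3 (ω : F) : Commute (gm ω) (S3 : M3) := by
  show gm ω * S3 = S3 * gm ω
  simp only [gm, Matrix.smul_mul, Matrix.mul_smul]
  congr 1
  ext i j; fin_cases i <;> fin_cases j <;> simp [S3, Matrix.mul_apply, Fin.sum_univ_three, show (-1 : Fin 3) = 2 by decide, show (-2 : Fin 3) = 1 by decide]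

theorem Dm_comm_S3 (ω : F) : Commute (Dm ω) (S3 : M3) := by
  show Dm ω * S3 = S3 * Dm ω
  ext i j; fin_cases i <;> fin_cases j <;> simp [Dm, S3, Matrix.mul_apply, Fin.sum_univ_three, show (-1 : Fin 3) = 2 by decide, show (-2 : Fin 3) = 1 by decide]

/-- The embedding of the fixed space of the involution. -/
def Eu : Matrix (Fin 3 × Fin 3) (Fin 3) F := of fun x b => if x.2 = b then ![0, 1, -1] x.1 else 0

/-- The map induced on the fixed space. -/
def uu (A : M9) : M3 := of fun a b => (A * (Eu : Matrix (Fin 3 × Fin 3) (Fin 3) F)) (1, a) b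

theorem mul_Eu (A : M9) (x : Fin 3 × Fin 3) (b : Fin 3) :
    (A * (Eu : Matrix (Fin 3 × Fin 3) (Fin 3) F)) x b = A x (1, b) - A x (2, b) := by
  simp [Matrix.mul_apply, Eu, Fintype.sum_prod_type, Fin.sum_univ_three, mul_ite, ite_mul]
  ring

theorem Eu_mul (X : M3) (x : Fin 3 × Fin 3) (b : Fin 3) :
    ((Eu : Matrix (Fin 3 × Fin 3) (Fin 3) F) * X) x b = ![0, 1, -1] x.1 * X x.2 b := by
  rw [Matrix.mul_apply, Finset.sum_eq_single x.2]
  · simp [Eu]
  · intro z _ hz; simp [Eu, Ne.symm hz]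
  · simp

theorem comm_tM_apply {ω : F} {A : M9} (hA : Commute A (tM ω)) (i j a b : Fin 3) :
    A (-i, a) (-j, b) = A (i, a) (j, b) := by
  have h1 := congrFun (congrFun hA.eq (-i, a)) (j, b)
  rw [Matrix.mul_apply, Matrix.mul_apply, Finset.sum_eq_single ((-j, b) : V3),
    Finset.sum_eq_single ((i, a) : V3)] at h1
  · simpa [tM, mon, negFst, chi] using h1
  · intro z _ hz
    have : ((-i, a) : V3) ≠ negFst z := fun e => hz (by
      have := congrArg negFst e
      simpa [negFst] using this.symm)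
    simp [tM, mon, this]
  · simp
  · intro z _ hz
    have : z ≠ negFst ((j, b) : V3) := hz
    simp [tM, mon, this]
  · simp

theorem uu_apply (A : M9) (a b : Fin 3) : uu A a b = A (1, a) (1, b) - A (1, a) (2, b) := mul_Eu A (1, a) b

theorem uu_spec {ω : F} {A : M9} (hA : Commute A (tM ω)) :
    A * (Eu : Matrix (Fin 3 × Fin 3) (Fin 3) F) = (Eu : Matrix (Fin 3 × Fin 3) (Fin 3) F) * uu A := by
  refine Matrix.ext fun x b => ?_
  obtain ⟨i, a⟩ := x
  refine (mul_Eu A ((i, a) : V3) b).trans (Eq.trans ?_ (Eu_mul (uu A) ((i, a) : V3) b).symm)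
  rw [uu_apply]
  have n1 : (-1 : Fin 3) = 2 := by decide
  have n2 : (-2 : Fin 3) = 1 := by decide
  fin_cases i
  · have := comm_tM_apply hA 0 1 a b
    rw [neg_zero, n1] at this
    simp [this]
  · simp
  · have e1 := comm_tM_apply hA 1 1 a b
    have e2 := comm_tM_apply hA 1 2 a b
    rw [n1] at e1 e2
    rw [n2] at e2
    simp [e1, e2]

theorem uu_mul {ω : F} (A : M9) {B : M9} (hB : Commute B (tM ω)) : uu (A * B) = uu A * uu B := by
  have e : A * B * (Eu : Matrix (Fin 3 × Fin 3) (Fin 3) F) = A * (Eu : Matrix (Fin 3 × Fin 3) (Fin 3) F) * uu B := by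
    rw [Matrix.mul_assoc, uu_spec hB, ← Matrix.mul_assoc]
  refine Matrix.ext fun a b => ?_
  exact (congrFun (congrFun e (1, a)) b).trans rfl

theorem uu_one : uu (1 : M9) = 1 := by
  ext a b
  simp [uu, Eu, Matrix.one_apply]

theorem uu_smul (c : F) (A : M9) : uu (c • A) = c • uu A := by
  ext a b
  simp [uu, Matrix.smul_mul]

theorem uu_kron (A B : M3) : uu (A ⊗ₖ B) = (A 1 1 - A 1 2) • B := by
  refine Matrix.ext fun a b => ?_
  rw [uu_apply]
  simp [sub_mul]

theorem sw_sw (A : M9) : sw (sw A) = A := rfl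

theorem sw_W9 (ω : F) (v : V4) : sw (W9 ω v) = W9 ω v.swap := sw_kron _ _

theorem sw_act {ω : F} {A : M9} {L : V4 → V4} (hA : Act (W9 ω) A L) :
    Act (W9 ω) (sw A) (fun v => (L v.swap).swap) := fun v => by
  obtain ⟨c, hc⟩ := hA v.swap
  refine ⟨c, ?_⟩
  have := congrArg sw hc
  rw [sw_mul, sw_W9, Prod.swap_swap] at this
  rw [this]
  show c • sw (W9 ω (L v.swap) * A) = _
  rw [sw_mul, sw_W9]

variable {p : ℕ} {ω : F} {M : Subgroup (GL (Fin 3 × Fin 3) F)}

namespace Setup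

variable (h : Setup p ω M)
include h

/-- Elements commuting with the first diagonal twist are block diagonal, hence normalise. -/
theorem act_commX {A : M9} (hA : In M A) (hc : Commute A (W9 ω ((1, 0), 0))) : ∃ L, Act (W9 ω) A L := by
  obtain ⟨d, hd⟩ : ∃ d : Fin 3 → M3, d = fun i => of fun a b => A (i, a) (i, b) := ⟨_, rfl⟩
  have hW : W9 ω ((1, 0), (0 : V3)) = diagonal fun x : V3 => chi ω x.1 := by
    ext ⟨i, a⟩ ⟨j, b⟩
    have k1 : ∀ i : Fin 3, 1 * i = i ∧ i + 0 = i ∧ (0 : Fin 3) * i = 0 := by decide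
    rw [W9_apply h.om]
    by_cases h1 : i = j <;> by_cases h2 : a = b <;>
      simp [sh, ph, h1, h2, Ne.symm, (k1 i).1, (k1 a).2.2, Matrix.diagonal]
  have e : A = bd d := by
    ext ⟨i, a⟩ ⟨j, b⟩
    by_cases h1 : i = j
    · subst h1; simp [bd, hd]
    · have := congrFun (congrFun hc.eq (i, a)) (j, b)
      rw [hW, Matrix.mul_diagonal, Matrix.diagonal_mul] at this
      rcases eq_or_ne (A (i, a) (j, b)) 0 with h0 | h0
      · simp [bd, h1, h0]
      · exact absurd (chi_inj h.om h.three (mul_left_cancel₀ h0 (by rw [this, mul_comm]))).symm h1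
  rw [e] at hA ⊢
  exact h.bd_act hA

/-- Elements commuting with a twist of the second factor normalise. -/
theorem act_commW {A : M9} (hA : In M A) {v : V3} (hv : v ≠ 0) (hc : Commute A (W9 ω ((0 : V3), v))) :
    ∃ L, Act (W9 ω) A L := by
  have hQ : ∀ v : V3, v ≠ 0 → ∃ Q, sy v Q = -1 := by decide
  obtain ⟨Q, hQ⟩ := hQ v hv
  obtain ⟨w, -, hw, -⟩ := tbl3_spec v Q hQ
  obtain ⟨B, dB, aB⟩ := real_word3 h.om h.three w
  obtain ⟨c, eB⟩ := aB (1, 0)
  rw [hw] at eB
  have hb : In M ((1 : M3) ⊗ₖ B) := h.in_one_kron dB aB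
  have ab : Act (W9 ω) ((1 : M3) ⊗ₖ B) (pmap id (word3 w)) := kron_act (act_one _) aB
  have ub := h.in_unit hb
  obtain ⟨b, eb⟩ := ub
  have hbi : In M ((b⁻¹ : GL V3 F) : M9) := in_inv hb (by rw [← eb, ← Units.val_mul, mul_inv_cancel, Units.val_one])
  have hbm : In M ((b : GL V3 F) : M9) := eb ▸ hb
  obtain ⟨N', hN'⟩ := h.heis.mem_normalizer_iff.1 (inv_mem (h.heis.mem_normalizer_iff.2 ⟨_, eb.symm ▸ ab⟩))
  have eW : (b : M9) * W9 ω ((0 : V3), (1, 0)) = c • (W9 ω ((0 : V3), v) * b) := by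
    rw [eb, W9_snd, W9_snd, ← mul_kronecker_mul, ← mul_kronecker_mul, eB, kronecker_smul, Matrix.one_mul]
  set A' : M9 := ((b⁻¹ : GL V3 F) : M9) * A * b with hA'
  have hc' : Commute A' (W9 ω ((0 : V3), (1, 0))) := by
    have hc0 : c ≠ 0 := fun e => by
      rw [e, zero_smul] at eW
      exact ((b.isUnit).mul (h.heis.isUnit _)).ne_zero eW
    have e2 : ((b⁻¹ : GL V3 F) : M9) * W9 ω ((0 : V3), v) =
        c⁻¹ • (W9 ω ((0 : V3), (1, 0)) * ((b⁻¹ : GL V3 F) : M9)) := by
      have := congrArg (fun X => c⁻¹ • (((b⁻¹ : GL V3 F) : M9) * X * ((b⁻¹ : GL V3 F) : M9))) eW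
      simp only [Matrix.mul_smul, Matrix.smul_mul, smul_smul, inv_mul_cancel₀ hc0, one_smul] at this
      rw [← Matrix.mul_assoc, ← Units.val_mul, inv_mul_cancel, Units.val_one, Matrix.one_mul,
        Matrix.mul_assoc _ _ ((b⁻¹ : GL V3 F) : M9), Matrix.mul_assoc _ (b : M9), ← Units.val_mul, mul_inv_cancel,
        Units.val_one, Matrix.mul_one] at this
      exact this.symm
    show A' * _ = _ * A'
    calc A' * W9 ω ((0 : V3), (1, 0)) = ((b⁻¹ : GL V3 F) : M9) * A * ((b : M9) * W9 ω ((0 : V3), (1, 0))) := by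
          rw [hA', Matrix.mul_assoc]
      _ = c • (((b⁻¹ : GL V3 F) : M9) * (A * W9 ω ((0 : V3), v)) * b) := by
          rw [eW, Matrix.mul_smul]; simp only [Matrix.mul_assoc]
      _ = c • (((b⁻¹ : GL V3 F) : M9) * W9 ω ((0 : V3), v) * (A * b)) := by
          rw [hc.eq]; simp only [Matrix.mul_assoc]
      _ = _ := by
          rw [e2, Matrix.smul_mul, smul_smul, mul_inv_cancel₀ hc0, one_smul, hA']; simp only [Matrix.mul_assoc]
  have hA'M : In M A' := in_mul (in_mul hbi hA) hbm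
  obtain ⟨L, hL⟩ := h.act_commX (h.in_sw hA'M) (by
    show sw A' * _ = _ * sw A'
    rw [show W9 ω ((1, 0), (0 : V3)) = sw (W9 ω ((0 : V3), (1, 0))) from (sw_W9 ω ((0 : V3), (1, 0))).symm,
      ← sw_mul, ← sw_mul, hc'.eq])
  have hA'' : Act (W9 ω) A' _ := sw_sw A' ▸ sw_act hL
  have e : A = (b : M9) * A' * ((b⁻¹ : GL V3 F) : M9) := by
    rw [hA']
    simp only [← Matrix.mul_assoc]
    rw [← Units.val_mul, mul_inv_cancel, Units.val_one, Matrix.one_mul, Matrix.mul_assoc, ← Units.val_mul,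
      mul_inv_cancel, Units.val_one, Matrix.mul_one]
  exact ⟨_, e ▸ ((eb.symm ▸ ab).comp hA'').comp hN'⟩

end Setup

end CfsgLib.NineMax
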