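import Cfsg.Agent.Lib.NineMax.Heis
import Cfsg.Agent.Lib.HessianMax.Std

/-!
The Heisenberg groups on three and on nine points in coordinates; monomial matrices and tensor products acting
on them.
-/

set_option autoImplicit false
set_option linter.unusedSectionVars false

namespace CfsgLib.NineMax

open Matrix
open scoped Kronecker
open CfsgLib.HessianMax (Xm Ym gm hgm Dm)

variable {F : Type*} [Field F]

/-- Index pairs, also used for the exponent vectors of the group on three points. -/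
abbrev V3 := Fin 3 × Fin 3

/-- Exponent vectors of the group on nine points. -/
abbrev V4 := V3 × V3

local notation "M3" => Matrix (Fin 3) (Fin 3) F
local notation "M9" => Matrix (Fin 3 × Fin 3) (Fin 3 × Fin 3) F

/-- `X ^ a Y ^ b`. -/
def W3 (ω : F) (v : V3) : M3 := of fun i j => if j = i + v.2 then chi ω (v.1 * i) else 0

/-- The twisting matrices on nine points. -/
def W9 (ω : F) (v : V4) : M9 := W3 ω v.1 ⊗ₖ W3 ω v.2

/-- The commutator pairing on three points. -/
def sy (v w : V3) : Fin 3 := v.2 * w.1 - v.1 * w.2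

/-- The commutator pairing on nine points. -/
def sy4 (v w : V4) : Fin 3 := sy v.1 w.1 + sy v.2 w.2

/-- The translation part of a twisting matrix on nine points. -/
def sh (v : V4) : V3 := (v.1.2, v.2.2)

/-- The phase part of a twisting matrix on nine points. -/
def ph (v : V4) (x : V3) : Fin 3 := v.1.1 * x.1 + v.2.1 * x.2

theorem W3_apply (ω : F) (v : V3) (i j : Fin 3) : W3 ω v i j = if j = i + v.2 then chi ω (v.1 * i) else 0 := rfl

theorem fin3_law : ∀ a b c : Fin 3, (a + b) * c = a * c + b * c ∧ a * (b + c) = a * b + a * c ∧ 0 * a = 0 ∧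
    1 * a = a ∧ a * b = b * a ∧ a * b * c = a * (b * c) := by decide

section om

variable {ω : F} (hω : ω ^ 2 + ω + 1 = 0)
include hω

theorem W9_apply (v : V4) (x y : V3) :
    W9 ω v x y = if y = x + sh v then chi ω (ph v x) else 0 := by
  show W3 ω v.1 x.1 y.1 * W3 ω v.2 x.2 y.2 = _
  rw [W3_apply, W3_apply]
  by_cases h : y = x + sh v
  · rw [if_pos h, if_pos (show y.1 = x.1 + v.1.2 from congrArg Prod.fst h),
      if_pos (show y.2 = x.2 + v.2.2 from congrArg Prod.snd h), ← chi_add hω]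
    rfl
  · rw [if_neg h]
    by_cases h1 : y.1 = x.1 + v.1.2
    · rw [if_neg (show ¬ y.2 = x.2 + v.2.2 from fun h2 => h (Prod.ext h1 h2)), mul_zero]
    · rw [if_neg h1, zero_mul]

theorem W3_mul (v w : V3) : W3 ω v * W3 ω w = chi ω (v.2 * w.1) • W3 ω (v + w) := by
  ext i j
  rw [Matrix.mul_apply, Finset.sum_eq_single (i + v.2)]
  · rw [W3_apply, if_pos rfl, W3_apply, Matrix.smul_apply, W3_apply, smul_eq_mul, Prod.snd_add, ← add_assoc]
    by_cases h : j = i + v.2 + w.2
    · rw [if_pos h, if_pos h, ← chi_add hω, ← chi_add hω]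
      congr 1
      obtain ⟨a, b⟩ := v
      obtain ⟨c, d⟩ := w
      simp only [Prod.fst_add]
      have : ∀ a b c i : Fin 3, a * i + c * (i + b) = b * c + (a + c) * i := by decide
      exact this a b c i
    · rw [if_neg h, if_neg h, mul_zero, mul_zero]
  · intro k _ hk
    rw [W3_apply, if_neg hk, zero_mul]
  · simp

omit hω in
theorem W3_zero : W3 ω (0 : V3) = 1 := by
  ext i j
  rw [W3_apply, Matrix.one_apply, show i + (0 : V3).2 = i from add_zero i,
    show (0 : V3).1 * i = 0 from (fin3_law i i i).2.2.1, chi_zero]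
  simp [eq_comm]

theorem W3_comm (v w : V3) : W3 ω v * W3 ω w = chi ω (sy v w) • (W3 ω w * W3 ω v) := by
  rw [W3_mul hω, W3_mul hω, smul_smul, ← chi_add hω, add_comm w v]
  congr 2
  rw [sy, (fin3_law w.2 v.1 0).2.2.2.2.1]
  abel

theorem W3_cube (v : V3) : W3 ω v ^ 3 = 1 := by
  rw [pow_succ, pow_two, W3_mul hω, Matrix.smul_mul, W3_mul hω, smul_smul, ← chi_add hω]
  have : ∀ v : V3, v + v + v = 0 ∧ v.2 * v.1 + (v + v).2 * v.1 = 0 := by decide
  rw [(this v).1, (this v).2, chi_zero, W3_zero, one_smul]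

theorem W9_mul (v w : V4) : W9 ω v * W9 ω w = chi ω (v.1.2 * w.1.1 + v.2.2 * w.2.1) • W9 ω (v + w) := by
  rw [W9, W9, ← mul_kronecker_mul, W3_mul hω, W3_mul hω, smul_kronecker, kronecker_smul, smul_smul, chi_add hω]
  rfl

omit hω in
theorem W9_zero : W9 ω (0 : V4) = 1 := by
  rw [W9]
  show W3 ω (0 : V3) ⊗ₖ W3 ω (0 : V3) = 1
  rw [W3_zero, one_kronecker_one]

theorem W3_inj {v w : V3} {c : F} (h3 : (3 : F) ≠ 0) (h : W3 ω v = c • W3 ω w) : v = w := by
  have e : v.2 = w.2 := by
    by_contra hne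
    have h0 := congrFun (congrFun h 0) (0 + v.2)
    rw [Matrix.smul_apply, W3_apply, W3_apply, if_pos rfl, if_neg (by simpa using hne), smul_zero] at h0
    exact chi_ne_zero hω _ h0
  have hi : ∀ i, chi ω (v.1 * i) = c * chi ω (w.1 * i) := fun i => by
    have h0 := congrFun (congrFun h i) (i + v.2)
    rw [Matrix.smul_apply, W3_apply, W3_apply, if_pos rfl, if_pos (by rw [e]), smul_eq_mul] at h0
    exact h0
  have hc : c = 1 := by
    have := hi 0
    rw [(fin3_law v.1 0 0).2.2.2.2.1, (fin3_law v.1 0 0).2.2.1, (fin3_law w.1 0 0).2.2.2.2.1,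
      (fin3_law w.1 0 0).2.2.1, chi_zero, mul_one] at this
    exact this.symm
  refine Prod.ext ?_ e
  have := hi 1
  rw [hc, one_mul] at this
  have h1 := chi_inj hω h3 this
  have : ∀ a b : Fin 3, a * 1 = b * 1 → a = b := by decide
  exact this _ _ h1

theorem W3_scal (h3 : (3 : F) ≠ 0) (A : M3) (h : ∀ v, A * W3 ω v = W3 ω v * A) : ∃ c : F, A = c • 1 := by
  have hX : ∀ i j, i ≠ j → A i j = 0 := by
    intro i j hij
    have e := congrFun (congrFun (h (1, 0)) i) j
    rw [Matrix.mul_apply, Matrix.mul_apply, Finset.sum_eq_single j, Finset.sum_eq_single i] at e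
    · rw [W3_apply, if_pos (add_zero j).symm, W3_apply, if_pos (add_zero i).symm] at e
      have hne : chi ω (1 * j) ≠ chi ω (1 * i) := fun e' => hij (by
        have := chi_inj hω h3 e'
        rw [(fin3_law j 0 0).2.2.2.1, (fin3_law i 0 0).2.2.2.1] at this
        exact this.symm)
      exact (mul_eq_zero.1 (show (chi ω (1 * j) - chi ω (1 * i)) * A i j = 0 by linear_combination e)).resolve_left
        (sub_ne_zero.2 hne)
    · intro k _ hk
      rw [W3_apply, if_neg (by simpa using hk), zero_mul]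
    · simp
    · intro k _ hk
      rw [W3_apply, if_neg (by simpa using Ne.symm hk), mul_zero]
    · simp
  have hY : ∀ i : Fin 3, A i i = A (i + 1) (i + 1) := by
    intro i
    have e := congrFun (congrFun (h (0, 1)) i) (i + 1)
    rw [Matrix.mul_apply, Matrix.mul_apply, Finset.sum_eq_single i, Finset.sum_eq_single (i + 1)] at e
    · simp only [W3_apply, if_true, (fin3_law i 0 0).2.2.1, chi_zero, mul_one, one_mul] at e
      exact e
    · intro k _ hk
      rw [W3_apply, if_neg hk, zero_mul]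
    · simp
    · intro k _ hk
      rw [hX i k (Ne.symm hk), zero_mul]
    · simp
  refine ⟨A 0 0, ?_⟩
  ext i j
  rw [Matrix.smul_apply, Matrix.one_apply, smul_eq_mul]
  by_cases hij : i = j
  · subst hij
    rw [if_pos rfl, mul_one]
    fin_cases i
    · rfl
    · exact (hY 0).symm
    · exact ((hY 0).trans (hY 1)).symm
  · rw [if_neg hij, mul_zero, hX i j hij]

theorem W9_scal (h3 : (3 : F) ≠ 0) (A : M9) (h : ∀ v, A * W9 ω v = W9 ω v * A) : ∃ c : F, A = c • 1 := by
  -- the four slices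
  have hb : ∀ a b : Fin 3, ∀ v, (of fun i j => A (i, a) (j, b) : M3) * W3 ω v =
      W3 ω v * of fun i j => A (i, a) (j, b) := by
    intro a b v
    ext i j
    have e := congrFun (congrFun (h (v, 0)) (i, a)) (j, b)
    rw [W9, show W3 ω ((v, 0) : V4).2 = (1 : M3) from W3_zero] at e
    simpa [Matrix.mul_apply, Fintype.sum_prod_type, Matrix.one_apply, mul_ite, ite_mul] using e
  choose c hc using fun a b => W3_scal hω h3 _ (hb a b)
  have hC : ∀ v, (of fun a b => c a b : M3) * W3 ω v = W3 ω v * of fun a b => c a b := by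
    intro v
    ext a b
    have e := congrFun (congrFun (h (0, v)) (0, a)) (0, b)
    rw [W9, show W3 ω ((0, v) : V4).1 = (1 : M3) from W3_zero] at e
    have hc' : ∀ a b, A (0, a) (0, b) = c a b := fun a b => by
      simpa using congrFun (congrFun (hc a b) 0) 0
    simpa [Matrix.mul_apply, Fintype.sum_prod_type, Matrix.one_apply, mul_ite, ite_mul, hc'] using e
  obtain ⟨d, hd⟩ := W3_scal hω h3 _ hC
  refine ⟨d, ?_⟩
  ext ⟨i, a⟩ ⟨j, b⟩
  have e1 := congrFun (congrFun (hc a b) i) j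
  have e2 := congrFun (congrFun hd a) b
  simp only [of_apply, Matrix.smul_apply, Matrix.one_apply, smul_eq_mul] at e1 e2
  rw [e1, e2, Matrix.smul_apply, Matrix.one_apply, smul_eq_mul]
  by_cases h1 : i = j <;> by_cases h2 : a = b <;> simp [h1, h2]

theorem heis3 (h3 : (3 : F) ≠ 0) : Heis ω (W3 ω) sy where
  om := hω
  three := h3
  mul v w := ⟨_, W3_mul hω v w⟩
  zero := W3_zero
  cube := W3_cube hω
  comm := W3_comm hω
  inj _ _ _ h := W3_inj hω h3 h
  scal := W3_scal hω h3
  dual f hf := by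
    refine ⟨(-f (0, 1), f (1, 0)), fun v => ?_⟩
    have h0 : f 0 = 0 := by
      have := hf 0 0
      rw [add_zero] at this
      exact left_eq_add.1 this
    have hz : ∀ (e : V3) (a : Fin 3), f (a * e.1, a * e.2) = a * f e := by
      intro e a
      have h1 : f (e + e) = f e + f e := hf e e
      have k : ∀ x : Fin 3, 0 * x = 0 ∧ 1 * x = x ∧ 2 * x = x + x := by decide
      have ka : a = 0 ∨ a = 1 ∨ a = 2 := by revert a; decide
      rcases ka with rfl | rfl | rfl
      · rw [(k e.1).1, (k e.2).1, (k (f e)).1]; exact h0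
      · rw [(k e.1).2.1, (k e.2).2.1, (k (f e)).2.1]
      · rw [(k e.1).2.2, (k e.2).2.2, (k (f e)).2.2]; exact h1
    have e : v = (v.1 * 1, v.1 * 0) + (v.2 * 0, v.2 * 1) := by
      have : ∀ v : V3, v = (v.1 * 1, v.1 * 0) + (v.2 * 0, v.2 * 1) := by decide
      exact this v
    have e2 : f v = v.1 * f (1, 0) + v.2 * f (0, 1) := by
      conv_lhs => rw [e]
      rw [hf]
      exact congrArg₂ (· + ·) (hz (1, 0) v.1) (hz (0, 1) v.2)
    rw [e2, sy]
    have : ∀ a b c d : Fin 3, a * c - -b * d = c * a + d * b := by decide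
    exact this _ _ _ _

theorem W9_cube (v : V4) : W9 ω v ^ 3 = 1 := by
  rw [pow_succ, pow_two, W9, ← mul_kronecker_mul, ← mul_kronecker_mul, ← pow_two, ← pow_two, ← pow_succ,
    ← pow_succ, W3_cube hω, W3_cube hω, one_kronecker_one]

theorem W9_inj {v w : V4} {c : F} (h3 : (3 : F) ≠ 0) (h : W9 ω v = c • W9 ω w) : v = w := by
  -- a non-zero entry of each tensor factor
  have key : ∀ i a j b, W3 ω v.1 i j * W3 ω v.2 a b = c * (W3 ω w.1 i j * W3 ω w.2 a b) := fun i a j b =>
    congrFun (congrFun h (i, a)) (j, b)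
  have n2 : W3 ω v.2 0 v.2.2 ≠ 0 := by rw [W3_apply, if_pos (zero_add _).symm]; exact chi_ne_zero hω _
  have n1 : W3 ω v.1 0 v.1.2 ≠ 0 := by rw [W3_apply, if_pos (zero_add _).symm]; exact chi_ne_zero hω _
  refine Prod.ext (W3_inj hω (c := c * W3 ω w.2 0 v.2.2 / W3 ω v.2 0 v.2.2) h3 ?_)
    (W3_inj hω (c := c * W3 ω w.1 0 v.1.2 / W3 ω v.1 0 v.1.2) h3 ?_)
  · ext i j
    rw [Matrix.smul_apply, smul_eq_mul, div_mul_eq_mul_div, eq_div_iff n2, key]
    ring
  · ext a b
    rw [Matrix.smul_apply, smul_eq_mul, div_mul_eq_mul_div, eq_div_iff n1, mul_comm, key]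
    ring

theorem heis9 (h3 : (3 : F) ≠ 0) : Heis ω (W9 ω) sy4 where
  om := hω
  three := h3
  mul v w := ⟨_, W9_mul hω v w⟩
  zero := W9_zero
  cube := W9_cube hω
  comm v w := by
    rw [W9, W9, ← mul_kronecker_mul, ← mul_kronecker_mul, W3_comm hω v.1, W3_comm hω v.2, smul_kronecker,
      kronecker_smul, smul_smul, sy4, chi_add hω]
  inj _ _ _ h := W9_inj hω h3 h
  scal := W9_scal hω h3
  dual f hf := by
    obtain ⟨u₁, h₁⟩ := (heis3 hω h3).dual (fun v => f (v, 0)) fun v w => by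
      show f ((v + w, 0) : V4) = f (v, 0) + f (w, 0)
      rw [← hf]
      exact congrArg f (Prod.ext rfl (add_zero 0).symm)
    obtain ⟨u₂, h₂⟩ := (heis3 hω h3).dual (fun v => f (0, v)) fun v w => by
      show f ((0, v + w) : V4) = f (0, v) + f (0, w)
      rw [← hf]
      exact congrArg f (Prod.ext (add_zero 0).symm rfl)
    refine ⟨(u₁, u₂), fun v => ?_⟩
    rw [sy4, h₁, h₂]
    show f (v.1, 0) + f (0, v.2) = f v
    rw [← hf]
    exact congrArg f (Prod.ext (add_zero _) (zero_add _))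

omit hω in
theorem W3_one_zero : W3 ω ((1, 0) : V3) = Xm ω := by
  ext i j; fin_cases i <;> fin_cases j <;> simp [W3_apply, Xm, chi]

omit hω in
theorem W3_zero_one : W3 ω ((0, 1) : V3) = (Ym : M3) := by
  ext i j; fin_cases i <;> fin_cases j <;> simp [W3_apply, Ym, chi]

theorem W3_eq (v : V3) : W3 ω v = Xm ω ^ (v.1 : ℕ) * (Ym : M3) ^ (v.2 : ℕ) := by
  have hX : ∀ a : Fin 3, W3 ω (a, (0 : Fin 3)) = Xm ω ^ (a : ℕ) := by
    intro a
    have h2 : W3 ω (((1, 0) : V3) + (1, 0)) = Xm ω * Xm ω := by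
      rw [← W3_one_zero, W3_mul hω, (fin3_law 1 0 0).2.2.1, chi_zero, one_smul]
    have ka : a = 0 ∨ a = 1 ∨ a = 2 := by revert a; decide
    rcases ka with rfl | rfl | rfl
    · rw [show ((0 : Fin 3) : ℕ) = 0 from rfl, pow_zero]; exact W3_zero
    · rw [show ((1 : Fin 3) : ℕ) = 1 from rfl, pow_one]; exact W3_one_zero
    · rw [show ((2 : Fin 3) : ℕ) = 2 from rfl, pow_two, ← h2]; rfl
  have hY : ∀ b : Fin 3, W3 ω ((0 : Fin 3), b) = (Ym : M3) ^ (b : ℕ) := by
    intro b
    have h2 : W3 ω (((0, 1) : V3) + (0, 1)) = (Ym : M3) * Ym := by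
      rw [← W3_zero_one, W3_mul hω, show (1 : Fin 3) * 0 = 0 from rfl, chi_zero, one_smul]
    have kb : b = 0 ∨ b = 1 ∨ b = 2 := by revert b; decide
    rcases kb with rfl | rfl | rfl
    · rw [show ((0 : Fin 3) : ℕ) = 0 from rfl, pow_zero]; exact W3_zero
    · rw [show ((1 : Fin 3) : ℕ) = 1 from rfl, pow_one]; exact W3_zero_one
    · rw [show ((2 : Fin 3) : ℕ) = 2 from rfl, pow_two, ← h2]; rfl
  rw [← hX v.1, ← hY v.2, W3_mul hω]
  show W3 ω v = chi ω (0 * 0) • W3 ω (v.1 + 0, 0 + v.2)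
  rw [show (0 : Fin 3) * 0 = 0 from rfl, chi_zero, one_smul, add_zero, zero_add]

theorem inR_iff {A : M3} : CfsgLib.HessianMax.InR ω A ↔ InW ω (W3 ω) A := by
  constructor
  · intro h
    obtain ⟨i, j, k, hi, hj, hk, e⟩ := CfsgLib.HessianMax.InR.norm hω h
    exact ⟨⟨i, hi⟩, (⟨j, hj⟩, ⟨k, hk⟩), by rw [e, W3_eq hω]; rfl⟩
  · rintro ⟨k, v, e⟩
    exact ⟨k, v.1, v.2, by rw [e, W3_eq hω]; rfl⟩

theorem grp_eq [Finite F] (h3 : (3 : F) ≠ 0) : CfsgLib.HessianMax.Rsub F ω hω = (heis3 hω h3).grp := by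
  ext g
  exact inR_iff hω

end om

/-! ### Monomial matrices -/

/-- The monomial matrix with column `y` equal to `ε ω ^ (q y)` at `π y`. -/
def mon (ω ε : F) (π : V3 → V3) (q : V3 → Fin 3) : M9 :=
  of fun x y => if x = π y then ε * chi ω (q y) else 0

/-- The finite conditions for a monomial matrix to act as `L`. -/
def MonAct (π : V3 → V3) (q : V3 → Fin 3) (L : V4 → V4) : Prop :=
  ∀ v : V4, ∃ k : Fin 3, ∀ y : V3, π (y - sh v) + sh (L v) = π y ∧
    q (y - sh v) + ph v (y - sh v) = k + ph (L v) (π y - sh (L v)) + q y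

instance (π : V3 → V3) (q : V3 → Fin 3) (L : V4 → V4) : Decidable (MonAct π q L) := by
  unfold MonAct; infer_instance

theorem mon_act {ω ε : F} (hω : ω ^ 2 + ω + 1 = 0) {π : V3 → V3} {q : V3 → Fin 3} {L : V4 → V4}
    (h : MonAct π q L) : Act (W9 ω) (mon ω ε π q) L := by
  intro v
  obtain ⟨k, hk⟩ := h v
  refine ⟨chi ω k, ?_⟩
  ext x y
  obtain ⟨h1, h2⟩ := hk y
  have hz : ∀ z : V3, y = z + sh v ↔ z = y - sh v := fun z =>
    ⟨fun e => by rw [e, add_sub_cancel_right], fun e => by rw [e, sub_add_cancel]⟩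
  have hw : ∀ z : V3, π y = z + sh (L v) ↔ z = π y - sh (L v) := fun z =>
    ⟨fun e => by rw [e, add_sub_cancel_right], fun e => by rw [e, sub_add_cancel]⟩
  rw [Matrix.mul_apply, Matrix.smul_apply, Matrix.mul_apply, Finset.sum_eq_single (y - sh v),
    Finset.sum_eq_single (π y)]
  · rw [W9_apply hω, if_pos (sub_add_cancel y _).symm, W9_apply hω, smul_eq_mul]
    simp only [mon, of_apply, if_pos]
    have e3 : π (y - sh v) = π y - sh (L v) := eq_sub_of_add_eq h1
    by_cases hx : x = π (y - sh v)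
    · rw [if_pos hx, if_pos ((hw x).2 (hx.trans e3)), hx, e3, mul_assoc, ← chi_add hω, h2, chi_add hω,
        chi_add hω]
      ring
    · rw [if_neg hx, if_neg fun e => hx (((hw x).1 e).trans e3.symm)]
      ring
  · intro z _ hne
    simp only [mon, of_apply]
    rw [if_neg hne, mul_zero]
  · simp
  · intro z _ hne
    rw [W9_apply hω, if_neg fun e => hne ((hz z).1 e), mul_zero]
  · simp

theorem mon_det {ω ε : F} (π : Equiv.Perm V3) (q : V3 → Fin 3) :
    (mon ω ε π q).det = (Equiv.Perm.sign π : F) * ∏ y, ε * chi ω (q y) := by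
  have e : mon ω ε π q = ((Matrix.diagonal fun y => ε * chi ω (q y)).submatrix π.symm id : M9) := by
    ext x y
    simp only [mon, of_apply, submatrix_apply, id, diagonal_apply, Equiv.symm_apply_eq]
    split_ifs <;> simp_all
  rw [e, Matrix.det_permute, Matrix.det_diagonal, Equiv.Perm.sign_symm]

/-! ### Block diagonal matrices and the interchange of the factors -/

/-- The block diagonal matrix with the given blocks. -/
def bd (d : Fin 3 → M3) : M9 := of fun x y => if x.1 = y.1 then d x.1 x.2 y.2 else 0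

theorem bd_mul (d e : Fin 3 → M3) : bd d * bd e = bd fun i => d i * e i := by
  ext ⟨i, a⟩ ⟨j, b⟩
  simp only [bd, Matrix.mul_apply, of_apply, Fintype.sum_prod_type]
  rw [Finset.sum_eq_single i]
  · by_cases h : i = j
    · simp [h]
    · simp [h]
  · intro k _ hk; simp [Ne.symm hk]
  · simp

theorem bd_smul (c : F) (d : Fin 3 → M3) : c • bd d = bd fun i => c • d i := by
  ext x y
  simp only [bd, Matrix.smul_apply, of_apply]
  split_ifs <;> simp

theorem bd_const (A : M3) : bd (fun _ => A) = (1 : M3) ⊗ₖ A := by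
  ext x y
  simp [bd, Matrix.one_apply, ite_mul]

theorem bd_one : bd (fun _ => (1 : M3)) = (1 : M9) := by rw [bd_const, one_kronecker_one]

theorem bd_inj {d e : Fin 3 → M3} (h : bd d = bd e) : d = e := by
  funext i
  ext a b
  simpa [bd] using congrFun (congrFun h (i, a)) (i, b)

theorem bd_det (d : Fin 3 → M3) : (bd d).det = ∏ i, (d i).det := by
  have e : bd d = (Matrix.blockDiagonal d).submatrix Prod.swap Prod.swap := by
    ext x y; simp [bd, blockDiagonal_apply]
  rw [e, show (Prod.swap : V3 → V3) = ⇑(Equiv.prodComm (Fin 3) (Fin 3)) from rfl,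
    Matrix.det_submatrix_equiv_self, Matrix.det_blockDiagonal]

/-- Exchange of the two tensor factors. -/
def sw (A : M9) : M9 := A.submatrix Prod.swap Prod.swap

theorem sw_mul (A B : M9) : sw (A * B) = sw A * sw B :=
  Matrix.submatrix_mul _ _ _ _ _ (Equiv.prodComm (Fin 3) (Fin 3)).bijective

theorem sw_kron (A B : M3) : sw (A ⊗ₖ B) = B ⊗ₖ A := by
  ext x y; simp [sw, mul_comm]

/-- The two-factor action. -/
def pmap (L K : V3 → V3) (v : V4) : V4 := (L v.1, K v.2)

theorem kron_act {ω : F} {g h : M3} {L K : V3 → V3} (hg : Act (W3 ω) g L) (hh : Act (W3 ω) h K) :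
    Act (W9 ω) (g ⊗ₖ h) (pmap L K) := fun v => by
  obtain ⟨a, ha⟩ := hg v.1
  obtain ⟨b, hb⟩ := hh v.2
  exact ⟨a * b, by
    rw [W9, ← mul_kronecker_mul, ha, hb, smul_kronecker, kronecker_smul, smul_smul, mul_kronecker_mul]; rfl⟩

end CfsgLib.NineMax
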