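import Cfsg.Agent.Lib.NineMax.Lin
import Cfsg.Agent.Lib.HessianMax.SL

/-!
Overgroups of the Hessian group in `GL₃`, and groups normalised by `SL₃` containing a transvection.
-/

set_option autoImplicit false
set_option linter.unusedSectionVars false
set_option maxRecDepth 10000

namespace CfsgLib.NineMax

open Matrix
open CfsgLib.HessianMax (Rsub InR gm)

variable {F : Type*} [Field F]

local notation "M3" => Matrix (Fin 3) (Fin 3) F

/-- The elementary transvection with entry `c` at `(i, j)`. -/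
def T3 (i j : Fin 3) (c : F) : M3 := 1 + Matrix.single i j c

theorem T3_det {i j : Fin 3} (h : i ≠ j) (c : F) : (T3 i j c).det = 1 := Matrix.det_transvection_of_ne i j h c

theorem T3_mul {i j : Fin 3} (h : i ≠ j) (c d : F) : T3 i j c * T3 i j d = T3 i j (c + d) :=
  Matrix.transvection_mul_transvection_same i j h c d

theorem T3_zero (i j : Fin 3) : T3 i j (0 : F) = 1 := by rw [T3, Matrix.single_zero, add_zero]

/-- A set closed under products and under conjugation by `SL₃` with one transvection has all of them. -/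
theorem all_T3 {P : M3 → Prop} (hp : ∀ c : F, ∃ m : ℕ, (m : F) = c) (hmul : ∀ x y, P x → P y → P (x * y)) (h1 : P 1)
    (hconj : ∀ g g' x : M3, g.det = 1 → g * g' = 1 → P x → P (g * x * g')) {c : F} (hc : c ≠ 0) (hT : P (T3 0 1 c)) :
    ∀ i j : Fin 3, i ≠ j → ∀ d : F, P (T3 i j d) := by
  intro i j hij
  obtain ⟨π, hi, hj⟩ : ∃ π : Equiv.Perm (Fin 3), π 0 = i ∧ π 1 = j := by revert i j; decide
  have hbase : P (T3 i j c) := by
    obtain ⟨e, he⟩ : ∃ e : F, e = ((Equiv.Perm.sign π : ℤˣ) : ℤ) := ⟨_, rfl⟩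
    have he2 : e * e = 1 := by
      rcases Int.units_eq_one_or (Equiv.Perm.sign π) with h | h <;> simp [he, h]
    have hg : (e • (1 : M3).submatrix π.symm id).det = 1 := by
      rw [det_smul, det_permute, det_one, mul_one, Equiv.Perm.sign_symm, ← he, Fintype.card_fin]
      linear_combination (e * e + 1) * he2
    have hl : ∀ x : M3, (1 : M3).submatrix π.symm id * x = x.submatrix π.symm id := fun x => by
      ext a b; simp [Matrix.mul_apply, Matrix.one_apply]
    have hr : ∀ x : M3, x * (1 : M3).submatrix id π.symm = x.submatrix id π.symm := fun x => by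
      ext a b; simp [Matrix.mul_apply, Matrix.one_apply]
    have hinv : (e • (1 : M3).submatrix π.symm id) * (e • (1 : M3).submatrix id π.symm) = 1 := by
      rw [Matrix.smul_mul, Matrix.mul_smul, smul_smul, he2, one_smul, hl]
      ext a b; simp [Matrix.one_apply]
    have := hconj _ _ _ hg hinv hT
    convert this using 1
    rw [Matrix.smul_mul, Matrix.smul_mul, Matrix.mul_smul, smul_smul, he2, one_smul, hl, hr]
    ext a b
    subst hi hj
    simp [T3, Matrix.one_apply, Matrix.single, Equiv.eq_symm_apply]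
  intro d
  obtain ⟨m, hm⟩ := hp (d / c)
  have key : ∀ m : ℕ, P (T3 i j ((m : F) * c)) := by
    intro m
    induction m with
    | zero => rw [Nat.cast_zero, zero_mul, T3_zero]; exact h1
    | succ m ih => rw [Nat.cast_succ, add_mul, one_mul, ← T3_mul hij]; exact hmul _ _ ih hbase
  have := key m
  rwa [hm, div_mul_cancel₀ d hc] at this

theorem cube_facts : ∀ P Q : V3, sy P Q = -1 →
    ev (P, Q) (ev (P, Q) P) = (1, 0) → ev (P, Q) (ev (P, Q) Q) = (0, 1) →
    (∀ v ∈ [((1, 0) : V3), (0, 1)],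
      let L := fun v => ev (P, Q) (Jl (ev (P, Q) (Jl (Jl (Jl v)))))
      L (L (L v)) = v) →
    (P, Q) = (((1, 0), (0, 1)) : V3 × V3) := by decide +kernel

variable [Fintype F]

/-- An overgroup of the determinant-one normaliser either normalises or covers `SL₃` up to scalars. -/
theorem dich {p : ℕ} (hp : p.Prime) (hF : Fintype.card F = p) (h7 : 7 ≤ p) {ω : F} (hω : ω ^ 2 + ω + 1 = 0)
    (H : Subgroup (GL (Fin 3) F))
    (hN : ∀ g ∈ Subgroup.normalizer (Rsub F ω hω : Set (GL (Fin 3) F)), (g : M3).det = 1 → g ∈ H) :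
    (∀ h ∈ H, h ∈ Subgroup.normalizer (Rsub F ω hω : Set (GL (Fin 3) F))) ∨
      ∀ g : M3, g.det = 1 → ∃ c : F, ∃ h ∈ H, (h : M3) = c • g := by
  haveI : Fact p.Prime := ⟨hp⟩
  haveI : CharP F p := charP_of_card_eq_prime hF
  have h3 : (3 : F) ≠ 0 := fun e => by
    have := Nat.le_of_dvd (by norm_num) ((CharP.cast_eq_zero_iff F p 3).1 (by exact_mod_cast e))
    omega
  haveI : Finite (GL (Fin 3) F) := Finite.of_injective _ Units.val_injective
  set S := Cfsg.Geo.specialLinear (Fin 3) F
  have memS : ∀ g : GL (Fin 3) F, g ∈ S ↔ (g : M3).det = 1 := fun g => by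
    simp [S, Cfsg.Geo.specialLinear, MonoidHom.mem_ker, Units.ext_iff, GeneralLinearGroup.val_det_apply]
  let G0 : Subgroup (GL (Fin 3) F) :=
    { carrier := {g | g ∈ S ∧ ∃ c : F, ∃ h ∈ H, (h : M3) = c • (g : M3)}
      one_mem' := ⟨one_mem _, 1, 1, one_mem H, by simp⟩
      mul_mem' := by
        rintro a b ⟨ha, c, h, hh, e⟩ ⟨hb, d, k, hk, e'⟩
        exact ⟨mul_mem ha hb, c * d, h * k, mul_mem hh hk, by
          rw [Units.val_mul, Units.val_mul, e, e', Matrix.smul_mul, Matrix.mul_smul, smul_smul]⟩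
      inv_mem' := by
        rintro a ⟨ha, c, h, hh, e⟩
        refine ⟨inv_mem ha, c⁻¹, h⁻¹, inv_mem hh, ?_⟩
        have hc : c ≠ 0 := fun e0 => h.isUnit.ne_zero (by rw [e, e0, zero_smul])
        have e1 : (h : M3) * (c⁻¹ • ((a⁻¹ : GL (Fin 3) F) : M3)) = 1 := by
          rw [e, Matrix.smul_mul, Matrix.mul_smul, smul_smul, mul_inv_cancel₀ hc, one_smul, ← Units.val_mul,
            mul_inv_cancel, Units.val_one]
        exact Units.inv_eq_of_mul_eq_one_right e1 }
  rcases (CfsgLib.HessianMax.isMaximalIn_sl_std hp hF h7 hω).2 G0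
      (fun g hg => ⟨hg.2, 1, g, hN g hg.1 ((memS g).1 hg.2), (one_smul _ _).symm⟩) (fun g hg => hg.1) with e | e
  · left
    intro h hh
    have conjN : ∀ x ∈ H, (x : M3).det = 1 → x ∈ Subgroup.normalizer (Rsub F ω hω : Set (GL (Fin 3) F)) := by
      intro x hx hd
      have : x ∈ G0 := ⟨(memS x).2 hd, 1, x, hx, (one_smul _ _).symm⟩
      rw [e] at this
      exact this.1
    have hR : ∀ r ∈ Rsub F ω hω, r ∈ H := fun r hr =>
      hN r (Subgroup.le_normalizer hr) (CfsgLib.HessianMax.det_of_mem hω hr)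
    have H3 := heis3 hω h3
    have mapR : ∀ r ∈ Rsub F ω hω, h * r * h⁻¹ ∈ Rsub F ω hω := by
      intro r hr
      obtain ⟨gg, hgg⟩ := CfsgLib.HessianMax.exists_unit_of_det (CfsgLib.HessianMax.gm_det hω h3)
      have hggN : gg ∈ Subgroup.normalizer (Rsub F ω hω : Set (GL (Fin 3) F)) :=
        CfsgLib.HessianMax.gm_mem hω h3 hgg
      have hggH : gg ∈ H := hN gg hggN (by rw [hgg]; exact CfsgLib.HessianMax.gm_det hω h3)
      -- the conjugated group and its image of the Fourier matrix
      have hg' : h⁻¹ * gg * h ∈ Subgroup.normalizer (Rsub F ω hω : Set (GL (Fin 3) F)) := by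
        refine conjN _ (mul_mem (mul_mem (inv_mem hh) hggH) hh) ?_
        rw [Units.val_mul, Units.val_mul, Matrix.det_mul_comm, ← Matrix.mul_assoc, ← Units.val_mul h h⁻¹,
          mul_inv_cancel, Units.val_one, Matrix.one_mul, hgg, CfsgLib.HessianMax.gm_det hω h3]
      set x := h * r * h⁻¹ with hx
      have hxd : (x : M3).det = 1 := by
        rw [hx, Units.val_mul, Units.val_mul, Matrix.det_mul_comm, ← Matrix.mul_assoc, ← Units.val_mul h⁻¹ h,
          inv_mul_cancel, Units.val_one, Matrix.one_mul, CfsgLib.HessianMax.det_of_mem hω hr]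
      have cube : ∀ r ∈ Rsub F ω hω, r ^ 3 = 1 := fun r hr => Units.ext (by
        rw [Units.val_pow_eq_pow_val, Units.val_one]; exact H3.inW_cube ((inR_iff hω).1 hr))
      have hy : ∃ r' ∈ Rsub F ω hω, gg * x * gg⁻¹ = h * r' * h⁻¹ :=
        ⟨_, (Subgroup.mem_normalizer_iff.1 hg' r).1 hr, by rw [hx]; group⟩
      obtain ⟨r', hr', hy⟩ := hy
      have c1 : x ^ 3 = 1 := by rw [hx, conj_pow, cube r hr]; group
      have c2 : (x * (gg * x * gg⁻¹)) ^ 3 = 1 := by
        rw [hy, hx, show h * r * h⁻¹ * (h * r' * h⁻¹) = h * (r * r') * h⁻¹ by group, conj_pow,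
          cube _ (mul_mem hr hr')]
        group
      have hxN : x ∈ Subgroup.normalizer (H3.grp : Set (GL (Fin 3) F)) :=
        grp_eq hω h3 ▸ conjN x (mul_mem (mul_mem hh (hR r hr)) (inv_mem hh)) hxd
      obtain ⟨L, aL⟩ := H3.mem_normalizer_iff.1 hxN
      have aJ : Act (W3 ω) (gg : M3) Jl := hgg ▸ gm_act hω h3
      obtain ⟨Ji, aJi⟩ := H3.mem_normalizer_iff.1 (inv_mem (H3.mem_normalizer_iff.2 ⟨Jl, aJ⟩))
      have hJi : ∀ v, Ji v = Jl (Jl (Jl v)) := fun v => by
        have h1 := H3.act_uniq isUnit_one (L := Ji ∘ Jl) (K := id)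
          (by rw [← Units.val_one, ← inv_mul_cancel gg, Units.val_mul]; exact aJi.comp aJ) (act_one _)
          (Jl (Jl (Jl v)))
        have h4 : ∀ v, Jl (Jl (Jl (Jl v))) = v := by decide
        rw [Function.comp_apply, h4] at h1
        exact h1
      have hL3 : ∀ v, L (L (L v)) = v := fun v => H3.act_uniq isUnit_one (L := L ∘ L ∘ L) (K := id)
        (by
          have : ((x * (x * x) : GL (Fin 3) F) : M3) = 1 := by rw [← pow_two, ← pow_succ', c1, Units.val_one]
          rw [← this, Units.val_mul, Units.val_mul]; exact aL.comp (aL.comp aL)) (act_one _) v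
      set G := fun v => L (Jl (L (Ji v))) with hG
      have hG3 : ∀ v, G (G (G v)) = v := fun v => by
        have aG : Act (W3 ω) ((x * (gg * x * gg⁻¹) : GL (Fin 3) F) : M3) G := by
          rw [Units.val_mul, Units.val_mul, Units.val_mul]
          exact aL.comp ((aJ.comp aL).comp aJi)
        refine H3.act_uniq isUnit_one (L := G ∘ G ∘ G) (K := id) ?_ (act_one _) v
        have : ((x * (gg * x * gg⁻¹)) * ((x * (gg * x * gg⁻¹)) * (x * (gg * x * gg⁻¹))) : GL (Fin 3) F) = 1 := by
          rw [← pow_two, ← pow_succ', c2]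
        rw [← Units.val_one, ← this, Units.val_mul, Units.val_mul]
        exact aG.comp (aG.comp aG)
      have hev := additive3 (H3.act_add x.isUnit aL)
      have hid := cube_facts (L (1, 0)) (L (0, 1)) (by rw [H3.act_symp x.isUnit aL]; decide)
        (by rw [← hev, ← hev, hL3]) (by rw [← hev, ← hev, hL3]) (fun v _ => by
          simp only [← hev, ← hJi]; exact hG3 v)
      have hLid : ∀ v, L v = v := fun v => by
        rw [hev, hid]
        revert v; decide
      obtain ⟨c, u, hc, eu⟩ := H3.act_id x.isUnit (aL.congr hLid)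
      have hW : (W3 ω u).det = 1 := by
        obtain ⟨g1, hg1⟩ := H3.isUnit u
        rw [← hg1]
        exact CfsgLib.HessianMax.det_of_mem hω (g := g1) ((inR_iff hω).2 (hg1 ▸ H3.inW u))
      rw [eu, det_smul, hW, mul_one, Fintype.card_fin] at hxd
      obtain ⟨k, rfl⟩ := exists_chi hω hxd
      exact (inR_iff hω).2 ⟨k, u, eu⟩
    rw [Subgroup.mem_normalizer_iff]
    intro r
    refine ⟨mapR r, fun hr => ?_⟩
    let f : Rsub F ω hω → Rsub F ω hω := fun y => ⟨h * y * h⁻¹, mapR y y.2⟩
    have hinj : Function.Injective f := fun a b hab => Subtype.ext (by simpa [f] using congrArg Subtype.val hab)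
    obtain ⟨y, hy⟩ := (Finite.injective_iff_surjective.1 hinj) ⟨h * r * h⁻¹, hr⟩
    have : (y : GL (Fin 3) F) = r := by simpa [f] using congrArg Subtype.val hy
    exact this ▸ y.2
  · right
    intro g hg
    obtain ⟨g', e'⟩ := CfsgLib.HessianMax.exists_unit_of_det hg
    have : g' ∈ G0 := e ▸ (memS g').2 (e' ▸ hg)
    obtain ⟨-, c, h, hh, eh⟩ := this
    exact ⟨c, h, hh, e' ▸ eh⟩

end CfsgLib.NineMax
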