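import Cfsg.Agent.Lib.SL2.Subgroups

/-!
Two elements of order three in `SL₂(p)` generating a group of order divisible by `p`.
-/

set_option autoImplicit false
set_option linter.unusedSectionVars false
set_option maxRecDepth 10000

namespace CfsgLib.NineMax

open Matrix
open scoped MatrixGroups
open CfsgLib.SL2

variable {F : Type*} [Field F] [Finite F]

local notation "M2" => Matrix (Fin 2) (Fin 2) F

theorem a5_orders : ∀ x : alternatingGroup (Fin 5), x ^ 2 = 1 ∨ x ^ 3 = 1 ∨ x ^ 5 = 1 := by decide +kernel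

theorem a4_orders : ∀ x : alternatingGroup (Fin 4), x ^ 2 = 1 ∨ x ^ 3 = 1 ∨ x ^ 5 = 1 := by decide +kernel

theorem s4_orders : ∀ a b : Equiv.Perm (Fin 4), a ^ 3 = 1 → b ^ 3 = 1 →
    (a * b) ^ 2 = 1 ∨ (a * b) ^ 3 = 1 ∨ (a * b) ^ 5 = 1 := by decide +kernel

theorem dihedral_comm {n : ℕ} {a b : DihedralGroup n} (ha : a ^ 3 = 1) (hb : b ^ 3 = 1) : a * b = b * a := by
  have key : ∀ {x : DihedralGroup n}, x ^ 3 = 1 → ∃ i, x = DihedralGroup.r i := by
    intro x hx
    rcases x with i | i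
    · exact ⟨i, rfl⟩
    · exfalso
      rw [pow_succ, pow_two, DihedralGroup.sr_mul_self, one_mul] at hx
      cases hx
  obtain ⟨i, rfl⟩ := key ha
  obtain ⟨j, rfl⟩ := key hb
  rw [DihedralGroup.r_mul_r, DihedralGroup.r_mul_r, add_comm]

/-- The trace of a non-scalar matrix whose projective order is two, three or five. -/
theorem trace_of_order {x : SL(2, F)} (hns : NonScalar (x : M2))
    (h : (proj x) ^ 2 = 1 ∨ (proj x) ^ 3 = 1 ∨ (proj x) ^ 5 = 1) :
    let t := (x : M2).trace
    t = 0 ∨ t ^ 2 - 1 = 0 ∨ t ^ 4 - 3 * t ^ 2 + 1 = 0 := by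
  intro t
  have c : (x : M2) * (x : M2) = t • (x : M2) - 1 := by
    rw [cayley, x.2, one_smul]
  have key : ∀ {k : ℕ}, (proj x) ^ k = 1 → ∃ e : F, (x : M2) ^ k = e • 1 := by
    intro k hk
    rw [← map_pow, proj_eq_one_iff] at hk
    rcases eq_one_or_eq_neg_one_of_mem_center _ hk with e | e
    · exact ⟨1, by rw [← Matrix.SpecialLinearGroup.coe_pow, e, one_smul, Matrix.SpecialLinearGroup.coe_one]⟩
    · exact ⟨-1, by rw [← Matrix.SpecialLinearGroup.coe_pow, e]; simp⟩
  have lin : ∀ {a b : F}, a • (x : M2) = b • 1 → a = 0 := by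
    intro a b e
    by_contra ha
    exact hns (a⁻¹ * b) (by rw [mul_smul, ← e, inv_smul_smul₀ ha])
  have p2 : (x : M2) ^ 2 = t • (x : M2) - 1 := by rw [pow_two, c]
  have p3 : (x : M2) ^ 3 = (t ^ 2 - 1) • (x : M2) - t • 1 := by
    rw [pow_succ, p2, Matrix.sub_mul, Matrix.smul_mul, c, Matrix.one_mul]
    module
  have p4 : (x : M2) ^ 4 = (t ^ 3 - 2 * t) • (x : M2) - (t ^ 2 - 1) • 1 := by
    rw [pow_succ, p3, Matrix.sub_mul, Matrix.smul_mul, c, Matrix.smul_mul, Matrix.one_mul]
    module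
  have p5 : (x : M2) ^ 5 = (t ^ 4 - 3 * t ^ 2 + 1) • (x : M2) - (t ^ 3 - 2 * t) • 1 := by
    rw [pow_succ, p4, Matrix.sub_mul, Matrix.smul_mul, c, Matrix.smul_mul, Matrix.one_mul]
    module
  rcases h with h | h | h <;> obtain ⟨e, he⟩ := key h
  · exact Or.inl (lin (b := e + 1) (by rw [add_smul, ← he, p2, one_smul, sub_add_cancel]))
  · exact Or.inr (Or.inl (lin (b := e + t) (by rw [add_smul, ← he, p3, sub_add_cancel])))
  · exact Or.inr (Or.inr (lin (b := e + (t ^ 3 - 2 * t)) (by rw [add_smul e, ← he, p5, sub_add_cancel])))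

variable {p : ℕ} [hp : Fact p.Prime] [CharP F p]

/-- A non-trivial element of `p`-power order gives a non-trivial unipotent. -/
theorem unip_of_order {H : Subgroup SL(2, F)} (hp2 : p ≠ 2) {g : SL(2, F)} (hg : g ∈ H) (ho : orderOf (proj g) = p) :
    ∃ h ∈ H, (h : M2) ≠ 1 ∧ ((h : M2) - 1) * ((h : M2) - 1) = 0 := by
  refine ⟨g * g, mul_mem hg hg, ?_, ?_⟩
  · intro e
    have e2 : (proj g) ^ 2 = 1 := by
      rw [← map_pow, pow_two, (coe_eq_one_iff _).1 e, map_one]
    have := orderOf_dvd_of_pow_eq_one e2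
    rw [ho] at this
    exact hp2 ((Nat.prime_dvd_prime_iff_eq hp.out Nat.prime_two).1 this)
  · have e1 : proj (g ^ p) = 1 := by rw [map_pow, ← ho, pow_orderOf_eq_one]
    have e2 : ((g * g : SL(2, F)) : M2) ^ p = 1 := by
      rw [← Matrix.SpecialLinearGroup.coe_pow, ← pow_two, pow_right_comm, pow_two]
      rcases eq_one_or_eq_neg_one_of_mem_center _ ((proj_eq_one_iff _).1 e1) with e | e <;> rw [e] <;> simp
    set y := ((g * g : SL(2, F)) : M2)
    have h0 : (y - 1) ^ p = 0 := by rw [sub_pow_char_of_commute p (Commute.one_right y), e2, one_pow, sub_self]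
    have hch : (y - 1) * (y - 1) = (y - 1).trace • (y - 1) - (y - 1).det • 1 := cayley _
    have hd : (y - 1).det = 0 := by
      have := congrArg Matrix.det h0
      rw [det_pow, det_zero] at this
      exact pow_eq_zero_iff hp.out.ne_zero |>.1 this
    rw [hd, zero_smul, sub_zero] at hch
    by_cases ht : (y - 1).trace = 0
    · rw [hch, ht, zero_smul]
    · exfalso
      have hk : ∀ k : ℕ, (y - 1) ^ (k + 1) = (y - 1).trace ^ k • (y - 1) := by
        intro k
        induction k with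
        | zero => simp
        | succ k ih => rw [pow_succ, ih, Matrix.smul_mul, hch, smul_smul, ← pow_succ]
      have h1 := hk (p - 1)
      rw [Nat.sub_add_cancel hp.out.one_le, h0] at h1
      have h2 : (y - 1).trace = 0 := by
        rw [(smul_eq_zero.1 h1.symm).resolve_left (pow_ne_zero _ ht), Matrix.trace_zero]
      exact ht h2

/-- The group generated by the two given matrices contains a non-trivial unipotent. -/
theorem exists_unip [Fintype F] (hF : Fintype.card F = p) (h7 : 7 ≤ p) (h31 : p % 3 = 1) {ω d : F} (hω : ω ^ 2 + ω + 1 = 0)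
    (hd : 3 * d = ω ^ 2 - ω) {R S : SL(2, F)} (hR : (R : M2) = !![ω ^ 2, d; 0, ω])
    (hS : (S : M2) = !![ω, 0; d, ω ^ 2]) :
    ∃ h ∈ Subgroup.closure ({R, S} : Set SL(2, F)), (h : M2) ≠ 1 ∧ ((h : M2) - 1) * ((h : M2) - 1) = 0 := by
  have w3 : ω ^ 3 = 1 := by linear_combination (ω - 1) * hω
  have hp2 : p ≠ 2 := by omega
  have ne0 : ∀ m : ℕ, m ≠ 0 → ¬ p ∣ m → (m : F) ≠ 0 := fun m _ hm e => hm ((CharP.cast_eq_zero_iff F p m).1 e)
  have h3 : (3 : F) ≠ 0 := by
    have := ne0 3 (by norm_num) (fun e => by have := Nat.le_of_dvd (by norm_num) e; omega)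
    exact_mod_cast this
  have hd2 : 9 * (d * d) = -3 := by
    linear_combination (3 * d + (ω ^ 2 - ω)) * hd + (ω ^ 2 - 3 * ω + 3) * hω
  have hd0 : d ≠ 0 := fun e => h3 (by rw [e] at hd2; linear_combination hd2)
  have R3 : R ^ 3 = 1 := by
    apply Subtype.ext
    rw [Matrix.SpecialLinearGroup.coe_pow, hR, Matrix.SpecialLinearGroup.coe_one]
    ext i j
    fin_cases i <;> fin_cases j <;> simp [pow_succ, Matrix.mul_apply, Fin.sum_univ_two] <;> grind
  have S3 : S ^ 3 = 1 := by
    apply Subtype.ext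
    rw [Matrix.SpecialLinearGroup.coe_pow, hS, Matrix.SpecialLinearGroup.coe_one]
    ext i j
    fin_cases i <;> fin_cases j <;> simp [pow_succ, Matrix.mul_apply, Fin.sum_univ_two] <;> grind
  set x := R * (S * S) with hxd
  have hx : (x : M2) = !![ω - d ^ 2, ω * d; -(ω * d), ω ^ 2] := by
    rw [hxd, Matrix.SpecialLinearGroup.coe_mul, Matrix.SpecialLinearGroup.coe_mul, hR, hS]
    ext i j
    fin_cases i <;> fin_cases j <;> simp [Matrix.mul_apply, Fin.sum_univ_two] <;> grind
  have hns : NonScalar (x : M2) := fun c e => by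
    have := congrFun (congrFun e 0) 1
    rw [hx] at this
    simp at this
    rcases this with e' | e'
    · simp [e'] at hω
    · exact hd0 e'
  set H := (Subgroup.closure ({R, S} : Set SL(2, F))).map proj with hH
  have hRH : proj R ∈ H := Subgroup.mem_map_of_mem _ (Subgroup.subset_closure (by simp))
  have hSH : proj S ∈ H := Subgroup.mem_map_of_mem _ (Subgroup.subset_closure (by simp))
  have p3R : (⟨proj R, hRH⟩ : H) ^ 3 = 1 := Subtype.ext (by
    show proj R ^ 3 = 1; rw [← map_pow, R3, map_one])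
  have p3S : (⟨proj S, hSH⟩ : H) ^ 3 = 1 := Subtype.ext (by
    show proj S ^ 3 = 1; rw [← map_pow, S3, map_one])
  have p3SS : ((⟨proj S, hSH⟩ : H) * ⟨proj S, hSH⟩) ^ 3 = 1 := by
    rw [(Commute.refl _).mul_pow, p3S, one_mul]
  -- the projective order of `x` is bad
  have noOrd : ¬ ((proj x) ^ 2 = 1 ∨ (proj x) ^ 3 = 1 ∨ (proj x) ^ 5 = 1) := by
    intro h
    have ht : 3 * (x : M2).trace = -2 := by
      rw [hx, Matrix.trace_fin_two]
      simp
      have : (3 : F) * (3 * (ω - d ^ 2 + ω ^ 2)) = 3 * (-2) := by linear_combination 9 * hω - hd2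
      exact mul_left_cancel₀ h3 this
    set t := (x : M2).trace
    have hbad : (2 : ℕ) ≠ p ∧ (5 : ℕ) ≠ p ∧ (11 : ℕ) ≠ p := by omega
    have nd : ∀ m q : ℕ, m = q → q.Prime → q ≠ p → (m : F) ≠ 0 := fun m q e hq hne =>
      e ▸ ne0 q hq.ne_zero fun hd => hne ((Nat.prime_dvd_prime_iff_eq hp.out hq).1 hd).symm
    rcases trace_of_order hns h with e | e | e
    · have := nd 2 2 rfl Nat.prime_two hbad.1
      exact this (by push_cast; linear_combination ht - 3 * e)
    · have := nd 5 5 rfl (by norm_num) hbad.2.1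
      exact this (by push_cast; linear_combination (-9) * e + (3 * t - 2) * ht)
    · have := nd 11 11 rfl (by norm_num) hbad.2.2
      exact this (by push_cast; linear_combination (-81) * e + (27 * t ^ 3 - 18 * t ^ 2 - 69 * t + 46) * ht)
  have xH : (⟨proj R, hRH⟩ : H) * (⟨proj S, hSH⟩ * ⟨proj S, hSH⟩) = (⟨proj x, by
      rw [hxd, map_mul, map_mul]; exact mul_mem hRH (mul_mem hSH hSH)⟩ : H) :=
    Subtype.ext (by simp [hxd])
  have ofEquiv : ∀ {G : Type} [Group G], (H ≃* G) → (∀ a b : G, a ^ 3 = 1 → b ^ 3 = 1 →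
      (a * b) ^ 2 = 1 ∨ (a * b) ^ 3 = 1 ∨ (a * b) ^ 5 = 1) → False := by
    intro G _ f hG
    refine noOrd ?_
    have := hG (f ⟨proj R, hRH⟩) (f (⟨proj S, hSH⟩ * ⟨proj S, hSH⟩)) (by rw [← map_pow, p3R, map_one])
      (by rw [← map_pow, p3SS, map_one])
    rw [← map_mul, xH, ← map_pow, ← map_pow, ← map_pow, ← map_one f, f.injective.eq_iff, f.injective.eq_iff,
      f.injective.eq_iff] at this
    simpa [Subtype.ext_iff] using this
  have of_ord : ∀ y : H, orderOf y = p →
      ∃ h ∈ Subgroup.closure ({R, S} : Set SL(2, F)), (h : M2) ≠ 1 ∧ ((h : M2) - 1) * ((h : M2) - 1) = 0 := by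
    intro y hy
    obtain ⟨g, hg, e⟩ := y.2
    refine unip_of_order (p := p) hp2 hg ?_
    rw [e, Subgroup.orderOf_coe]
    exact hy
  rcases dickson p H with ⟨c, -, -, hcd⟩ | ⟨k, hk⟩ | ⟨⟨f⟩⟩ | ⟨⟨f⟩⟩ | ⟨⟨f⟩⟩ | hsub
  · exfalso
    have hcomm : (⟨proj R, hRH⟩ : H) * ⟨proj S, hSH⟩ = ⟨proj S, hSH⟩ * ⟨proj R, hRH⟩ := by
      rcases hcd with ⟨hc, -⟩ | ⟨⟨f⟩⟩
      · exact hc.commGroup.mul_comm _ _
      · apply f.injective
        rw [map_mul, map_mul]
        exact dihedral_comm (by rw [← map_pow, p3R, map_one]) (by rw [← map_pow, p3S, map_one])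
    have e := congrArg Subtype.val hcomm
    simp only [Subgroup.coe_mul, ← map_mul] at e
    rcases eq_or_eq_neg_of_proj_eq e with e' | e'
    · have := congrFun (congrFun (congrArg Subtype.val e') 0) 0
      simp [hR, hS, Matrix.mul_apply, Fin.sum_univ_two] at this
      exact hd0 (mul_self_eq_zero.1 (by grind))
    · have := congrFun (congrFun (congrArg Subtype.val e') 0) 0
      simp [hR, hS, Matrix.mul_apply, Fin.sum_univ_two] at this
      have h5 : (5 : F) ≠ 0 := by
        have := ne0 5 (by norm_num) (fun e => by have := (Nat.prime_dvd_prime_iff_eq hp.out (by norm_num)).1 e; omega)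
        exact_mod_cast this
      have h15 : (15 : F) ≠ 0 := by
        have := mul_ne_zero h3 h5; norm_num at this; exact this
      exact h15 (by grind)
  · obtain ⟨g, rfl⟩ := proj_surjective k
    have hk' : ∀ {z : SL(2, F)}, z ∈ ({R, S} : Set SL(2, F)) → ((g * z * g⁻¹ : SL(2, F)) : M2) 1 0 = 0 := fun hz =>
      proj_mem_borelPSL.1 (by rw [map_mul, map_mul, map_inv]; exact hk _ (Subgroup.mem_map_of_mem _ (Subgroup.subset_closure hz)))
    set A := g * R * g⁻¹ with hA
    set B := g * S * g⁻¹ with hB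
    have a10 : (A : M2) 1 0 = 0 := hk' (by simp)
    have b10 : (B : M2) 1 0 = 0 := hk' (by simp)
    set u := A * B * A⁻¹ * B⁻¹ with hu
    refine ⟨g⁻¹ * u * g, ?_, ?_, ?_⟩
    · have hR' : R ∈ Subgroup.closure ({R, S} : Set SL(2, F)) := Subgroup.subset_closure (by simp)
      have hS' : S ∈ Subgroup.closure ({R, S} : Set SL(2, F)) := Subgroup.subset_closure (by simp)
      rw [show g⁻¹ * u * g = R * S * R⁻¹ * S⁻¹ by rw [hu, hA, hB]; group]
      exact mul_mem (mul_mem (mul_mem hR' hS') (inv_mem hR')) (inv_mem hS')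
    · rw [show g⁻¹ * u * g = R * S * R⁻¹ * S⁻¹ by rw [hu, hA, hB]; group]
      intro e
      have e1 : R * S = S * R := commutatorElement_eq_one_iff_mul_comm.1 ((coe_eq_one_iff _).1 e)
      have := congrFun (congrFun (congrArg Subtype.val e1) 0) 0
      simp [hR, hS, Matrix.mul_apply, Fin.sum_univ_two] at this
      exact hd0 (mul_self_eq_zero.1 (by grind))
    · have hu' : (u : M2) = !![1, (u : M2) 0 1; 0, 1] := by
        have dA := det_eq A
        have dB := det_eq B
        rw [a10, mul_zero, sub_zero] at dA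
        rw [b10, mul_zero, sub_zero] at dB
        rw [hu]
        ext i j
        fin_cases i <;> fin_cases j <;>
          simp [Matrix.mul_apply, Fin.sum_univ_two, Matrix.adjugate_fin_two, a10, b10] <;> grind
      have e : ((g⁻¹ * u * g : SL(2, F)) : M2) - 1 = ((g⁻¹ : SL(2, F)) : M2) * ((u : M2) - 1) * (g : M2) := by
        rw [Matrix.SpecialLinearGroup.coe_mul, Matrix.SpecialLinearGroup.coe_mul, Matrix.mul_sub, Matrix.sub_mul,
          Matrix.mul_one, ← Matrix.SpecialLinearGroup.coe_mul g⁻¹ g, inv_mul_cancel, Matrix.SpecialLinearGroup.coe_one]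
      have e' : ((u : M2) - 1) * ((u : M2) - 1) = 0 := by
        rw [hu']
        ext i j
        fin_cases i <;> fin_cases j <;> simp [Matrix.mul_apply, Fin.sum_univ_two]
      rw [e]
      calc _ = ((g⁻¹ : SL(2, F)) : M2) * (((u : M2) - 1) * ((g : M2) * ((g⁻¹ : SL(2, F)) : M2)) * ((u : M2) - 1)) * (g : M2) := by
            simp only [Matrix.mul_assoc]
        _ = 0 := by
          rw [← Matrix.SpecialLinearGroup.coe_mul g g⁻¹, mul_inv_cancel, Matrix.SpecialLinearGroup.coe_one,
            Matrix.mul_one, e', Matrix.mul_zero, Matrix.zero_mul]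
  · exact (ofEquiv f fun a b _ _ => a4_orders _).elim
  · exact (ofEquiv f s4_orders).elim
  · exact (ofEquiv f fun a b _ _ => a5_orders _).elim
  · obtain ⟨K, _, _, m, hm, hKH⟩ := hsub
    rw [Nat.card_eq_fintype_card, hF] at hm
    have hKp : Fintype.card K = p := by
      have h1 : Fintype.card K ∣ p := by
        rcases m with _ | m
        · rw [pow_zero] at hm; omega
        · exact ⟨Fintype.card K ^ m, by rw [← hm, pow_succ']⟩
      exact (hp.out.eq_one_or_self_of_dvd _ h1).resolve_left (ne_of_gt Fintype.one_lt_card)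
    haveI : CharP K p := charP_of_card_eq_prime hKp
    obtain ⟨g, hg⟩ := exists_orderOf_proj_eq_char (F := K) p
    rcases hKH with ⟨⟨f⟩⟩ | ⟨⟨f⟩⟩
    · exact of_ord (f.symm (proj g)) (by rw [MulEquiv.orderOf_eq]; exact hg)
    · refine of_ord (f.symm (Matrix.ProjectiveSpecialLinearGroup.toPGL (proj g))) ?_
      rw [MulEquiv.orderOf_eq, orderOf_injective _ Matrix.ProjectiveSpecialLinearGroup.toPGL_injective]
      exact hg

end CfsgLib.NineMax
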