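import Cfsg.Agent.Lib.NineMax.Cent

/-!
A proper overgroup of the determinant-one normaliser on nine points is the normaliser itself.
-/

set_option autoImplicit false
set_option linter.unusedSectionVars false
set_option maxRecDepth 10000
set_option maxHeartbeats 1000000

namespace CfsgLib.NineMax

open Matrix
open scoped Kronecker

variable {F : Type*} [Field F] [Fintype F]

local notation "M9" => Matrix (Fin 3 × Fin 3) (Fin 3 × Fin 3) F
local notation "G9" => GL (Fin 3 × Fin 3) F

variable {p : ℕ} {ω : F} {M : Subgroup (GL (Fin 3 × Fin 3) F)}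

namespace Setup

variable (h : Setup p ω M)
include h

/-- Every element of the group normalises the twisting group. -/
theorem all_act {m : G9} (hm : m ∈ M) : ∃ L, Act (W9 ω) (m : M9) L := by
  classical
  haveI : Finite (GL V3 F) := Finite.of_injective _ Units.val_injective
  haveI : Fact (Nat.Prime 2) := ⟨Nat.prime_two⟩
  have H := h.heis
  set N := Subgroup.normalizer (H.grp : Set G9) ⊓ M with hNdef
  have memN : ∀ g : G9, g ∈ M → (g ∈ N ↔ ∃ L, Act (W9 ω) (g : M9) L) := fun g hg =>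
    ⟨fun hgN => H.mem_normalizer_iff.1 hgN.1, fun hL => ⟨H.mem_normalizer_iff.2 hL, hg⟩⟩
  obtain ⟨t, htM, et⟩ := h.in_tM
  obtain ⟨r, hrM, er⟩ := h.in_t4M
  have htN : t ∈ N := (memN t htM).2 ⟨_, et.symm ▸ tM_act h.om⟩
  have hrN : r ∈ N := (memN r hrM).2 ⟨_, er.symm ▸ t4M_act h.om⟩
  have r2 : r * r = 1 := Units.ext (by rw [Units.val_mul, er, t4M_sq, Units.val_one])
  have t2 : t * t = 1 := Units.ext (by rw [Units.val_mul, et, tM_sq, Units.val_one])
  have tr_conj : ∀ g x : G9, ((g * x * g⁻¹ : G9) : M9).trace = (x : M9).trace := fun g x => by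
    rw [Units.val_mul, Units.val_mul, Matrix.trace_mul_comm, ← Matrix.mul_assoc, ← Units.val_mul, inv_mul_cancel,
      Units.val_one, Matrix.one_mul]
  have hne : (-3 : F) ≠ 1 := fun e => by
    have := h.natCast_ne (m := 4) (by norm_num) (by have := h.seven; omega)
    apply this; push_cast; linear_combination -e
  -- classes of involutions
  have cls : ∀ s ∈ N, s * s = 1 → s ≠ 1 →
      (∃ b ∈ N, b * s * b⁻¹ = t) ∨ (∃ b ∈ N, b * s * b⁻¹ = r) := by
    intro s hs hs2 hs1
    obtain ⟨L, aL⟩ := (memN s hs.2).1 hs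
    have hs1' : (s : M9) ≠ 1 := fun e => hs1 (Units.ext (by rw [e, Units.val_one]))
    have mk : ∀ (T : M9) (u : G9), (u : M9) = T → Cj ω (s : M9) T → ∃ b ∈ N, b * s * b⁻¹ = u := by
      rintro T u eu ⟨B, dB, ⟨K, aB⟩, e⟩
      obtain ⟨b, hb, eb⟩ := h.in_act dB aB
      refine ⟨b, (memN b hb).2 ⟨K, eb.symm ▸ aB⟩, ?_⟩
      rw [mul_inv_eq_iff_eq_mul]
      exact Units.ext (by rw [Units.val_mul, Units.val_mul, eb, eu, e])
    rcases inv_class h.om h.three (h.det s hs.2) aL (by rw [← Units.val_mul, hs2, Units.val_one]) hs1' with e | e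
    · exact Or.inl (mk _ t et e)
    · exact Or.inr (mk _ r er e)
  have centT : ∀ g ∈ M, g * t = t * g → g ∈ N := fun g hg e => (memN g hg).2 (h.act_of_comm_tM hg (by
    show (g : M9) * tM ω = tM ω * (g : M9)
    rw [← et, ← Units.val_mul, e, Units.val_mul]))
  have key : ∀ s ∈ N, (∃ b ∈ N, b * s * b⁻¹ = t) → ∀ g ∈ M, g * s * g⁻¹ ∈ N → g ∈ N := by
    rintro s hs ⟨b, hb, eb⟩ g hg hgs
    have e1 : (g * s * g⁻¹) * (g * s * g⁻¹) = 1 := by
      have : s * s = 1 := by
        rw [show s = b⁻¹ * t * b by rw [← eb]; group, show b⁻¹ * t * b * (b⁻¹ * t * b) = b⁻¹ * (t * t) * b by group,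
          t2, mul_one, inv_mul_cancel]
      rw [show g * s * g⁻¹ * (g * s * g⁻¹) = g * (s * s) * g⁻¹ by group, this, mul_one, mul_inv_cancel]
    have etr : ((g * s * g⁻¹ : G9) : M9).trace = -3 := by
      rw [tr_conj, ← tr_conj b, eb, et, tM_trace]
    obtain ⟨c, hc, ec⟩ | ⟨c, hc, ec⟩ := cls _ hgs e1 (fun e => by
      rw [e, Units.val_one, Matrix.trace_one, Fintype.card_prod, Fintype.card_fin] at etr
      have := h.natCast_ne (m := 3) (by norm_num) (by have := h.seven; omega)
      have h4 := h.natCast_ne (m := 4) (by norm_num) (by have := h.seven; omega)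
      apply mul_ne_zero this h4
      push_cast at etr ⊢
      linear_combination etr)
    · have : c * g * b⁻¹ ∈ N := centT _ (mul_mem (mul_mem hc.2 hg) (inv_mem hb.2)) (by
        nth_rw 1 [← eb]; rw [← ec]; group)
      have := mul_mem (mul_mem (inv_mem hc) this) hb
      rwa [show c⁻¹ * (c * g * b⁻¹) * b = g by group] at this
    · exfalso
      rw [← tr_conj c, ec, er, t4M_trace] at etr
      exact hne etr.symm
  have uniq : ∀ s ∈ N, (∃ b ∈ N, b * s * b⁻¹ = r) → s * r = r * s → s = r := by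
    rintro s hs ⟨b, hb, eb⟩ hsr
    obtain ⟨L, aL⟩ := (memN s hs.2).1 hs
    have hs2 : s * s = 1 := by
      rw [show s = b⁻¹ * r * b by rw [← eb]; group, show b⁻¹ * r * b * (b⁻¹ * r * b) = b⁻¹ * (r * r) * b by group,
        r2, mul_one, inv_mul_cancel]
    refine Units.ext (er ▸ uniq_t4 h.om h.three (h.det s hs.2) aL (by rw [← Units.val_mul, hs2, Units.val_one]) ?_ ?_)
    · obtain ⟨K, aB⟩ := (memN b hb.2).1 hb
      refine ⟨(b : M9), h.det b hb.2, ⟨K, aB⟩, ?_⟩
      rw [← er, ← Units.val_mul, ← Units.val_mul]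
      congr 1
      rw [← eb, inv_mul_cancel_right]
    · rw [← er, ← Units.val_mul, ← Units.val_mul, hsr]
  -- the centraliser of the involution of trace one
  set T := M ⊓ Subgroup.centralizer ({r} : Set G9) with hT
  have memT : ∀ g, g ∈ T ↔ g ∈ M ∧ g * r = r * g := fun g => by
    rw [hT, Subgroup.mem_inf, Subgroup.mem_centralizer_singleton_iff]
  have htr : t * r = r * t := Units.ext (by
    rw [Units.val_mul, Units.val_mul, et, er]
    ext x y
    rw [Matrix.mul_apply, Matrix.mul_apply, Finset.sum_eq_single (negBoth y), Finset.sum_eq_single (negFst y)]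
    · simp [tM, t4M, mon, chi, negFst, negBoth]
      split_ifs <;> simp
    · intro z _ hz; simp [tM, mon, hz]
    · simp
    · intro z _ hz; simp [t4M, mon, hz]
    · simp)
  have ht2g : IsPGroup 2 (Subgroup.zpowers t) := IsPGroup.of_card (n := 1) (by
    rw [Nat.card_zpowers, pow_one]
    refine orderOf_eq_prime (by rw [pow_two, t2]) fun e => ?_
    have := congrArg (fun g : G9 => (g : M9).trace) e
    simp only [et, tM_trace, Units.val_one, Matrix.trace_one, Fintype.card_prod, Fintype.card_fin] at this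
    apply mul_ne_zero (h.natCast_ne (m := 3) (by norm_num) (by have := h.seven; omega))
      (h.natCast_ne (m := 4) (by norm_num) (by have := h.seven; omega))
    push_cast at this ⊢
    linear_combination -this)
  have hconj : ∀ w ∈ T, w * w = 1 → ∃ c ∈ T, c⁻¹ * w * c ∈ N := by
    intro w hw hw2
    set C := N ⊓ T with hC
    have htC : t ∈ C := ⟨htN, (memT t).2 ⟨htM, htr⟩⟩
    obtain ⟨S₀, hS₀⟩ := ((ht2g.to_le le_rfl).comap_of_injective C.subtype C.subtype_injective).exists_le_sylow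
    set S := (S₀ : Subgroup C).map C.subtype with hS
    have hSC : S ≤ C := Subgroup.map_subtype_le _
    have hSg : IsPGroup 2 S := S₀.2.map _
    have htS : t ∈ S := ⟨⟨t, htC⟩, hS₀ (Subgroup.mem_zpowers t), rfl⟩
    have hmax : ∀ Q : Subgroup G9, IsPGroup 2 Q → S ≤ Q → Q ≤ C → Q = S := by
      intro Q hQ hSQ hQC
      have h1 := S₀.3 (hQ.comap_of_injective C.subtype C.subtype_injective : IsPGroup 2 (Q.subgroupOf C))
        (fun x hx => hSQ ⟨x, hx, rfl⟩)
      rw [hS, ← h1]
      exact (Subgroup.map_subgroupOf_eq_of_le hQC).symm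
    have hsylT : ∀ Q : Subgroup G9, IsPGroup 2 Q → S ≤ Q → Q ≤ T → Q = S := by
      intro Q hQ hSQ hQT
      by_contra hne'
      haveI : Group.IsNilpotent Q := hQ.isNilpotent
      have hlt : S.subgroupOf Q < ⊤ := lt_top_iff_ne_top.2 fun e =>
        hne' (le_antisymm (Subgroup.subgroupOf_eq_top.1 e) hSQ)
      obtain ⟨q, hq, hqS⟩ := SetLike.exists_of_lt (normalizerCondition_of_isNilpotent _ hlt)
      have hqn : ∀ y ∈ S, (q : G9) * y * (q : G9)⁻¹ ∈ S := fun y hy =>
        (Subgroup.mem_normalizer_iff.1 hq ⟨y, hSQ hy⟩).1 hy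
      have hqN : (q : G9) ∈ N := key t htN ⟨1, one_mem N, by group⟩ q ((memT _).1 (hQT q.2)).1
        (hSC (hqn t htS)).1
      have hQ' : S ⊔ Subgroup.zpowers (q : G9) ≤ Q := sup_le hSQ (Subgroup.zpowers_le.2 q.2)
      have := hmax _ (hQ.to_le hQ') le_sup_left (sup_le hSC (Subgroup.zpowers_le.2 ⟨hqN, hQT q.2⟩))
      exact hqS (show (q : G9) ∈ S from this ▸ (le_sup_right : Subgroup.zpowers (q : G9) ≤ _) (Subgroup.mem_zpowers _))
    let P : Sylow 2 T := ⟨S.subgroupOf T, hSg.comap_of_injective _ T.subtype_injective, fun {Q} hQ hle => by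
      have h1 := hsylT (Q.map T.subtype) (hQ.map _) (fun x hx => ⟨⟨x, (hSC hx).2⟩, hle hx, rfl⟩)
        (Subgroup.map_subtype_le Q)
      exact Subgroup.map_injective T.subtype_injective (h1.trans (Subgroup.map_subgroupOf_eq_of_le
        (fun x hx => (hSC hx).2)).symm)⟩
    have hwg : IsPGroup 2 (Subgroup.zpowers (⟨w, hw⟩ : T)) := fun x => by
      obtain ⟨_, n, rfl⟩ := x
      refine ⟨1, Subtype.ext ?_⟩
      have hsq : (⟨w, hw⟩ : T) * ⟨w, hw⟩ = 1 := Subtype.ext hw2
      simp only [pow_one, SubmonoidClass.coe_pow, OneMemClass.coe_one]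
      rw [← zpow_natCast, ← _root_.zpow_mul, mul_comm, _root_.zpow_mul, zpow_natCast, pow_two, hsq, _root_.one_zpow]
    obtain ⟨Q, hQ⟩ := hwg.exists_le_sylow
    obtain ⟨c, hc⟩ := MulAction.exists_smul_eq T P Q
    have h1 := hQ (Subgroup.mem_zpowers _)
    rw [← hc, Sylow.coe_subgroup_smul, Subgroup.mem_pointwise_smul_iff_inv_smul_mem] at h1
    refine ⟨c, c.2, (hSC ?_).1⟩
    have h2 : (((MulAut.conj c)⁻¹ • (⟨w, hw⟩ : T) : T) : G9) ∈ S := h1
    simpa [MulAut.smul_def, mul_assoc] using h2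
  -- conjugates of the involution of trace one
  have hr : ∀ g ∈ M, g * r * g⁻¹ ∈ N := by
    intro g hg
    obtain ⟨s, hs⟩ : ∃ s, s = g⁻¹ * t * g := ⟨_, rfl⟩
    have s2 : s * s = 1 := by
      rw [hs, show g⁻¹ * t * g * (g⁻¹ * t * g) = g⁻¹ * (t * t) * g by group, t2, mul_one, inv_mul_cancel]
    have sM : s ∈ M := hs ▸ mul_mem (mul_mem (inv_mem hg) htM) hg
    have str : (s : M9).trace = -3 := by
      rw [hs, ← inv_inv g, inv_inv g⁻¹, tr_conj, et, tM_trace]
    obtain ⟨u, hu⟩ : ∃ u, u = r * s := ⟨_, rfl⟩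
    have hinv : r * u * r⁻¹ = u⁻¹ := by
      rw [hu, _root_.mul_inv_rev, inv_eq_of_mul_eq_one_right s2, inv_eq_of_mul_eq_one_right r2, ← mul_assoc, r2, one_mul]
    have hpow : ∀ k : ℕ, u ^ k * r * (u ^ k)⁻¹ = u ^ (2 * k) * r := fun k => by
      have e : r * u ^ k * r⁻¹ = (u ^ k)⁻¹ := by rw [← conj_pow, hinv, inv_pow]
      rw [two_mul, pow_add, ← e, mul_assoc (u ^ k) r, ← mul_assoc r, ← mul_assoc r, r2, one_mul,
        inv_eq_of_mul_eq_one_right r2, ← mul_assoc]
    rcases Nat.even_or_odd (orderOf u) with ⟨k, hk⟩ | ⟨k, hk⟩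
    · obtain ⟨w, hw⟩ : ∃ w, w = u ^ k := ⟨_, rfl⟩
      have hk0 : 0 < k := by
        have := orderOf_pos u
        omega
      have w2 : w * w = 1 := by rw [hw, ← pow_add, ← hk, pow_orderOf_eq_one]
      have wr : w * r = r * w := by
        have := hpow k
        rw [← hw, show 2 * k = orderOf u by omega, pow_orderOf_eq_one, one_mul, mul_inv_eq_iff_eq_mul] at this
        exact this
      have ws : w * s = s * w := by
        have e : s = r * u := by rw [hu, ← mul_assoc, r2, one_mul]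
        rw [e, ← mul_assoc, wr, mul_assoc, mul_assoc, hw, ← pow_succ, ← pow_succ']
      have w1 : w ≠ 1 := fun e => by
        have := orderOf_le_of_pow_eq_one hk0 (hw ▸ e)
        omega
      have wne : w ≠ r := fun e => by
        have rs : r * s = s * r := e ▸ ws
        have u2 : u ^ 2 = 1 := by
          rw [pow_two, hu]
          nth_rw 2 [rs]
          rw [← mul_assoc, mul_assoc r s s, s2, mul_one, r2]
        have : orderOf u ≤ 2 := orderOf_le_of_pow_eq_one (by norm_num) u2
        have hk1 : k = 1 := by omega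
        rw [hw, hk1, pow_one, hu, mul_eq_left] at e
        rw [e, Units.val_one, Matrix.trace_one, Fintype.card_prod, Fintype.card_fin] at str
        apply mul_ne_zero (h.natCast_ne (m := 3) (by norm_num) (by have := h.seven; omega))
          (h.natCast_ne (m := 4) (by norm_num) (by have := h.seven; omega))
        push_cast at str ⊢
        linear_combination str
      obtain ⟨c, hcT, hcN⟩ := hconj w ((memT w).2 ⟨hw ▸ pow_mem (hu ▸ mul_mem hrM sM) k, wr⟩) w2
      obtain ⟨hcM, hcr⟩ := (memT c).1 hcT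
      have hcr' : c⁻¹ * r * c = r := by rw [mul_assoc, ← hcr, inv_mul_cancel_left]
      have hclass : ∃ b ∈ N, b * (c⁻¹ * w * c) * b⁻¹ = t := by
        refine (cls _ hcN ?_ ?_).resolve_right fun hc => wne ?_
        · rw [show c⁻¹ * w * c * (c⁻¹ * w * c) = c⁻¹ * (w * w) * c by group, w2, mul_one, inv_mul_cancel]
        · intro e
          exact w1 (by rw [show w = c * (c⁻¹ * w * c) * c⁻¹ by group, e, mul_one, mul_inv_cancel])
        · have e := uniq _ hcN hc (by
            nth_rw 1 [← hcr']; nth_rw 2 [← hcr']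
            rw [show c⁻¹ * w * c * (c⁻¹ * r * c) = c⁻¹ * (w * r) * c by group, wr]; group)
          rw [show w = c * (c⁻¹ * w * c) * c⁻¹ by group, e, hcr, mul_inv_cancel_right]
      have hsN : c⁻¹ * s * c ∈ N := key _ hcN hclass _ (mul_mem (mul_mem (inv_mem hcM) sM) hcM) (by
        rw [show c⁻¹ * s * c * (c⁻¹ * w * c) * (c⁻¹ * s * c)⁻¹ = c⁻¹ * (s * w * s⁻¹) * c by group, ← ws,
          mul_inv_cancel_right]
        exact hcN)
      have h1 : c⁻¹ * g⁻¹ ∈ N := key t htN ⟨1, one_mem N, by group⟩ _ (mul_mem (inv_mem hcM) (inv_mem hg)) (by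
        rw [hs] at hsN
        rwa [show c⁻¹ * g⁻¹ * t * (c⁻¹ * g⁻¹)⁻¹ = c⁻¹ * (g⁻¹ * t * g) * c by group])
      have := mul_mem (mul_mem (inv_mem h1) hrN) h1
      rwa [show (c⁻¹ * g⁻¹)⁻¹ * r * (c⁻¹ * g⁻¹) = g * (c * r) * c⁻¹ * g⁻¹ by group, hcr, mul_assoc g,
        mul_inv_cancel_right] at this
    · exfalso
      have := congrArg (fun x : G9 => (x : M9).trace) (hpow k)
      simp only [tr_conj, er, t4M_trace] at this
      have e2 : u ^ (2 * k) * r = s := by
        have h1 : u ^ (2 * k) * u = 1 := by rw [← pow_succ, ← hk, pow_orderOf_eq_one]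
        rw [eq_inv_of_mul_eq_one_left h1, hu, _root_.mul_inv_rev, inv_eq_of_mul_eq_one_right s2,
          inv_eq_of_mul_eq_one_right r2, mul_assoc, r2, mul_one]
      rw [e2, str] at this
      exact hne this.symm
  have negAct : ∀ g ∈ M, Act (W9 ω) ((g * r * g⁻¹ : G9) : M9) Neg.neg := by
    intro g hg
    have hq := hr g hg
    obtain ⟨L, aL⟩ := (memN _ hq.2).1 hq
    obtain ⟨b, hb, eb⟩ : ∃ b ∈ N, b * (g * r * g⁻¹) * b⁻¹ = r := by
      refine (cls _ hq ?_ ?_).resolve_left ?_
      · rw [show g * r * g⁻¹ * (g * r * g⁻¹) = g * (r * r) * g⁻¹ by group, r2, mul_one, mul_inv_cancel]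
      · intro e
        have := congrArg (fun x : G9 => (x : M9).trace) e
        simp only [tr_conj, er, t4M_trace, Units.val_one, Matrix.trace_one, Fintype.card_prod, Fintype.card_fin] at this
        apply h.natCast_ne (m := 2) (by norm_num) (by have := h.seven; omega)
        have h8 : (8 : F) = 0 := by push_cast at this; linear_combination -this
        by_contra h2
        exact mul_ne_zero (mul_ne_zero h2 h2) h2 (by push_cast; linear_combination h8)
      · rintro ⟨b, -, eb⟩
        have := congrArg (fun x : G9 => (x : M9).trace) eb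
        simp only [tr_conj, er, t4M_trace, et, tM_trace] at this
        exact hne this.symm
    obtain ⟨K, aB⟩ := (memN b hb.2).1 hb
    obtain ⟨Ki, aBi⟩ := H.mem_normalizer_iff.1 (inv_mem (H.mem_normalizer_iff.2 ⟨K, aB⟩))
    have hKiK : ∀ v, Ki (K v) = v := fun v => H.act_uniq isUnit_one (L := Ki ∘ K) (K := id)
      (by rw [← Units.val_one, ← inv_mul_cancel b, Units.val_mul]; exact aBi.comp aB) (act_one _) v
    refine aL.congr fun v => ?_
    have := H.act_uniq (b.isUnit.mul (g * r * g⁻¹).isUnit) (L := K ∘ L) (K := Neg.neg ∘ K) (aB.comp aL)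
      (by rw [← Units.val_mul, ← inv_mul_cancel_right (b * (g * r * g⁻¹)) b, eb, Units.val_mul, er]
          exact (t4M_act h.om).comp aB) v
    simp only [Function.comp_apply, ← H.act_neg b.isUnit aB] at this
    rw [← hKiK (L v), this, hKiK]
  -- normalising
  have hv : ∀ v, ∃ c : F, ∃ u, (m : M9) * W9 ω v = c • (W9 ω u * m) := by
    intro v
    obtain ⟨x, hx, ex⟩ := h.in_W (-v)
    have a' : Act (W9 ω) ((m⁻¹ * r * m : G9) : M9) Neg.neg := by
      have := negAct m⁻¹ (inv_mem hm)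
      rwa [inv_inv] at this
    obtain ⟨d, hd⟩ := a' (-(-v))
    obtain ⟨a, ha⟩ := H.mul (-v) (-v)
    obtain ⟨r', hr'⟩ : ∃ r', r' = m⁻¹ * r * m := ⟨_, rfl⟩
    rw [← hr'] at hd
    have r'2 : r' * r' = 1 := by
      rw [hr', show m⁻¹ * r * m * (m⁻¹ * r * m) = m⁻¹ * (r * r) * m by group, r2, mul_one, inv_mul_cancel]
    -- the product of the two involutions
    obtain ⟨y, hy⟩ : ∃ y, y = x * r' * x⁻¹ * r' := ⟨_, rfl⟩
    have ey : ∃ e : F, e ≠ 0 ∧ W9 ω v = e • (y : M9) := by
      obtain ⟨k, hk⟩ := H.neg_mul (-v)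
      rw [neg_neg] at hk
      have exi : ((x⁻¹ : G9) : M9) = chi ω (-k) • W9 ω v := by
        refine Units.inv_eq_of_mul_eq_one_right ?_
        rw [ex, Matrix.mul_smul, hk, smul_smul, chi_neg h.om, one_smul]
      have e1 : (y : M9) = (chi ω (-k) * d * chi ω a) • W9 ω v := by
        rw [neg_neg] at hd
        rw [hy, Units.val_mul, Units.val_mul, Units.val_mul, ex, exi, Matrix.mul_smul, Matrix.smul_mul,
          Matrix.mul_assoc (W9 ω (-v)), hd, Matrix.mul_smul, Matrix.smul_mul, smul_smul, ← Matrix.mul_assoc,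
          Matrix.mul_assoc _ (r' : M9), ← Units.val_mul, r'2, Units.val_one, Matrix.mul_one, ha, smul_smul,
          show -v + -v = v by rw [(dbl_v4 (-v)).1, neg_neg]]
      have hz : chi ω (-k) * d * chi ω a ≠ 0 := fun e0 => by
        rw [e0, zero_smul] at e1
        exact y.isUnit.ne_zero e1
      exact ⟨_, inv_ne_zero hz, by rw [e1, smul_smul, inv_mul_cancel₀ hz, one_smul]⟩
    obtain ⟨e, he, ey⟩ := ey
    have hk : m * y * m⁻¹ = (m * x * m⁻¹) * r * (m * x * m⁻¹)⁻¹ * r := by rw [hy, hr']; group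
    have aq : Act (W9 ω) ((m * y * m⁻¹ : G9) : M9) id := by
      rw [hk, Units.val_mul]
      exact ((negAct _ (mul_mem (mul_mem hm hx) (inv_mem hm))).comp (er.symm ▸ t4M_act h.om)).congr
        fun v => neg_neg v
    obtain ⟨c, u, -, eu⟩ := H.act_id (m * y * m⁻¹).isUnit aq
    refine ⟨e * c, u, ?_⟩
    rw [ey, Matrix.mul_smul, mul_smul, ← Matrix.smul_mul c, ← eu, ← Units.val_mul, ← Units.val_mul,
      inv_mul_cancel_right]
  choose c L hc using hv
  exact ⟨L, fun v => ⟨c v, hc v⟩⟩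

end Setup

end CfsgLib.NineMax
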