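import Mathlib

/-!
Projective representations of an elementary abelian group of exponent three by twisting matrices, and the action
of their normalisers on the index group.
-/

set_option autoImplicit false
set_option linter.unusedSectionVars false

namespace CfsgLib.NineMax

open Matrix

variable {F : Type*} [Field F] {n : Type*} [Fintype n] [DecidableEq n] {V : Type*} [AddCommGroup V]

/-- The character `k ↦ ω ^ k` of `Fin 3`. -/
def chi (ω : F) (k : Fin 3) : F := ω ^ (k : ℕ)

section chi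

variable {ω : F} (hω : ω ^ 2 + ω + 1 = 0)

theorem chi_zero : chi ω 0 = 1 := pow_zero ω

theorem chi_one : chi ω 1 = ω := pow_one ω

theorem chi_two : chi ω 2 = ω ^ 2 := rfl

include hω

theorem chi_add (a b : Fin 3) : chi ω (a + b) = chi ω a * chi ω b := by
  have h : ω ^ 3 = 1 := by linear_combination (ω - 1) * hω
  rw [chi, chi, chi, Fin.val_add, ← pow_add, ← pow_eq_pow_mod _ h]

theorem chi_ne_zero (a : Fin 3) : chi ω a ≠ 0 := pow_ne_zero _ (by rintro rfl; simp at hω)

theorem chi_neg (a : Fin 3) : chi ω (-a) * chi ω a = 1 := by rw [← chi_add hω, neg_add_cancel, chi_zero]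

theorem chi_cube (a : Fin 3) : chi ω a ^ 3 = 1 := by
  rw [chi, ← pow_mul, mul_comm, pow_mul, show ω ^ 3 = 1 by linear_combination (ω - 1) * hω, one_pow]

theorem exists_chi {c : F} (hc : c ^ 3 = 1) : ∃ k, c = chi ω k := by
  have : (c - 1) * ((c - ω) * (c - ω ^ 2)) = 0 := by
    linear_combination hc + (-c ^ 2 + c * ω) * hω + (1 - ω) * hω
  rcases mul_eq_zero.1 this with h | h
  · exact ⟨0, by rw [chi_zero]; exact sub_eq_zero.1 h⟩
  rcases mul_eq_zero.1 h with h | h
  · exact ⟨1, by rw [chi_one]; exact sub_eq_zero.1 h⟩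
  · exact ⟨2, sub_eq_zero.1 h⟩

theorem chi_inj (h3 : (3 : F) ≠ 0) {a b : Fin 3} (h : chi ω a = chi ω b) : a = b := by
  have h1 : chi ω (a - b) = 1 := by
    have := chi_add hω (a - b) b
    rw [sub_add_cancel, h] at this
    exact mul_right_cancel₀ (chi_ne_zero hω b) (by rw [one_mul, ← this])
  have hne : ω ≠ 1 := fun e => h3 (by rw [e] at hω; linear_combination hω)
  obtain ⟨d, hd⟩ : ∃ d, d = a - b := ⟨_, rfl⟩
  rw [← hd] at h1
  have : d = 0 := by
    fin_cases d
    · rfl
    · exact absurd (by simpa [chi] using h1) hne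
    · have h2 : ω ^ 2 = 1 := by simpa [chi] using h1
      exact absurd (by linear_combination (norm := ring_nf) hω * (ω - 1) - ω * h2) hne
  exact sub_eq_zero.1 (hd ▸ this)

end chi

/-- Twisting matrices indexed by an elementary abelian group of exponent three. -/
structure Heis (ω : F) (W : V → Matrix n n F) (s : V → V → Fin 3) : Prop where
  om : ω ^ 2 + ω + 1 = 0
  three : (3 : F) ≠ 0
  mul : ∀ v w, ∃ k, W v * W w = chi ω k • W (v + w)
  zero : W 0 = 1
  cube : ∀ v, W v ^ 3 = 1
  comm : ∀ v w, W v * W w = chi ω (s v w) • (W w * W v)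
  inj : ∀ v w, ∀ c : F, W v = c • W w → v = w
  scal : ∀ A : Matrix n n F, (∀ v, A * W v = W v * A) → ∃ c : F, A = c • 1
  dual : ∀ f : V → Fin 3, (∀ v w, f (v + w) = f v + f w) → ∃ u, ∀ v, s u v = f v

/-- `A` is a twisting matrix times a cube root of unity. -/
def InW (ω : F) (W : V → Matrix n n F) (A : Matrix n n F) : Prop := ∃ k v, A = chi ω k • W v

/-- `h` moves the twisting matrices as the map `L` prescribes. -/
def Act (W : V → Matrix n n F) (h : Matrix n n F) (L : V → V) : Prop := ∀ v, ∃ c : F, h * W v = c • (W (L v) * h)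

theorem Act.comp {W : V → Matrix n n F} {g h : Matrix n n F} {L K : V → V} (hg : Act W g L) (hh : Act W h K) :
    Act W (g * h) (L ∘ K) := fun v => by
  obtain ⟨c, hc⟩ := hh v
  obtain ⟨d, hd⟩ := hg (K v)
  exact ⟨c * d, by rw [Matrix.mul_assoc, hc, Matrix.mul_smul, ← Matrix.mul_assoc, hd, Matrix.smul_mul, smul_smul,
    Matrix.mul_assoc]; rfl⟩

theorem Act.smul {W : V → Matrix n n F} {h : Matrix n n F} {L : V → V} (hh : Act W h L) (a : F) :
    Act W (a • h) L := fun v => by
  obtain ⟨c, hc⟩ := hh v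
  exact ⟨c, by rw [Matrix.smul_mul, hc, Matrix.mul_smul, smul_comm]⟩

theorem Act.congr {W : V → Matrix n n F} {h : Matrix n n F} {L K : V → V} (hh : Act W h L) (e : ∀ v, L v = K v) :
    Act W h K := funext e ▸ hh

theorem act_one (W : V → Matrix n n F) : Act W 1 id := fun v => ⟨1, by simp⟩

namespace Heis

variable {ω : F} {W : V → Matrix n n F} {s : V → V → Fin 3} (H : Heis ω W s)
include H

theorem inW (v : V) : InW ω W (W v) := ⟨0, v, by rw [chi_zero, one_smul]⟩

theorem inW_one : InW ω W (1 : Matrix n n F) := H.zero ▸ H.inW 0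

theorem inW_chi (k : Fin 3) : InW ω W (chi ω k • (1 : Matrix n n F)) := ⟨k, 0, by rw [H.zero]⟩

theorem inW_mul {A B : Matrix n n F} (hA : InW ω W A) (hB : InW ω W B) : InW ω W (A * B) := by
  obtain ⟨a, v, rfl⟩ := hA
  obtain ⟨b, w, rfl⟩ := hB
  obtain ⟨k, hk⟩ := H.mul v w
  exact ⟨a + b + k, v + w, by
    rw [Matrix.smul_mul, Matrix.mul_smul, hk, smul_smul, smul_smul, chi_add H.om, chi_add H.om, mul_assoc]⟩

theorem inW_pow {A : Matrix n n F} (hA : InW ω W A) : ∀ m : ℕ, InW ω W (A ^ m)
  | 0 => by rw [pow_zero]; exact H.inW_one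
  | m + 1 => by rw [pow_succ]; exact H.inW_mul (inW_pow hA m) hA

theorem inW_cube {A : Matrix n n F} (hA : InW ω W A) : A ^ 3 = 1 := by
  obtain ⟨a, v, rfl⟩ := hA
  rw [_root_.smul_pow, H.cube, chi_cube H.om, one_smul]

theorem isUnit (v : V) : IsUnit (W v) :=
  IsUnit.of_pow_eq_one (H.cube v) (by norm_num)

theorem det_ne (v : V) : (W v).det ≠ 0 := fun e => ((Matrix.isUnit_iff_isUnit_det _).1 (H.isUnit v)).ne_zero e

theorem neg_mul (v : V) : ∃ k, W v * W (-v) = chi ω k • 1 := by
  obtain ⟨k, hk⟩ := H.mul v (-v)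
  exact ⟨k, by rw [hk, add_neg_cancel, H.zero]⟩

theorem act_W (u : V) : Act W (W u) id := fun v => ⟨chi ω (s u v), H.comm u v⟩

theorem s_add [Nonempty n] (u v w : V) : s u (v + w) = s u v + s u w := by
  refine chi_inj H.om H.three ?_
  obtain ⟨k, hk⟩ := H.mul v w
  have e1 : W u * (W v * W w) = (chi ω (s u v) * chi ω (s u w)) • ((W v * W w) * W u) := by
    rw [← Matrix.mul_assoc, H.comm, Matrix.smul_mul, Matrix.mul_assoc, H.comm u w, Matrix.mul_smul, smul_smul,
      Matrix.mul_assoc]
  rw [hk, Matrix.mul_smul, H.comm, Matrix.smul_mul, smul_smul, smul_smul] at e1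
  have h0 : W (v + w) * W u ≠ 0 := ((H.isUnit _).mul (H.isUnit _)).ne_zero
  have := smul_left_injective F h0 e1
  rw [chi_add H.om]
  exact mul_left_cancel₀ (chi_ne_zero H.om k) (by rw [this, mul_comm])

/-- The factor in `Act` is a cube root of unity. -/
theorem act_cube [Nonempty n] {h : Matrix n n F} (hu : IsUnit h) {v w : V} {c : F}
    (e : h * W v = c • (W w * h)) : c ^ 3 = 1 := by
  have e2 : h * W v ^ 3 = (c • W w) ^ 3 * h :=
    SemiconjBy.pow_right (show SemiconjBy h (W v) (c • W w) by rw [SemiconjBy, Matrix.smul_mul]; exact e) 3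
  rw [_root_.smul_pow, H.cube, H.cube, Matrix.mul_one, Matrix.smul_mul, Matrix.one_mul] at e2
  have e3 : (1 : F) • h = c ^ 3 • h := by rw [one_smul]; exact e2
  exact (smul_left_injective F hu.ne_zero e3).symm

theorem act_exists [Nonempty n] {h : Matrix n n F} (hu : IsUnit h) {v w : V} {c : F}
    (e : h * W v = c • (W w * h)) : ∃ k, c = chi ω k := exists_chi H.om (H.act_cube hu e)

theorem act_uniq [Nonempty n] {h : Matrix n n F} (hu : IsUnit h) {L K : V → V} (hL : Act W h L) (hK : Act W h K)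
    (v : V) : L v = K v := by
  obtain ⟨c, hc⟩ := hL v
  obtain ⟨d, hd⟩ := hK v
  have hc0 : c ≠ 0 := fun e0 => by
    rw [e0, zero_smul] at hc
    exact (hu.mul (H.isUnit v)).ne_zero hc
  rw [hc, ← Matrix.smul_mul, ← Matrix.smul_mul] at hd
  exact H.inj _ _ (c⁻¹ * d) (by rw [mul_smul, ← hu.mul_left_injective hd, inv_smul_smul₀ hc0])

theorem act_add [Nonempty n] {h : Matrix n n F} (hu : IsUnit h) {L : V → V} (hL : Act W h L) (v w : V) :
    L (v + w) = L v + L w := by
  obtain ⟨a, ha⟩ := hL v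
  obtain ⟨b, hb⟩ := hL w
  obtain ⟨c, hc⟩ := hL (v + w)
  obtain ⟨k, hk⟩ := H.mul v w
  obtain ⟨l, hl⟩ := H.mul (L v) (L w)
  have e : h * (W v * W w) = (a * b * chi ω l) • (W (L v + L w) * h) := by
    rw [← Matrix.mul_assoc, ha, Matrix.smul_mul, Matrix.mul_assoc, hb, Matrix.mul_smul, ← Matrix.mul_assoc, hl,
      Matrix.smul_mul, smul_smul, smul_smul]
  rw [hk, Matrix.mul_smul, hc, smul_smul, ← Matrix.smul_mul, ← Matrix.smul_mul] at e
  have e' := hu.mul_left_injective e
  have h0 : chi ω k * c ≠ 0 := fun e0 => by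
    rw [mul_eq_zero] at e0
    rw [e0.resolve_left (chi_ne_zero H.om k), zero_smul] at hc
    exact (hu.mul (H.isUnit _)).ne_zero hc
  exact H.inj _ _ ((chi ω k * c)⁻¹ * (a * b * chi ω l)) (by rw [mul_smul, ← e', inv_smul_smul₀ h0])

theorem act_zero [Nonempty n] {h : Matrix n n F} (hu : IsUnit h) {L : V → V} (hL : Act W h L) : L 0 = 0 := by
  have := H.act_add hu hL 0 0
  rw [add_zero] at this
  exact left_eq_add.1 this

theorem act_neg [Nonempty n] {h : Matrix n n F} (hu : IsUnit h) {L : V → V} (hL : Act W h L) (v : V) :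
    L (-v) = -L v := by
  have := H.act_add hu hL v (-v)
  rw [add_neg_cancel, H.act_zero hu hL] at this
  exact eq_neg_of_add_eq_zero_right this.symm

theorem act_symp [Nonempty n] {h : Matrix n n F} (hu : IsUnit h) {L : V → V} (hL : Act W h L) (v w : V) :
    s (L v) (L w) = s v w := by
  obtain ⟨a, ha⟩ := hL v
  obtain ⟨b, hb⟩ := hL w
  have hh : ∀ {x y : V} {a b : F}, h * W x = a • (W (L x) * h) → h * W y = b • (W (L y) * h) →
      h * (W x * W y) = (a * b) • (W (L x) * W (L y) * h) := fun {x y a b} ha hb => by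
    rw [← Matrix.mul_assoc, ha, Matrix.smul_mul, Matrix.mul_assoc, hb, Matrix.mul_smul, smul_smul, Matrix.mul_assoc]
  have e := hh ha hb
  rw [H.comm v w, Matrix.mul_smul, hh hb ha, smul_smul, H.comm (L v), Matrix.smul_mul, smul_smul,
    mul_comm b a] at e
  have hne : W (L w) * W (L v) * h ≠ 0 := (((H.isUnit _).mul (H.isUnit _)).mul hu).ne_zero
  have e2 := smul_left_injective F hne e
  have hab : a * b ≠ 0 := mul_ne_zero (fun e0 => by
    rw [e0, zero_smul] at ha; exact (hu.mul (H.isUnit _)).ne_zero ha) (fun e0 => by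
    rw [e0, zero_smul] at hb; exact (hu.mul (H.isUnit _)).ne_zero hb)
  refine chi_inj H.om H.three (mul_left_cancel₀ hab ?_)
  rw [← e2, mul_comm]

/-- A matrix inducing the identity is a multiple of a twisting matrix. -/
theorem act_id [Nonempty n] {h : Matrix n n F} (hu : IsUnit h) (hh : Act W h id) :
    ∃ c : F, ∃ u, c ≠ 0 ∧ h = c • W u := by
  choose c hc using hh
  choose f hf using fun v => H.act_exists hu (hc v)
  have hadd : ∀ v w, f (v + w) = f v + f w := by
    intro v w
    obtain ⟨k, hk⟩ := H.mul v w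
    have e : h * (W v * W w) = (c v * c w * chi ω k) • (W (v + w) * h) := by
      rw [← Matrix.mul_assoc, hc v, Matrix.smul_mul, Matrix.mul_assoc, hc w, Matrix.mul_smul, smul_smul,
        ← Matrix.mul_assoc]
      simp only [id]
      rw [hk, Matrix.smul_mul, smul_smul]
    rw [hk, Matrix.mul_smul, hc (v + w), smul_smul] at e
    simp only [id] at e
    have e2 := smul_left_injective F ((H.isUnit _).mul hu).ne_zero e
    refine chi_inj H.om H.three (mul_left_cancel₀ (chi_ne_zero H.om k) ?_)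
    rw [chi_add H.om, ← hf, ← hf, ← hf, e2, mul_comm]
  obtain ⟨u, hs⟩ := H.dual f hadd
  obtain ⟨k, hk⟩ := H.neg_mul u
  obtain ⟨u', hu'⟩ := H.isUnit u
  have hcomm : ∀ v, ((u'⁻¹ : (Matrix n n F)ˣ) : Matrix n n F) * h * W v =
      W v * (((u'⁻¹ : (Matrix n n F)ˣ) : Matrix n n F) * h) := by
    intro v
    have e1 : ((u'⁻¹ : (Matrix n n F)ˣ) : Matrix n n F) * W v =
        chi ω (-f v) • (W v * ((u'⁻¹ : (Matrix n n F)ˣ) : Matrix n n F)) := by
      have h1 := H.comm u v
      rw [← hu', hs] at h1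
      calc ((u'⁻¹ : (Matrix n n F)ˣ) : Matrix n n F) * W v
          = chi ω (-f v) • (((u'⁻¹ : (Matrix n n F)ˣ) : Matrix n n F) * (chi ω (f v) • (W v * u')) *
              ((u'⁻¹ : (Matrix n n F)ˣ) : Matrix n n F)) := by
            rw [Matrix.mul_smul, Matrix.smul_mul, smul_smul, chi_neg H.om, one_smul]
            simp [Matrix.mul_assoc]
        _ = _ := by rw [← h1]; simp [← Matrix.mul_assoc]
    rw [Matrix.mul_assoc, hc v, Matrix.mul_smul, ← Matrix.mul_assoc]
    simp only [id]
    rw [e1, Matrix.smul_mul, smul_smul, hf v, mul_comm, chi_neg H.om, one_smul, Matrix.mul_assoc]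
  obtain ⟨a, ha⟩ := H.scal _ hcomm
  refine ⟨a, u, fun e => ?_, ?_⟩
  · rw [e, zero_smul] at ha
    exact ((u'⁻¹).isUnit.mul hu).ne_zero ha
  · have := congrArg (fun M => W u * M) ha
    rw [← Matrix.mul_assoc, ← hu', Units.mul_inv, Matrix.one_mul, Matrix.mul_smul, Matrix.mul_one] at this
    rwa [hu'] at this

/-- The group of twisting matrices times cube roots of unity. -/
def grp [Finite F] : Subgroup (GL n F) where
  carrier := {g | InW ω W (g : Matrix n n F)}
  one_mem' := by show InW ω W ((1 : GL n F) : Matrix n n F); rw [Units.val_one]; exact H.inW_one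
  mul_mem' {a b} ha hb := by
    show InW ω W ((a * b : GL n F) : Matrix n n F); rw [Units.val_mul]; exact H.inW_mul ha hb
  inv_mem' {a} ha := by
    show InW ω W ((a⁻¹ : GL n F) : Matrix n n F)
    have h3 : a ^ 2 * a = 1 := Units.ext (by
      rw [← pow_succ, Units.val_pow_eq_pow_val, H.inW_cube ha, Units.val_one])
    rw [inv_eq_of_mul_eq_one_left h3, Units.val_pow_eq_pow_val]
    exact H.inW_pow ha 2

theorem mem_grp [Finite F] {g : GL n F} : g ∈ H.grp ↔ InW ω W (g : Matrix n n F) := Iff.rfl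

/-- Normalising is the same as inducing some map. -/
theorem mem_normalizer_iff [Finite F] [Nonempty n] {g : GL n F} :
    g ∈ Subgroup.normalizer (H.grp : Set (GL n F)) ↔ ∃ L, Act W (g : Matrix n n F) L := by
  haveI : Finite (GL n F) := Finite.of_injective _ Units.val_injective
  constructor
  · intro hg
    choose k w e using fun v =>
      (Subgroup.mem_normalizer_iff.1 hg ((H.isUnit v).unit)).1 (H.mem_grp.2 (by
        rw [IsUnit.unit_spec]; exact H.inW v))
    refine ⟨w, fun v => ⟨chi ω (k v), ?_⟩⟩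
    have := congrArg (fun M => M * (g : Matrix n n F)) (e v)
    simp only [Units.val_mul, IsUnit.unit_spec] at this
    rw [Matrix.mul_assoc, ← Units.val_mul, inv_mul_cancel, Units.val_one, Matrix.mul_one, Matrix.smul_mul] at this
    exact this
  · rintro ⟨L, hL⟩
    have key : ∀ x ∈ H.grp, g * x * g⁻¹ ∈ H.grp := by
      intro x hx
      obtain ⟨k, v, e⟩ := hx
      obtain ⟨c, hc⟩ := hL v
      obtain ⟨j, rfl⟩ := H.act_exists g.isUnit hc
      refine ⟨k + j, L v, ?_⟩
      rw [Units.val_mul, Units.val_mul, e, Matrix.mul_smul, hc, smul_smul, Matrix.smul_mul, Matrix.mul_assoc,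
        ← Units.val_mul, mul_inv_cancel, Units.val_one, Matrix.mul_one, chi_add H.om]
    rw [Subgroup.mem_normalizer_iff]
    intro x
    refine ⟨key x, fun hx => ?_⟩
    let f : H.grp → H.grp := fun y => ⟨g * y * g⁻¹, key y y.2⟩
    have hinj : Function.Injective f := fun a b h => Subtype.ext (by simpa [f] using congrArg Subtype.val h)
    obtain ⟨y, hy⟩ := (Finite.injective_iff_surjective.1 hinj) ⟨g * x * g⁻¹, hx⟩
    have : (y : GL n F) = x := by simpa [f] using congrArg Subtype.val hy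
    exact this ▸ y.2

end Heis

end CfsgLib.NineMax
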