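import Cfsg.Agent.Lib.NineMax.Lin

/-!
Involutions in the determinant-one normaliser on nine points: two classes.
-/

set_option autoImplicit false
set_option linter.unusedSectionVars false
set_option maxRecDepth 10000

namespace CfsgLib.NineMax

open Matrix
open scoped Kronecker

variable {F : Type*} [Field F]

local notation "M3" => Matrix (Fin 3) (Fin 3) F
local notation "M9" => Matrix (Fin 3 × Fin 3) (Fin 3 × Fin 3) F

/-- The map induced by the involution with six-dimensional negative space. -/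
def Lt (v : V4) : V4 := (-v.1, v.2)

/-- Negation of the first coordinate of an index pair. -/
def negFst : Equiv.Perm V3 where
  toFun y := (-y.1, y.2)
  invFun y := (-y.1, y.2)
  left_inv y := by simp
  right_inv y := by simp

/-- Negation of an index pair. -/
def negBoth : Equiv.Perm V3 where
  toFun y := -y
  invFun y := -y
  left_inv y := by simp
  right_inv y := by simp

/-- The involution of trace `-3`. -/
def tM (ω : F) : M9 := mon ω (-1) negFst 0

/-- The involution of trace `1`. -/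
def t4M (ω : F) : M9 := mon ω 1 negBoth 0

theorem mon_invol {ω ε : F} (π : V3 → V3) (hπ : ∀ y, π (π y) = y) (hε : ε * ε = 1) :
    mon ω ε π 0 * mon ω ε π 0 = 1 := by
  ext x y
  rw [Matrix.mul_apply, Finset.sum_eq_single (π y)]
  · simp [mon, chi, Matrix.one_apply, hπ]
    split_ifs <;> simp [hε]
  · intro z _ hz; simp [mon, hz]
  · simp

section om

variable {ω : F} (hω : ω ^ 2 + ω + 1 = 0)
include hω

theorem tM_act : Act (W9 ω) (tM ω) Lt :=
  mon_act hω (show MonAct negFst 0 Lt by decide +kernel)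

theorem t4M_act : Act (W9 ω) (t4M ω) Neg.neg :=
  mon_act hω (show MonAct negBoth 0 Neg.neg by decide +kernel)

omit hω in
theorem tM_sq : tM ω * tM ω = 1 := mon_invol _ (by decide) (by norm_num)

omit hω in
theorem t4M_sq : t4M ω * t4M ω = 1 := mon_invol _ (by decide) (by norm_num)

omit hω in
theorem tM_det : (tM ω).det = 1 := by
  rw [tM, mon_det, show Equiv.Perm.sign negFst = -1 by decide]
  simp [chi]
  norm_num

omit hω in
theorem t4M_det : (t4M ω).det = 1 := by
  rw [t4M, mon_det, show Equiv.Perm.sign negBoth = 1 by decide]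
  simp [chi]

omit hω in
theorem tM_trace : (tM ω).trace = -3 := by
  simp [tM, mon, negFst, Matrix.trace, Fintype.sum_prod_type, Fin.sum_univ_three, chi]
  rw [if_neg (by decide), if_neg (by decide), add_zero, add_zero]

omit hω in
theorem t4M_trace : (t4M ω).trace = 1 := by
  simp [t4M, mon, negBoth, Matrix.trace, chi]
  rw [show (Finset.univ.filter fun x : V3 => x = -x).card = 1 by decide, Nat.cast_one]

omit hω in
theorem W3_det' (h : ω ^ 2 + ω + 1 = 0) (v : V3) : (W3 ω v).det ^ 3 = 1 := by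
  rw [← det_pow, W3_cube h, det_one]

theorem W9_det (v : V4) : (W9 ω v).det = 1 := by
  rw [W9, det_kronecker, Fintype.card_fin, W3_det' hω, W3_det' hω, one_mul]

omit hω in
theorem one_of_sq_ninth {e : F} (h2 : e * e = 1) (h9 : e ^ 9 = 1) : e = 1 := by
  calc e = e * (e * e) ^ 4 := by rw [h2, one_pow, mul_one]
    _ = e ^ 9 := by ring
    _ = 1 := h9

/-- Removing a scalar from a conjugation between involutions. -/
theorem conj_exact {A B T : M9} {e : F} (hA : A * A = 1) (hT : T * T = 1) (dA : A.det = 1) (dB : B.det = 1)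
    (dT : T.det = 1) (h : B * A = e • (T * B)) : B * A = T * B := by
  have hB : IsUnit B := (Matrix.isUnit_iff_isUnit_det B).2 (by rw [dB]; exact isUnit_one)
  have h2 : (1 : F) • B = (e * e) • B := by
    rw [one_smul]
    calc B = B * A * A := by rw [Matrix.mul_assoc, hA, Matrix.mul_one]
      _ = e • (T * (B * A)) := by
        conv_lhs => rw [h]
        rw [Matrix.smul_mul, Matrix.mul_assoc]
      _ = _ := by rw [h, Matrix.mul_smul, ← Matrix.mul_assoc, hT, Matrix.one_mul, smul_smul]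
  have h9 := congrArg Matrix.det h
  rw [det_mul, det_smul, det_mul, dA, dB, dT, one_mul, mul_one, Fintype.card_prod, Fintype.card_fin] at h9
  rw [h, one_of_sq_ninth (smul_left_injective F hB.ne_zero h2).symm h9.symm, one_smul]

end om

/-- `A` and `T` are conjugate by an element of determinant one of the normaliser. -/
def Cj (ω : F) (A T : M9) : Prop := ∃ B : M9, B.det = 1 ∧ (∃ K, Act (W9 ω) B K) ∧ B * A = T * B

theorem dbl_v4 : ∀ u : V4, u + u = -u ∧ -(-u) = u ∧ (u + u = 0 → u = 0) := by decide +kernel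

theorem sy4_facts : (∀ u v : V4, sy4 (-u) v = -sy4 u v) ∧ (∀ u : V4, u ≠ 0 → ∃ v, sy4 u v = 1) ∧
    (∀ x : V4, sy4 (-ve) x = 0 → sy4 (-vf) x = 0 → x.1 = 0) ∧ (∀ w : V3, sy4 ve (0, w) = 0 ∧ sy4 vf (0, w) = 0) :=
  ⟨by decide +kernel, by decide +kernel, by decide +kernel, by decide +kernel⟩

theorem invol3 (P Q : V3) (h1 : sy P Q = -1) (h2 : ev (P, Q) P = (1, 0)) (h3 : ev (P, Q) Q = (0, 1)) :
    (P = (1, 0) ∧ Q = (0, 1)) ∨ (P = (-1, 0) ∧ Q = (0, -1)) := by
  have : ∀ P Q : V3, (decide (sy P Q = -1) && decide (ev (P, Q) P = (1, 0)) && decide (ev (P, Q) Q = (0, 1))) = true →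
      (decide (P = (1, 0)) && decide (Q = (0, 1)) || decide (P = (-1, 0)) && decide (Q = (0, -1))) = true := by
    decide +kernel
  simpa using this P Q (by simp [h1, h2, h3])

theorem ev_id : ∀ v : V3, ev ((1, 0), (0, 1)) v = v ∧ ev ((-1, 0), (0, -1)) v = -v := by decide

section om

variable {ω : F} (hω : ω ^ 2 + ω + 1 = 0) (h3 : (3 : F) ≠ 0)
include hω h3

/-- An involution lying over a standard one. -/
theorem finish {A T : M9} {LT : V4 → V4} {c : F} {u : V4} (hT : T * T = 1) (dT : T.det = 1)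
    (aT : Act (W9 ω) T LT) (hA : A * A = 1) (dA : A.det = 1) (e : A = c • (W9 ω u * T)) :
    Cj ω A T ∧ u + LT u = 0 := by
  have H := heis9 hω h3
  obtain ⟨d, hd⟩ := aT u
  obtain ⟨k, hk⟩ := H.mul u (LT u)
  have hu : u + LT u = 0 := by
    have e1 : (1 : M9) = (c * c * d * chi ω k) • W9 ω (u + LT u) := by
      calc (1 : M9) = A * A := hA.symm
        _ = (c * c) • (W9 ω u * (T * W9 ω u) * T) := by
          rw [e, Matrix.smul_mul, Matrix.mul_smul, smul_smul]; simp only [Matrix.mul_assoc]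
        _ = _ := by
          rw [hd, Matrix.mul_smul, Matrix.smul_mul, smul_smul, ← Matrix.mul_assoc, Matrix.mul_assoc _ T T, hT,
            Matrix.mul_one, hk, smul_smul]
    exact (H.inj 0 _ _ (by rw [W9_zero]; exact e1)).symm
  refine ⟨⟨W9 ω u, W9_det hω u, ⟨id, H.act_W u⟩, ?_⟩, hu⟩
  have hLu : LT u = u + u := by
    rw [(dbl_v4 u).1]; exact eq_neg_of_add_eq_zero_right hu
  obtain ⟨j, hj⟩ := H.mul u u
  have hd0 : d ≠ 0 := fun e0 => by
    rw [e0, zero_smul] at hd
    have hTu : IsUnit T := (Matrix.isUnit_iff_isUnit_det T).2 (by rw [dT]; exact isUnit_one)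
    exact (hTu.mul (H.isUnit u)).ne_zero hd
  refine conj_exact hω (e := c * chi ω j * d⁻¹) hA hT dA (W9_det hω u) dT ?_
  rw [e, Matrix.mul_smul, ← Matrix.mul_assoc, hj, Matrix.smul_mul, smul_smul, hd, hLu, smul_smul, mul_assoc,
    inv_mul_cancel₀ hd0, mul_one]

/-- A determinant-one involution of the normaliser is conjugate to one of the two standard ones. -/
theorem inv_class [Finite F] {A : M9} {L : V4 → V4} (dA : A.det = 1) (aA : Act (W9 ω) A L) (hA : A * A = 1)
    (h1 : A ≠ 1) : Cj ω A (tM ω) ∨ Cj ω A (t4M ω) := by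
  have H := heis9 hω h3
  have uA : IsUnit A := (Matrix.isUnit_iff_isUnit_det A).2 (by rw [dA]; exact isUnit_one)
  have hLL : ∀ v, L (L v) = v := fun v =>
    H.act_uniq isUnit_one (L := L ∘ L) (K := id) (hA ▸ aA.comp aA) (act_one _) v
  have neg_case : (∀ v, L v = -v) → Cj ω A (t4M ω) := by
    intro hn
    have a : Act (W9 ω) (A * t4M ω) id :=
      (aA.comp (t4M_act hω)).congr fun v => by simp [hn]
    obtain ⟨c, u, -, e⟩ := H.act_id (uA.mul ((Matrix.isUnit_iff_isUnit_det _).2 (by rw [t4M_det]; exact isUnit_one))) a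
    refine (finish hω h3 (c := c) (u := u) t4M_sq t4M_det (t4M_act hω) hA dA ?_).1
    rw [← Matrix.smul_mul, ← e, Matrix.mul_assoc, t4M_sq, Matrix.mul_one]
  by_cases hn : ∀ v, L v = -v
  · exact Or.inr (neg_case hn)
  by_cases hi : ∀ v, L v = v
  · exfalso
    obtain ⟨c, u, -, e⟩ := H.act_id uA (aA.congr hi)
    obtain ⟨-, hu⟩ := finish hω h3 (c := c) (u := u) (T := 1) (Matrix.one_mul 1) det_one (act_one _) hA dA
      (by rw [Matrix.mul_one]; exact e)
    rw [(dbl_v4 u).2.2 hu, W9_zero] at e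
    have e2 := hA
    rw [e, Matrix.smul_mul, Matrix.one_mul, smul_smul] at e2
    have e9 := dA
    rw [e, det_smul, det_one, mul_one, Fintype.card_prod, Fintype.card_fin] at e9
    have hc2 : c * c = 1 := by simpa using congrFun (congrFun e2 (0, 0)) (0, 0)
    exact h1 (by rw [e, one_of_sq_ninth hc2 e9, one_smul])
  push Not at hi
  obtain ⟨v0, hv0⟩ := hi
  obtain ⟨u, hu⟩ : ∃ u, u = v0 - L v0 := ⟨_, rfl⟩
  have hu0 : u ≠ 0 := fun e => hv0 (sub_eq_zero.1 (hu.symm.trans e)).symm
  have hLneg : ∀ v, L (v - L v) = -(v - L v) := fun v => by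
    rw [sub_eq_add_neg, H.act_add uA aA, H.act_neg uA aA, hLL, neg_add_rev, neg_neg]
  obtain ⟨v, hv⟩ := sy4_facts.2.1 u hu0
  have huv : sy4 u (v - L v) = -1 := by
    have e1 : sy4 u (L v) = -1 := by
      have := H.act_symp uA aA (L u) v
      rw [hLL] at this
      rw [this, hu, hLneg, sy4_facts.1, ← hu, hv]
    have e2 := H.s_add u (v - L v) (L v)
    rw [sub_add_cancel, hv, e1] at e2
    rw [eq_sub_of_add_eq e2.symm]
    decide
  obtain ⟨K, ⟨B, dB, aB⟩, hKu, hKv⟩ := real_pair hω h3 huv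
  have uB : IsUnit B := (Matrix.isUnit_iff_isUnit_det B).2 (by rw [dB]; exact isUnit_one)
  obtain ⟨b, rfl⟩ := uB
  obtain ⟨a, rfl⟩ := uA
  have hmem : b * a * b⁻¹ ∈ Subgroup.normalizer (H.grp : Set (GL V3 F)) :=
    mul_mem (mul_mem (H.mem_normalizer_iff.2 ⟨K, aB⟩) (H.mem_normalizer_iff.2 ⟨L, aA⟩))
      (inv_mem (H.mem_normalizer_iff.2 ⟨K, aB⟩))
  obtain ⟨L', aA'⟩ := H.mem_normalizer_iff.1 hmem
  obtain ⟨Ki, aBi⟩ := H.mem_normalizer_iff.1 (inv_mem (H.mem_normalizer_iff.2 ⟨K, aB⟩))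
  have hKiK : ∀ v, Ki (K v) = v := fun v => H.act_uniq isUnit_one (L := Ki ∘ K) (K := id)
    (by rw [← Units.val_one, ← inv_mul_cancel b, Units.val_mul]; exact aBi.comp aB) (act_one _) v
  set A' : M9 := ((b * a * b⁻¹ : GL V3 F) : M9) with hA'
  have hcomm : A' * (b : M9) = (b : M9) * (a : M9) := by
    rw [hA', ← Units.val_mul, ← Units.val_mul, inv_mul_cancel_right]
  have hL' : ∀ v, L' (K v) = K (L v) := fun v =>
    H.act_uniq ((b * a * b⁻¹).isUnit.mul b.isUnit) (L := L' ∘ K) (K := K ∘ L) (aA'.comp aB)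
      (hcomm ▸ aB.comp aA) v
  have dA' : A'.det = 1 := by
    rw [hA', Units.val_mul, Units.val_mul, Matrix.det_mul_comm, ← Matrix.mul_assoc, ← Units.val_mul b⁻¹ b,
      inv_mul_cancel, Units.val_one, Matrix.one_mul, dA]
  have sqA' : A' * A' = 1 := by
    have : (b * a * b⁻¹) * (b * a * b⁻¹) = (1 : GL V3 F) := by
      rw [show b * a * b⁻¹ * (b * a * b⁻¹) = b * (a * a) * b⁻¹ by group,
        show a * a = 1 from Units.ext hA, mul_one, mul_inv_cancel]
    rw [hA', ← Units.val_mul, this, Units.val_one]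
  have uA' : IsUnit A' := (b * a * b⁻¹).isUnit
  have e_ve : L' ve = -ve := by rw [← hKu, hL', hu, hLneg, H.act_neg b.isUnit aB]
  have e_vf : L' vf = -vf := by rw [← hKv, hL', hLneg, H.act_neg b.isUnit aB]
  have hfst : ∀ w : V3, (L' (0, w)).1 = 0 := fun w => sy4_facts.2.2.1 _
    (by rw [← e_ve, H.act_symp uA' aA']; exact (sy4_facts.2.2.2 w).1)
    (by rw [← e_vf, H.act_symp uA' aA']; exact (sy4_facts.2.2.2 w).2)
  obtain ⟨L2, hL2⟩ : ∃ L2 : V3 → V3, ∀ w, L2 w = (L' (0, w)).2 := ⟨_, fun w => rfl⟩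
  have hL0 : ∀ w, L' (0, w) = (0, L2 w) := fun w => Prod.ext (hfst w) (hL2 w).symm
  have add2 : ∀ v w, L2 (v + w) = L2 v + L2 w := fun v w => by
    have := H.act_add uA' aA' (0, v) (0, w)
    rw [show ((0, v) : V4) + (0, w) = (0, v + w) from Prod.ext (add_zero 0) rfl, hL0, hL0, hL0] at this
    exact congrArg Prod.snd this
  have sym2 : ∀ v w, sy (L2 v) (L2 w) = sy v w := fun v w => by
    have := H.act_symp uA' aA' (0, v) (0, w)
    rw [hL0, hL0] at this
    simpa [sy4, sy] using this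
  have inv2 : ∀ w, L2 (L2 w) = w := fun w => by
    have := H.act_uniq isUnit_one (L := L' ∘ L') (K := id) (sqA' ▸ aA'.comp aA') (act_one _) (0, w)
    rw [Function.comp_apply, hL0, hL0] at this
    exact congrArg Prod.snd this
  have split : ∀ v : V4, L' v = (-v.1, L2 v.2) := by
    intro v
    have e1 : ∀ x : V3, L' (x, 0) = (-x, 0) := by
      intro x
      have hadd : ∀ p q : V3, L' ((p + q, 0) : V4) = L' (p, 0) + L' (q, 0) := fun p q => by
        rw [← H.act_add uA' aA', show ((p, 0) : V4) + (q, 0) = (p + q, 0) from Prod.ext rfl (add_zero 0)]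
      have hf1 : ∀ p q, (L' ((p + q, 0) : V4)).1 = (L' (p, 0)).1 + (L' (q, 0)).1 := fun p q =>
        congrArg Prod.fst (hadd p q)
      have hf2 : ∀ p q, (L' ((p + q, 0) : V4)).2 = (L' (p, 0)).2 + (L' (q, 0)).2 := fun p q =>
        congrArg Prod.snd (hadd p q)
      refine Prod.ext ?_ ?_
      · rw [additive3 (L := fun p => (L' (p, 0)).1) hf1 x]
        show ev ((L' ve).1, (L' vf).1) x = -x
        rw [e_ve, e_vf]
        exact (ev_id x).2
      · rw [additive3 (L := fun p => (L' (p, 0)).2) hf2 x]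
        show ev ((L' ve).2, (L' vf).2) x = 0
        rw [e_ve, e_vf]
        show ev ((-0, -0) : V3 × V3) x = 0
        revert x; decide
    have e : ((v.1, 0) : V4) + (0, v.2) = v := Prod.ext (add_zero _) (zero_add _)
    conv_lhs => rw [← e]
    rw [H.act_add uA' aA', e1, hL0, Prod.mk_add_mk, add_zero, zero_add]
  have ev2 := additive3 add2
  rcases invol3 (L2 (1, 0)) (L2 (0, 1)) (by rw [sym2]; decide) (by rw [← ev2, inv2]) (by rw [← ev2, inv2]) with
    ⟨e1, e2⟩ | ⟨e1, e2⟩
  · left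
    have a' : Act (W9 ω) (A' * tM ω) id := (aA'.comp (tM_act hω)).congr fun v => by
      rw [Function.comp_apply, split, ev2, e1, e2, (ev_id _).1]
      simp [Lt]
    obtain ⟨c, u', -, e⟩ := H.act_id (uA'.mul ((Matrix.isUnit_iff_isUnit_det _).2 (by rw [tM_det]; exact isUnit_one))) a'
    obtain ⟨⟨C, dC, ⟨KC, aC⟩, hC⟩, -⟩ := finish hω h3 (c := c) (u := u') tM_sq tM_det (tM_act hω) sqA' dA'
      (by rw [← Matrix.smul_mul, ← e, Matrix.mul_assoc, tM_sq, Matrix.mul_one])
    exact ⟨C * (b : M9), by rw [det_mul, dC, dB, one_mul], ⟨_, aC.comp aB⟩,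
      by rw [Matrix.mul_assoc, ← hcomm, ← Matrix.mul_assoc, hC, Matrix.mul_assoc]⟩
  · refine absurd (fun v => ?_) hn
    have e3 : K (L v) = K (-v) := by
      rw [← hL', H.act_neg b.isUnit aB, split, ev2, e1, e2, (ev_id _).2]
      rfl
    rw [← hKiK (L v), e3, hKiK]

/-- The involution of trace one is alone in its class in its centraliser. -/
theorem uniq_t4 [Finite F] {A : M9} {L : V4 → V4} (dA : A.det = 1) (aA : Act (W9 ω) A L) (hA : A * A = 1)
    (hc : Cj ω A (t4M ω)) (hcomm : A * t4M ω = t4M ω * A) : A = t4M ω := by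
  have H := heis9 hω h3
  obtain ⟨B, dB, ⟨K, aB⟩, hB⟩ := hc
  have uB : IsUnit B := (Matrix.isUnit_iff_isUnit_det B).2 (by rw [dB]; exact isUnit_one)
  obtain ⟨b, rfl⟩ := uB
  obtain ⟨Ki, aBi⟩ := H.mem_normalizer_iff.1 (inv_mem (H.mem_normalizer_iff.2 ⟨K, aB⟩))
  have hKiK : ∀ v, Ki (K v) = v := fun v => H.act_uniq isUnit_one (L := Ki ∘ K) (K := id)
    (by rw [← Units.val_one, ← inv_mul_cancel b, Units.val_mul]; exact aBi.comp aB) (act_one _) v
  have uA : IsUnit A := (Matrix.isUnit_iff_isUnit_det A).2 (by rw [dA]; exact isUnit_one)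
  have uT : IsUnit (t4M ω) := (Matrix.isUnit_iff_isUnit_det _).2 (by rw [t4M_det]; exact isUnit_one)
  have hL : ∀ v, L v = -v := fun v => by
    have := H.act_uniq (b.isUnit.mul uA) (L := K ∘ L) (K := Neg.neg ∘ K) (aB.comp aA)
      (hB ▸ (t4M_act hω).comp aB) v
    simp only [Function.comp_apply, ← H.act_neg b.isUnit aB] at this
    rw [← hKiK (L v), this, hKiK]
  obtain ⟨c, u, hc0, e⟩ := H.act_id (uA.mul uT) ((aA.comp (t4M_act hω)).congr fun v => by simp [hL])
  have eA : A = c • (W9 ω u * t4M ω) := by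
    rw [← Matrix.smul_mul, ← e, Matrix.mul_assoc, t4M_sq, Matrix.mul_one]
  obtain ⟨d, hd⟩ := t4M_act hω u
  have hu : u = 0 := by
    have e1 : c • W9 ω u = (c * d) • W9 ω (-u) := by
      calc c • W9 ω u = A * t4M ω := by rw [eA, Matrix.smul_mul, Matrix.mul_assoc, t4M_sq, Matrix.mul_one]
        _ = t4M ω * A := hcomm
        _ = _ := by
          rw [eA, Matrix.mul_smul, ← Matrix.mul_assoc, hd, Matrix.smul_mul, Matrix.mul_assoc, t4M_sq, Matrix.mul_one,
            smul_smul]
    have := H.inj u (-u) d (smul_right_injective M9 hc0 (show c • W9 ω u = c • (d • W9 ω (-u)) by rw [e1, smul_smul]))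
    refine (dbl_v4 u).2.2 ?_
    nth_rw 1 [this]
    exact neg_add_cancel u
  rw [hu, W9_zero, Matrix.one_mul] at eA
  have e2 := hA
  rw [eA, Matrix.smul_mul, Matrix.mul_smul, t4M_sq, smul_smul] at e2
  have e9 := dA
  rw [eA, det_smul, t4M_det, mul_one, Fintype.card_prod, Fintype.card_fin] at e9
  have hc2 : c * c = 1 := by simpa using congrFun (congrFun e2 (0, 0)) (0, 0)
  rw [eA, one_of_sq_ninth hc2 e9, one_smul]

end om

end CfsgLib.NineMax
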