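import Cfsg.Agent.Lib.NineMax.Coord

/-!
Elements of determinant one realising symplectic maps, transitivity, and the classification of involutions.
-/

set_option autoImplicit false
set_option linter.unusedSectionVars false
set_option maxRecDepth 10000

namespace CfsgLib.NineMax

open Matrix
open scoped Kronecker
open CfsgLib.HessianMax (Xm Ym gm hgm Dm)

variable {F : Type*} [Field F]

local notation "M3" => Matrix (Fin 3) (Fin 3) F
local notation "M9" => Matrix (Fin 3 × Fin 3) (Fin 3 × Fin 3) F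

/-- The action of the Fourier matrix. -/
def Jl (v : V3) : V3 := (-v.2, v.1)

/-- The action of the phase matrix. -/
def Dl (v : V3) : V3 := (v.1 + 2 * v.2, v.2)

/-- The action of the controlled phase. -/
def CZl (u : V4) : V4 := ((u.1.1 - u.2.2, u.1.2), (u.2.1 - u.1.2, u.2.2))

/-- The generators on nine points. -/
def gen4 : Fin 5 → V4 → V4 :=
  ![pmap Jl id, pmap id Jl, pmap Dl id, CZl, Prod.swap]

/-- The generators on three points. -/
def gen3 : Fin 2 → V3 → V3 := ![Jl, Dl]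

/-- The map of a word in the generators on nine points. -/
def word4 (w : List (Fin 5)) (v : V4) : V4 := w.foldr gen4 v

/-- The map of a word in the generators on three points. -/
def word3 (w : List (Fin 2)) (v : V3) : V3 := w.foldr gen3 v

/-- The first basis vector. -/
def ve : V4 := ((1, 0), 0)

/-- The second basis vector. -/
def vf : V4 := ((0, 1), 0)

/-- Words moving every non-zero vector to the first basis vector. -/
def tbl1 : List (List (Fin 5)) :=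
  [[], [0], [0, 0], [0, 0, 0], [0, 0, 0, 2], [0, 0, 0, 2, 3], [0, 0, 0, 2, 3, 4], [0, 0, 0, 2, 4], [0, 0, 0, 3],
   [0, 0, 0, 3, 0], [0, 0, 0, 3, 4], [0, 0, 0, 4], [0, 0, 4], [0, 2], [0, 2, 0], [0, 2, 0, 3], [0, 2, 0, 3,
   1], [0, 2, 0, 3, 1, 3], [0, 2, 0, 3, 4], [0, 2, 0, 4], [0, 2, 2], [0, 2, 2, 3], [0, 2, 2, 3, 1], [0, 2, 2,
   3, 1, 4], [0, 2, 2, 3, 3], [0, 2, 2, 3, 3, 1], [0, 2, 2, 3, 3, 1, 4], [0, 2, 2, 3, 3, 4], [0, 2, 2, 3, 4],
   [0, 2, 2, 4], [0, 2, 3], [0, 2, 3, 0], [0, 2, 3, 0, 0], [0, 2, 3, 0, 0, 1], [0, 2, 3, 0, 0, 4], [0, 2, 3,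
   0, 1], [0, 2, 3, 0, 1, 3], [0, 2, 3, 0, 1, 3, 3], [0, 2, 3, 0, 1, 4], [0, 2, 3, 0, 4], [0, 2, 3, 1], [0, 2,
   3, 1, 3], [0, 2, 3, 1, 3, 1], [0, 2, 3, 1, 4], [0, 2, 3, 1, 4, 2], [0, 2, 3, 3], [0, 2, 3, 3, 1], [0, 2, 3,
   3, 1, 3], [0, 2, 3, 3, 1, 4], [0, 2, 3, 3, 4], [0, 2, 3, 4], [0, 2, 4], [0, 3], [0, 3, 0], [0, 3, 0, 0],
   [0, 3, 0, 0, 0], [0, 3, 0, 0, 1], [0, 3, 0, 0, 1, 3], [0, 3, 0, 1], [0, 3, 1], [0, 3, 1, 3], [0, 3, 1, 3,
   0], [0, 3, 1, 3, 0, 0], [0, 3, 1, 3, 0, 4], [0, 3, 1, 3, 1], [0, 3, 1, 3, 1, 1], [0, 3, 1, 3, 3], [0, 3, 1,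
   3, 3, 0], [0, 3, 1, 3, 3, 1], [0, 3, 1, 3, 4], [0, 3, 1, 4], [0, 3, 1, 4, 2], [0, 3, 3], [0, 3, 3, 0], [0,
   3, 3, 1], [0, 3, 3, 1, 3], [0, 3, 3, 4], [0, 3, 4], [0, 4], [4]]

/-- Words fixing the first basis vector and moving its partners to the second. -/
def tbl2 : List (List (Fin 5)) :=
  [[], [2], [2, 2], [2, 2, 3], [2, 2, 3, 1], [2, 2, 3, 1, 3], [2, 2, 3, 3], [2, 2, 3, 3, 1], [2, 2, 3, 3, 1, 3],
   [2, 3], [2, 3, 1], [2, 3, 1, 3], [2, 3, 1, 3, 1], [2, 3, 1, 3, 1, 1], [2, 3, 3], [2, 3, 3, 1], [2, 3, 3, 1,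
   3], [3], [3, 1], [3, 1, 3], [3, 1, 3, 1], [3, 1, 3, 1, 1], [3, 1, 3, 3], [3, 1, 3, 3, 1], [3, 3], [3, 3,
   1], [3, 3, 1, 3]]

/-- Words giving every symplectic map on three points. -/
def tbl3 : List (List (Fin 2)) :=
  [[], [0], [0, 0], [0, 0, 0], [0, 1], [0, 1, 0], [0, 1, 0, 0], [0, 1, 0, 0, 0], [0, 1, 0, 1], [0, 1, 0, 1, 1],
   [0, 1, 1], [1], [1, 0], [1, 0, 0], [1, 0, 0, 0], [1, 0, 1], [1, 0, 1, 0], [1, 0, 1, 0, 0], [1, 0, 1, 1],
   [1, 1], [1, 1, 0], [1, 1, 0, 0], [1, 1, 0, 1], [1, 1, 0, 1, 0]]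

theorem tbl1_spec : ∀ u : V4, u ≠ 0 → ∃ w ∈ tbl1, word4 w u = ve := by decide +kernel

theorem tbl2_spec : ∀ u : V4, sy4 ve u = -1 → ∃ w ∈ tbl2, word4 w ve = ve ∧ word4 w u = vf := by decide +kernel

theorem tbl3_spec : ∀ P Q : V3, sy P Q = -1 → ∃ w ∈ tbl3, word3 w (1, 0) = P ∧ word3 w (0, 1) = Q := by
  decide +kernel

/-- The linear map with the given images of the basis. -/
def ev (L : V3 × V3) (v : V3) : V3 := (v.1 * L.1.1 + v.2 * L.2.1, v.1 * L.1.2 + v.2 * L.2.2)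

theorem additive3 {L : V3 → V3} (h : ∀ v w, L (v + w) = L v + L w) : ∀ v, L v = ev (L (1, 0), L (0, 1)) v := by
  have h0 : L 0 = 0 := by
    have := h 0 0
    rw [add_zero] at this
    exact left_eq_add.1 this
  have hs : ∀ (a : Fin 3) (e : V3), L (a * e.1, a * e.2) = (a * (L e).1, a * (L e).2) := by
    intro a e
    have k : ∀ x : Fin 3, 0 * x = 0 ∧ 1 * x = x ∧ 2 * x = x + x := by decide
    have ka : a = 0 ∨ a = 1 ∨ a = 2 := by revert a; decide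
    rcases ka with rfl | rfl | rfl
    · rw [(k e.1).1, (k e.2).1, (k (L e).1).1, (k (L e).2).1]; exact h0
    · rw [(k e.1).2.1, (k e.2).2.1, (k (L e).1).2.1, (k (L e).2).2.1]
    · rw [(k e.1).2.2, (k e.2).2.2, (k (L e).1).2.2, (k (L e).2).2.2]; exact h e e
  intro v
  have e : v = (v.1 * 1, v.1 * 0) + (v.2 * 0, v.2 * 1) := by
    have : ∀ v : V3, v = (v.1 * 1, v.1 * 0) + (v.2 * 0, v.2 * 1) := by decide
    exact this v
  conv_lhs => rw [e]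
  rw [h]
  exact congrArg₂ (· + ·) (hs v.1 (1, 0)) (hs v.2 (0, 1))

/-- `L` is realised by a determinant-one element of the normaliser on nine points. -/
def Real4 (ω : F) (L : V4 → V4) : Prop := ∃ A : M9, A.det = 1 ∧ Act (W9 ω) A L

/-- `L` is realised by an element of the normaliser on three points with cube of the determinant one. -/
def Real3 (ω : F) (L : V3 → V3) : Prop := ∃ A : M3, A.det ^ 3 = 1 ∧ Act (W3 ω) A L

theorem Real4.comp {ω : F} {L K : V4 → V4} (hL : Real4 ω L) (hK : Real4 ω K) : Real4 ω (L ∘ K) := by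
  obtain ⟨A, a1, a2⟩ := hL
  obtain ⟨B, b1, b2⟩ := hK
  exact ⟨A * B, by rw [det_mul, a1, b1, mul_one], a2.comp b2⟩

theorem Real3.comp {ω : F} {L K : V3 → V3} (hL : Real3 ω L) (hK : Real3 ω K) : Real3 ω (L ∘ K) := by
  obtain ⟨A, a1, a2⟩ := hL
  obtain ⟨B, b1, b2⟩ := hK
  exact ⟨A * B, by rw [det_mul, mul_pow, a1, b1, mul_one], a2.comp b2⟩

variable {ω : F} (hω : ω ^ 2 + ω + 1 = 0)

/-- The matrix moving `(1,0)` and `(0,1)` acts as the additive map. -/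
theorem act3_of_basis (hω : ω ^ 2 + ω + 1 = 0) {h : M3} {P Q : V3} {a b : F} (h1 : h * W3 ω (1, 0) = a • (W3 ω P * h))
    (h2 : h * W3 ω (0, 1) = b • (W3 ω Q * h)) : Act (W3 ω) h (ev (P, Q)) := by
  have mul : ∀ {v w v' w' : V3}, (∃ c : F, h * W3 ω v = c • (W3 ω v' * h)) →
      (∃ c : F, h * W3 ω w = c • (W3 ω w' * h)) → ∃ c : F, h * W3 ω (v + w) = c • (W3 ω (v' + w') * h) := by
    rintro v w v' w' ⟨c, hc⟩ ⟨d, hd⟩
    refine ⟨(chi ω (v.2 * w.1))⁻¹ * (c * d * chi ω (v'.2 * w'.1)), ?_⟩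
    rw [mul_smul, eq_inv_smul_iff₀ (chi_ne_zero hω _), ← Matrix.mul_smul, ← W3_mul hω, ← Matrix.mul_assoc, hc,
      Matrix.smul_mul, Matrix.mul_assoc, hd, Matrix.mul_smul, ← Matrix.mul_assoc, W3_mul hω, Matrix.smul_mul,
      smul_smul, smul_smul]
  have z : ∃ c : F, h * W3 ω 0 = c • (W3 ω 0 * h) := ⟨1, by rw [W3_zero, one_smul, Matrix.mul_one, Matrix.one_mul]⟩
  have e1 : ∀ a' : Fin 3, ∃ c : F, h * W3 ω (a', 0) = c • (W3 ω (a' * P.1, a' * P.2) * h) := by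
    intro a'
    have k : ∀ x : Fin 3, 0 * x = 0 ∧ 1 * x = x ∧ 2 * x = x + x := by decide
    have ka : a' = 0 ∨ a' = 1 ∨ a' = 2 := by revert a'; decide
    rcases ka with rfl | rfl | rfl
    · rw [(k P.1).1, (k P.2).1]; exact z
    · rw [(k P.1).2.1, (k P.2).2.1]; exact ⟨a, h1⟩
    · rw [(k P.1).2.2, (k P.2).2.2]; exact mul (v := (1, 0)) (w := (1, 0)) ⟨a, h1⟩ ⟨a, h1⟩
  have e2 : ∀ a' : Fin 3, ∃ c : F, h * W3 ω (0, a') = c • (W3 ω (a' * Q.1, a' * Q.2) * h) := by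
    intro a'
    have k : ∀ x : Fin 3, 0 * x = 0 ∧ 1 * x = x ∧ 2 * x = x + x := by decide
    have ka : a' = 0 ∨ a' = 1 ∨ a' = 2 := by revert a'; decide
    rcases ka with rfl | rfl | rfl
    · rw [(k Q.1).1, (k Q.2).1]; exact z
    · rw [(k Q.1).2.1, (k Q.2).2.1]; exact ⟨b, h2⟩
    · rw [(k Q.1).2.2, (k Q.2).2.2]; exact mul (v := (0, 1)) (w := (0, 1)) ⟨b, h2⟩ ⟨b, h2⟩
  intro v
  obtain ⟨c, hc⟩ := mul (e1 v.1) (e2 v.2)
  have e : ((v.1, 0) : V3) + (0, v.2) = v := Prod.ext (add_zero _) (zero_add _)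
  rw [e] at hc
  exact ⟨c, hc⟩

include hω
variable (h3 : (3 : F) ≠ 0)
include h3

theorem gm_act : Act (W3 ω) (gm ω) Jl := by
  refine (act3_of_basis hω (P := (0, 1)) (Q := (2, 0)) (a := 1) (b := 1) ?_ ?_).congr ?_
  · rw [one_smul, W3_one_zero, W3_zero_one]; exact CfsgLib.HessianMax.gm_X hω h3
  · rw [one_smul, W3_zero_one, W3_eq hω]
    show gm ω * Ym = Xm ω ^ (2 : ℕ) * Ym ^ (0 : ℕ) * gm ω
    rw [pow_zero, Matrix.mul_one]
    exact CfsgLib.HessianMax.gm_Y hω h3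
  · decide

theorem Dm_act : Act (W3 ω) (Dm ω) Dl := by
  refine (act3_of_basis hω (P := (1, 0)) (Q := (2, 1)) (a := 1) (b := ω) ?_ ?_).congr ?_
  · rw [one_smul, W3_one_zero]; exact CfsgLib.HessianMax.Dm_X hω
  · rw [W3_zero_one, W3_eq hω (2, 1)]
    show Dm ω * Ym = ω • (Xm ω ^ (2 : ℕ) * Ym ^ (1 : ℕ) * Dm ω)
    rw [pow_one, ← Matrix.smul_mul]
    exact CfsgLib.HessianMax.Dm_Y hω
  · decide

omit h3 in
theorem Dm_det : (Dm ω).det = ω := by simp [Dm, det_fin_three]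

theorem real_gen4 (i : Fin 5) : Real4 ω (gen4 i) := by
  have w3 : ω ^ 3 = 1 := CfsgLib.HessianMax.om3 hω
  have g1 := CfsgLib.HessianMax.gm_det hω h3
  have hk : i = 0 ∨ i = 1 ∨ i = 2 ∨ i = 3 ∨ i = 4 := by revert i; decide
  rcases hk with rfl | rfl | rfl | rfl | rfl
  · exact ⟨gm ω ⊗ₖ (1 : M3), by simp [det_kronecker, g1], kron_act (gm_act hω h3) (act_one _)⟩
  · exact ⟨(1 : M3) ⊗ₖ gm ω, by simp [det_kronecker, g1], kron_act (act_one _) (gm_act hω h3)⟩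
  · exact ⟨Dm ω ⊗ₖ (1 : M3), by simp [det_kronecker, Dm_det hω, w3], kron_act (Dm_act hω h3) (act_one _)⟩
  · refine ⟨mon ω 1 (1 : Equiv.Perm V3) (fun y => y.1 * y.2), ?_,
      mon_act hω (show MonAct id (fun y => y.1 * y.2) CZl by decide +kernel)⟩
    rw [mon_det]
    simp [Fintype.prod_prod_type, Fin.prod_univ_three, chi]
    have : ∀ a b : Fin 3, ((a * b : Fin 3) : ℕ) = (a : ℕ) * b % 3 := by decide
    linear_combination (ω ^ 3 + 1) * w3
  · refine ⟨mon ω (-1) (Equiv.prodComm (Fin 3) (Fin 3)) 0, ?_,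
      mon_act hω (show MonAct Prod.swap 0 Prod.swap by decide +kernel)⟩
    rw [mon_det, show Equiv.Perm.sign (Equiv.prodComm (Fin 3) (Fin 3) : Equiv.Perm V3) = -1 by decide]
    simp [chi]
    norm_num

theorem real_word4 : ∀ w : List (Fin 5), Real4 ω (word4 w)
  | [] => ⟨1, det_one, act_one _⟩
  | i :: w => (real_gen4 hω h3 i).comp (real_word4 w)

theorem real_gen3 (i : Fin 2) : Real3 ω (gen3 i) := by
  have hk : i = 0 ∨ i = 1 := by revert i; decide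
  rcases hk with rfl | rfl
  · exact ⟨gm ω, by rw [CfsgLib.HessianMax.gm_det hω h3, one_pow], gm_act hω h3⟩
  · exact ⟨Dm ω, by rw [Dm_det hω, CfsgLib.HessianMax.om3 hω], Dm_act hω h3⟩

theorem real_word3 : ∀ w : List (Fin 2), Real3 ω (word3 w)
  | [] => ⟨1, by rw [det_one, one_pow], act_one _⟩
  | i :: w => (real_gen3 hω h3 i).comp (real_word3 w)

/-- Every symplectic map on three points is realised. -/
theorem real3 {L : V3 → V3} (hadd : ∀ v w, L (v + w) = L v + L w) (hsy : ∀ v w, sy (L v) (L w) = sy v w) :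
    Real3 ω L := by
  obtain ⟨w, -, e1, e2⟩ := tbl3_spec (L (1, 0)) (L (0, 1)) (by rw [hsy]; decide)
  obtain ⟨A, hA, hAct⟩ := real_word3 hω h3 w
  haveI : Nonempty (Fin 3) := ⟨0⟩
  have hu : IsUnit A := (Matrix.isUnit_iff_isUnit_det A).2 (isUnit_iff_ne_zero.2 fun e => by simp [e] at hA)
  refine ⟨A, hA, hAct.congr fun v => ?_⟩
  rw [additive3 ((heis3 hω h3).act_add hu hAct) v, e1, e2, ← additive3 hadd v]

/-- A realised map has a realised inverse. -/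
theorem real_pair {u v : V4} (huv : sy4 u v = -1) :
    ∃ L, Real4 ω L ∧ L u = ve ∧ L v = vf := by
  obtain ⟨w, -, e1⟩ := tbl1_spec u (by rintro rfl; revert huv; revert v; decide +kernel)
  obtain ⟨A, hA, hAct⟩ := real_word4 hω h3 w
  have hu : IsUnit A := (Matrix.isUnit_iff_isUnit_det A).2 (by rw [hA]; exact isUnit_one)
  have hs := (heis9 hω h3).act_symp hu hAct u v
  rw [e1, huv] at hs
  obtain ⟨w', -, e2, e3⟩ := tbl2_spec _ hs
  exact ⟨word4 w' ∘ word4 w, (real_word4 hω h3 w').comp ⟨A, hA, hAct⟩, by rw [Function.comp_apply, e1, e2], e3⟩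

end CfsgLib.NineMax
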