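import Cfsg.Agent.Lib.Classical.SubspaceStab
import Cfsg.Agent.Lib.Classical.DecompMax
import Cfsg.Agent.Lib.Classical.LinExtField.Maximal
import Cfsg.Agent.Lib.Classical.LinearSubfield
import Cfsg.Agent.Lib.Classical.LinearHerm
import Cfsg.Agent.Lib.Classical.GeometricLinear
import Cfsg.Agent.Lib.Classical.TensorWreath.Main

/-!
The geometric maximal subgroups of `SL_9(q)` other than the normaliser of an extraspecial group.
-/

set_option autoImplicit false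

namespace CfsgLib.NineMaxLin

open Cfsg

variable {F : Type*} [Field F] [Fintype F]

local notation "L₉" => Cfsg.Geo.specialLinear (Fin 9) F

theorem subspace (W : Submodule F (Fin 9 → F)) (h0 : W ≠ ⊥) (h1 : W ≠ ⊤) :
    Cfsg.Geo.IsMaximalIn L₉ (Cfsg.Geo.subspaceStabilizer W ⊓ L₉) :=
  CfsgLib.Classical.MinIndex.isMaximalIn_stab h0 h1

theorem lines (hq : 5 ≤ Fintype.card F) (D : Fin 9 → Submodule F (Fin 9 → F))
    (hD : Cfsg.Geo.IsMDecomposition 1 D) :
    Cfsg.Geo.IsMaximalIn L₉ (Cfsg.Geo.decompositionStabilizer D ⊓ L₉) :=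
  CfsgLib.Classical.DecompMax.isMaximalIn (by norm_num) hD (by omega) (by omega)

theorem threeSpaces (D : Fin 3 → Submodule F (Fin 9 → F)) (hD : Cfsg.Geo.IsMDecomposition 3 D) :
    Cfsg.Geo.IsMaximalIn L₉ (Cfsg.Geo.decompositionStabilizer D ⊓ L₉) :=
  CfsgLib.Classical.DecompMax.isMaximalIn (by norm_num) hD (by omega) (by omega)

theorem extensionField (K : Subalgebra F (Matrix (Fin 9) (Fin 9) F))
    (hK : Cfsg.Geo.IsFieldSubalgebra 3 K) :
    Cfsg.Geo.IsMaximalIn L₉ (Cfsg.Geo.subalgebraNormalizer K ⊓ L₉) :=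
  (CfsgLib.LinExt.isMaximal (r := 3) Nat.prime_three (by simp) K hK).2

theorem subfield (F₀ : Subfield F) (r : ℕ) (P : Matrix.GeneralLinearGroup (Fin 9) F) (hr : r.Prime)
    (hc : Fintype.card F = Nat.card F₀ ^ r) :
    Cfsg.Geo.IsMaximalIn L₉ (Cfsg.Geo.subfieldSubgroup F₀ P ⊓ L₉) :=
  CfsgLib.Classical.MinIndex.Subfield.isMaximalIn_subfield hr
    (by rw [Nat.card_eq_fintype_card (α := F)]; exact hc) (by norm_num) P

theorem tensorWreath (e : Fin 9 ≃ (Fin 2 → Fin 3)) (P : Matrix.GeneralLinearGroup (Fin 9) F) :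
    Cfsg.Geo.IsMaximalIn L₉ (Cfsg.Geo.tensorWreathSubgroup 3 2 e P ⊓ L₉) :=
  CfsgLib.Classical.TensorWreath.isMaximalIn le_rfl le_rfl e P

theorem orthogonal (hodd : Odd (Fintype.card F)) (Q : (Fin 9 → F) → F)
    (hQ : Cfsg.Geo.IsNondegenerateQuadraticForm Q) :
    Cfsg.Geo.IsMaximalIn L₉ (Cfsg.Geo.quadSimilarityGroup Q ⊓ L₉) :=
  CfsgLib.Classical.GeometricLinear.quad (by norm_num) hodd Q hQ

theorem unitary (σ : F ≃+* F) (f : (Fin 9 → F) → (Fin 9 → F) → F) (hf : Cfsg.Geo.IsUnitaryForm σ f) :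
    Cfsg.Geo.IsMaximalIn L₉ (Cfsg.Geo.similarityGroup f ⊓ L₉) :=
  CfsgLib.Classical.HermSim.isMaximalIn (by norm_num) σ f hf

end CfsgLib.NineMaxLin
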