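import Mathlib

/-!
Groups of exponent three in which every characteristic abelian subgroup is cyclic.
-/

set_option autoImplicit false
set_option linter.unusedSectionVars false

namespace CfsgLib.NineMax

variable {G : Type*} [Group G] [Finite G]

/-- A non-trivial normal subgroup of a three-group meets the centre. -/
theorem exists_central (hG : IsPGroup 3 G) (N : Subgroup G) [N.Normal] (hN : N ≠ ⊥) :
    ∃ z ∈ N, z ≠ 1 ∧ ∀ g, g * z = z * g := by
  haveI : Fact (Nat.Prime 3) := ⟨Nat.prime_three⟩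
  have hd : 3 ∣ Nat.card N := by
    obtain ⟨k, hk⟩ := IsPGroup.iff_card.1 (hG.to_subgroup N)
    rcases k with _ | k
    · exact absurd (Subgroup.card_eq_one.1 (by rw [hk, pow_zero])) hN
    · exact hk ▸ dvd_pow_self 3 k.succ_ne_zero
  have hA : IsPGroup 3 (ConjAct G) := hG.of_equiv ConjAct.toConjAct
  obtain ⟨z, hz, hz1⟩ := hA.exists_fixed_point_of_prime_dvd_card_of_fixed_point N hd (a := (1 : N))
    (fun g => smul_one g)
  refine ⟨z, z.2, fun e => hz1 (Subtype.ext e.symm), fun g => ?_⟩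
  have := congrArg Subtype.val (hz (ConjAct.toConjAct g))
  rw [ConjAct.Subgroup.val_conj_smul, ConjAct.smul_def, ConjAct.ofConjAct_toConjAct, mul_inv_eq_iff_eq_mul] at this
  exact this

/-- Commutators are central. -/
theorem comm_central (hexp : ∀ g : G, g ^ 3 = 1)
    (hcyc : ∀ A : Subgroup G, A.Characteristic → IsMulCommutative A → IsCyclic A) (a b : G) :
    a * b * a⁻¹ * b⁻¹ ∈ Subgroup.center G := by
  classical
  have hG : IsPGroup 3 G := fun g => ⟨1, by rw [pow_one]; exact hexp g⟩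
  by_contra hne
  set D := commutator G ⊓ Subgroup.centralizer (commutator G : Set G) with hD
  have hDch : D.Characteristic := by
    haveI : (commutator G).Characteristic := inferInstance
    rw [Subgroup.characteristic_iff_map_le]
    rintro φ _ ⟨x, ⟨hx, hc⟩, rfl⟩
    refine ⟨Subgroup.characteristic_iff_map_le.1 ‹(commutator G).Characteristic› φ ⟨x, hx, rfl⟩, ?_⟩
    show φ.toMonoidHom x ∈ Subgroup.centralizer (commutator G : Set G)
    rw [Subgroup.mem_centralizer_iff]
    intro y hy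
    obtain ⟨w, hw, rfl⟩ : y ∈ (commutator G).map φ.toMonoidHom := by
      rw [Subgroup.characteristic_iff_map_eq.1 ‹(commutator G).Characteristic› φ]; exact hy
    rw [← map_mul, ← map_mul, Subgroup.mem_centralizer_iff.1 hc w hw]
  have hDab : IsMulCommutative D := ⟨⟨fun x y => Subtype.ext
    ((Subgroup.mem_centralizer_iff.1 y.2.2 x x.2.1))⟩⟩
  have hDZ : D ≤ Subgroup.center G := by
    intro x hx
    by_cases hx1 : x = 1
    · subst hx1; exact one_mem _
    haveI := hDch
    obtain ⟨z, hz, hz1, hzc⟩ := exists_central hG D fun e => hx1 (by rw [e] at hx; exact hx)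
    obtain ⟨g, hg⟩ := (hcyc D hDch hDab).exists_generator
    have hcard : Nat.card D ≤ 3 := by
      rw [← orderOf_eq_card_of_forall_mem_zpowers hg]
      exact orderOf_le_of_pow_eq_one (by norm_num) (Subtype.ext (by simpa using hexp g))
    have h3 : Subgroup.zpowers z = D := by
      refine Subgroup.eq_of_le_of_card_ge (Subgroup.zpowers_le.2 hz) ?_
      rw [Nat.card_zpowers, orderOf_eq_prime (p := 3) (hexp z) hz1]
      exact hcard
    rw [← h3] at hx
    exact Subgroup.zpowers_le.2 (Subgroup.mem_center_iff.2 hzc) hx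
  haveI : ((commutator G).map (QuotientGroup.mk' (Subgroup.center G))).Normal :=
    Subgroup.Normal.map inferInstance _ (QuotientGroup.mk'_surjective _)
  obtain ⟨z, hz, hz1, hzc⟩ := exists_central (hG.to_quotient (Subgroup.center G))
    ((commutator G).map (QuotientGroup.mk' (Subgroup.center G))) fun e => hne (by
      have : QuotientGroup.mk' (Subgroup.center G) (a * b * a⁻¹ * b⁻¹) ∈ (⊥ : Subgroup (G ⧸ Subgroup.center G)) :=
        e ▸ Subgroup.mem_map_of_mem _ (Subgroup.commutator_mem_commutator (Subgroup.mem_top a) (Subgroup.mem_top b))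
      rwa [Subgroup.mem_bot, QuotientGroup.mk'_apply, QuotientGroup.eq_one_iff] at this)
  obtain ⟨x, hx, rfl⟩ := hz
  have hcc : ∀ r : G, r * x * r⁻¹ * x⁻¹ ∈ Subgroup.center G := fun r => by
    have := hzc (QuotientGroup.mk r)
    rw [QuotientGroup.mk'_apply] at this
    rw [← QuotientGroup.eq_one_iff (N := Subgroup.center G), QuotientGroup.mk_mul, QuotientGroup.mk_mul,
      QuotientGroup.mk_mul, this, QuotientGroup.mk_inv, QuotientGroup.mk_inv, mul_inv_cancel_right, mul_inv_cancel]
  obtain ⟨φ, hφ⟩ : ∃ φ : G →* Subgroup.center G, ∀ r, (φ r : G) = r * x * r⁻¹ * x⁻¹ := ⟨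
    { toFun := fun r => ⟨r * x * r⁻¹ * x⁻¹, hcc r⟩
      map_one' := Subtype.ext (by simp)
      map_mul' := fun r s => Subtype.ext (by
        show r * s * x * (r * s)⁻¹ * x⁻¹ = (r * x * r⁻¹ * x⁻¹) * (s * x * s⁻¹ * x⁻¹)
        have h1 : r * (s * x * s⁻¹ * x⁻¹) = (s * x * s⁻¹ * x⁻¹) * r := Subgroup.mem_center_iff.1 (hcc s) r
        have h2 : (r * x * r⁻¹ * x⁻¹) * (s * x * s⁻¹ * x⁻¹) = (s * x * s⁻¹ * x⁻¹) * (r * x * r⁻¹ * x⁻¹) :=
          Subgroup.mem_center_iff.1 (hcc s) _
        calc r * s * x * (r * s)⁻¹ * x⁻¹ = r * (s * x * s⁻¹ * x⁻¹) * x * r⁻¹ * x⁻¹ := by group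
          _ = (s * x * s⁻¹ * x⁻¹) * r * x * r⁻¹ * x⁻¹ := by rw [h1]
          _ = (s * x * s⁻¹ * x⁻¹) * (r * x * r⁻¹ * x⁻¹) := by group
          _ = _ := h2.symm) }, fun r => rfl⟩
  have hker : ∀ r ∈ commutator G, r * x = x * r := fun r hr => by
    have hle : commutator G ≤ φ.ker := by
      rw [commutator_def, Subgroup.commutator_le]
      intro u _ v _
      have huv : φ u * φ v = φ v * φ u := Subtype.ext (Subgroup.mem_center_iff.1 (φ v).2 (φ u : G))
      rw [MonoidHom.mem_ker, map_commutatorElement, commutatorElement_eq_one_iff_mul_comm]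
      exact huv
    have hk : φ r = 1 := MonoidHom.mem_ker.1 (hle hr)
    have h1 : r * x * r⁻¹ * x⁻¹ = 1 := by rw [← hφ, hk]; rfl
    rwa [mul_inv_eq_one, mul_inv_eq_iff_eq_mul] at h1
  refine hz1 ?_
  rw [QuotientGroup.mk'_apply, QuotientGroup.eq_one_iff]
  exact hDZ ⟨hx, Subgroup.mem_centralizer_iff.2 fun r hr => hker r hr⟩

end CfsgLib.NineMax
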