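import Cfsg.Agent.Lib.NineMax.Coord
import Cfsg.Agent.Lib.NineMax.Sympl

/-!
A faithful absolutely irreducible representation of a symplectic-type group of exponent three on nine points is the
standard one up to a change of basis.
-/

set_option autoImplicit false
set_option linter.unusedSectionVars false
set_option maxRecDepth 10000
set_option maxHeartbeats 1000000

namespace CfsgLib.NineMax

open Matrix

variable {F : Type*} [Field F]

local notation "M9" => Matrix (Fin 3 × Fin 3) (Fin 3 × Fin 3) F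
local notation "G9" => GL (Fin 3 × Fin 3) F

theorem smul_pow_comm {n : Type*} [Fintype n] [DecidableEq n] {A B : Matrix n n F} {c : F}
    (h : A * B = c • (B * A)) : ∀ m : ℕ, A * B ^ m = c ^ m • (B ^ m * A)
  | 0 => by simp
  | m + 1 => by
    rw [pow_succ B, ← Matrix.mul_assoc, smul_pow_comm h m, Matrix.smul_mul, Matrix.mul_assoc, h, Matrix.mul_smul,
      smul_smul, ← Matrix.mul_assoc, pow_succ]

/-- An eigenvector of a matrix of order three. -/
theorem eig {n : Type*} [Fintype n] [DecidableEq n] {ω : F} (hω : ω ^ 2 + ω + 1 = 0) (h3 : (3 : F) ≠ 0)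
    {A : Matrix n n F} (hA : A ^ 3 = 1) {v : n → F} (hv : v ≠ 0) :
    ∃ k : Fin 3, ∃ w, w ≠ 0 ∧ A *ᵥ w = chi ω k • w ∧
      ∀ (C : Matrix n n F) (c : F), C * A = A * C → C *ᵥ v = c • v → C *ᵥ w = c • w := by
  have w3 : ω ^ 3 = 1 := by linear_combination (ω - 1) * hω
  obtain ⟨k, hk⟩ : ∃ k : Fin 3, v + chi ω k • (A *ᵥ v) + chi ω (k + k) • ((A * A) *ᵥ v) ≠ 0 := by
    by_contra hne
    push Not at hne
    have h := congrArg₂ (fun a b => a + b) (congrArg₂ (fun a b => a + b) (hne 0) (hne 1)) (hne 2)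
    simp only [add_zero] at h
    rw [show (1 : Fin 3) + 1 = 2 from rfl, show (2 : Fin 3) + 2 = 1 from rfl,
      chi_zero, chi_one, chi_two] at h
    refine hv (funext fun i => ?_)
    have := congrFun h i
    simp only [Pi.add_apply, Pi.smul_apply, Pi.zero_apply, smul_eq_mul] at this ⊢
    have e : (3 : F) * v i = 0 := by linear_combination this - ((A *ᵥ v) i + ((A * A) *ᵥ v) i) * hω
    exact (mul_eq_zero.1 e).resolve_left h3
  refine ⟨-k, _, hk, ?_, fun C c hC hCv => ?_⟩
  · have e1 : chi ω (-k) * chi ω k = 1 := chi_neg hω k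
    have e2 : chi ω (-k) * chi ω (k + k) = chi ω k := by rw [chi_add hω, ← mul_assoc, e1, one_mul]
    have e3 : chi ω (k + k) = chi ω (-k) := congrArg (chi ω) ((show ∀ k : Fin 3, k + k = -k by decide) k)
    have hA3 : A * (A * A) = 1 := by rw [← pow_two, ← pow_succ', hA]
    simp only [Matrix.mulVec_add, Matrix.mulVec_smul, Matrix.mulVec_mulVec, hA3, Matrix.one_mulVec, smul_add,
      smul_smul, e1, one_smul, e2]
    rw [e3]
    abel
  · have h1 : C *ᵥ (A *ᵥ v) = c • (A *ᵥ v) := by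
      rw [Matrix.mulVec_mulVec, hC, ← Matrix.mulVec_mulVec, hCv, Matrix.mulVec_smul]
    have h2 : C *ᵥ ((A * A) *ᵥ v) = c • ((A * A) *ᵥ v) := by
      rw [Matrix.mulVec_mulVec, ← Matrix.mul_assoc, hC, Matrix.mul_assoc, hC, ← Matrix.mul_assoc,
        ← Matrix.mulVec_mulVec, hCv, Matrix.mulVec_smul]
    rw [Matrix.mulVec_add, Matrix.mulVec_add, Matrix.mulVec_smul, Matrix.mulVec_smul, h1, h2, hCv, smul_add,
      smul_add, smul_comm c, smul_comm c]

theorem fin3_step : ∀ i : Fin 3, ((i + 1 : Fin 3) : ℕ) = ((i : ℕ) + 1) % 3 ∧ i - 2 = i + 1 := by decide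

theorem v4_span : ∀ u : V4, u = (u.1.1 : ℕ) • ((((1, 0) : V3), (0 : V3)) : V4) +
    (2 * (u.1.2 : ℕ)) • ((((0, 2) : V3), (0 : V3)) : V4) + (u.2.1 : ℕ) • ((((0 : V3)), ((1, 0) : V3)) : V4) +
    (2 * (u.2.2 : ℕ)) • ((((0 : V3)), ((0, 2) : V3)) : V4) := by decide +kernel

variable {G : Type*} [Group G] [Finite G]

/-- The standard form. -/
theorem standard {ω : F} (hω : ω ^ 2 + ω + 1 = 0) (h3 : (3 : F) ≠ 0) (hexp : ∀ g : G, g ^ 3 = 1)
    (hcyc : ∀ A : Subgroup G, A.Characteristic → IsMulCommutative A → IsCyclic A)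
    (hZ : Nat.card (Subgroup.center G) = 3) (ρ : G →* G9) (hρ : Function.Injective ρ)
    (scal : ∀ A : M9, (∀ g, A * (ρ g : M9) = (ρ g : M9) * A) → ∃ c : F, A = c • 1)
    (irr : ∀ U : Submodule F (Fin 3 × Fin 3 → F), (∀ g, ∀ x ∈ U, (ρ g : M9) *ᵥ x ∈ U) → U = ⊥ ∨ U = ⊤) :
    ∃ P : G9, ∀ y : G9, y ∈ ρ.range ↔ InW ω (W9 ω) ((P⁻¹ * y * P : G9) : M9) := by
  classical
  have H := heis9 hω h3
  have w3 : ω ^ 3 = 1 := by linear_combination (ω - 1) * hω
  have cube : ∀ g, (ρ g : M9) ^ 3 = 1 := fun g => by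
    rw [← Units.val_pow_eq_pow_val, ← map_pow, hexp, map_one, Units.val_one]
  have zval : ∀ z : Subgroup.center G, ∃ k, (ρ (z : G) : M9) = chi ω k • 1 := by
    intro z
    obtain ⟨c, hc⟩ := scal (ρ (z : G)) fun g => by
      rw [← Units.val_mul, ← Units.val_mul, ← map_mul, ← map_mul, Subgroup.mem_center_iff.1 z.2 g]
    have h1 := cube (z : G)
    rw [hc, _root_.smul_pow, one_pow] at h1
    obtain ⟨k, rfl⟩ := exists_chi hω (c := c) (by simpa using congrFun (congrFun h1 0) 0)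
    exact ⟨k, hc⟩
  choose κ hκ using zval
  have κinj : Function.Injective κ := fun a b e => Subtype.ext (hρ (Units.ext (by rw [hκ, hκ, e])))
  have κsurj : Function.Surjective κ :=
    ((Nat.bijective_iff_injective_and_card κ).2 ⟨κinj, by rw [hZ, Nat.card_fin]⟩).2
  have getz : ∀ k, ∃ z : G, (ρ z : M9) = chi ω k • 1 := fun k => by
    obtain ⟨z, rfl⟩ := κsurj k
    exact ⟨z, hκ z⟩
  have comm : ∀ a b : G, ∃ k, (ρ a : M9) * ρ b = chi ω k • ((ρ b : M9) * ρ a) := by
    intro a b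
    refine ⟨κ ⟨_, comm_central hexp hcyc a b⟩, ?_⟩
    rw [← Matrix.one_mul ((ρ b : M9) * (ρ a : M9)), ← Matrix.smul_mul, ← hκ, ← Units.val_mul, ← Units.val_mul,
      ← Units.val_mul, ← map_mul, ← map_mul, ← map_mul]
    congr 2
    group
  have chiN : ∀ k : Fin 3, ω ^ (k : ℕ) = chi ω k := fun k => rfl
  have fix : ∀ (A B : M9), A * B = chi ω 2 • (B * A) → A * B ^ 2 = ω • (B ^ 2 * A) := fun A B e => by
    rw [smul_pow_comm e 2, chi_two, ← pow_mul, show ω ^ (2 * 2) = ω by linear_combination ω * w3]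
  -- a hyperbolic pair
  obtain ⟨a, b, hab⟩ : ∃ a b : G, (ρ a : M9) * ρ b = ω • ((ρ b : M9) * ρ a) := by
    by_cases hall : ∀ a b : G, (ρ a : M9) * ρ b = (ρ b : M9) * ρ a
    · exfalso
      have hs : ∀ g, ∃ c : F, (ρ g : M9) = c • 1 := fun g => scal _ fun b => hall g b
      rcases irr (Submodule.span F {Pi.single ((0, 0) : V3) (1 : F)}) (fun g x hx => by
        obtain ⟨c, hc⟩ := hs g
        rw [hc, Matrix.smul_mulVec, Matrix.one_mulVec]
        exact Submodule.smul_mem _ c hx) with e | e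
      · rw [Submodule.span_singleton_eq_bot] at e
        simpa using congrFun e (0, 0)
      · have : (Pi.single ((1, 0) : V3) (1 : F) : V3 → F) ∈ Submodule.span F {Pi.single ((0, 0) : V3) (1 : F)} := by
          rw [e]; exact Submodule.mem_top
        obtain ⟨c, hc⟩ := Submodule.mem_span_singleton.1 this
        simpa using congrFun hc (1, 0)
    · push Not at hall
      obtain ⟨a, b, hne⟩ := hall
      obtain ⟨k, hk⟩ := comm a b
      have hk' := (show ∀ k : Fin 3, k = 0 ∨ k = 1 ∨ k = 2 by decide) k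
      rcases hk' with rfl | rfl | rfl
      · exact absurd (by rw [hk, chi_zero, one_smul]) hne
      · exact ⟨a, b, by rw [hk, chi_one]⟩
      · exact ⟨a, b ^ 2, by rw [map_pow, Units.val_pow_eq_pow_val]; exact fix _ _ hk⟩
  have hba : (ρ b : M9) * ρ a = ω ^ 2 • ((ρ a : M9) * ρ b) := by
    rw [hab, smul_smul, ← pow_succ, w3, one_smul]
  -- correcting into the centraliser of the pair
  have corr : ∀ r : G, ∃ i j : ℕ, (ρ a : M9) * ρ (r * a ^ i * b ^ j) = ρ (r * a ^ i * b ^ j) * (ρ a : M9) ∧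
      (ρ b : M9) * ρ (r * a ^ i * b ^ j) = ρ (r * a ^ i * b ^ j) * (ρ b : M9) := by
    intro r
    obtain ⟨k, hk⟩ := comm a r
    obtain ⟨l, hl⟩ := comm b r
    have e : (ρ (r * a ^ (l : ℕ) * b ^ (2 * (k : ℕ))) : M9) =
        (ρ r : M9) * (ρ a : M9) ^ (l : ℕ) * (ρ b : M9) ^ (2 * (k : ℕ)) := by
      simp only [map_mul, map_pow, Units.val_mul, Units.val_pow_eq_pow_val]
    refine ⟨l, 2 * (k : ℕ), ?_, ?_⟩ <;> rw [e]
    · calc (ρ a : M9) * ((ρ r : M9) * (ρ a : M9) ^ (l : ℕ) * (ρ b : M9) ^ (2 * (k : ℕ)))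
          = chi ω k • ((ρ r : M9) * (ρ a : M9) ^ (l : ℕ) * ((ρ a : M9) * (ρ b : M9) ^ (2 * (k : ℕ)))) := by
            simp only [← Matrix.mul_assoc]
            rw [hk]
            simp only [Matrix.smul_mul, Matrix.mul_assoc]
            rw [← Matrix.mul_assoc (ρ a : M9), ← pow_succ', pow_succ, Matrix.mul_assoc]
        _ = _ := by
            rw [smul_pow_comm hab, Matrix.mul_smul, smul_smul, ← chiN, ← pow_add,
              show (k : ℕ) + 2 * (k : ℕ) = 3 * (k : ℕ) by ring, pow_mul ω, w3, one_pow, one_smul]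
            simp only [Matrix.mul_assoc]
    · calc (ρ b : M9) * ((ρ r : M9) * (ρ a : M9) ^ (l : ℕ) * (ρ b : M9) ^ (2 * (k : ℕ)))
          = chi ω l • ((ρ r : M9) * ((ρ b : M9) * (ρ a : M9) ^ (l : ℕ)) * (ρ b : M9) ^ (2 * (k : ℕ))) := by
            simp only [← Matrix.mul_assoc]
            rw [hl]
            simp only [Matrix.smul_mul, Matrix.mul_assoc]
        _ = _ := by
            rw [smul_pow_comm hba, ← pow_mul, Matrix.mul_smul, Matrix.smul_mul, smul_smul, ← chiN, ← pow_add,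
              show (l : ℕ) + 2 * (l : ℕ) = 3 * (l : ℕ) by ring, pow_mul ω, w3, one_pow, one_smul]
            simp only [Matrix.mul_assoc]
            rw [← pow_succ, ← pow_succ']
  -- the second pair
  obtain ⟨c, d, hca, hcb, hda, hdb, hcd⟩ : ∃ c d : G, (ρ a : M9) * ρ c = ρ c * (ρ a : M9) ∧
      (ρ b : M9) * ρ c = ρ c * (ρ b : M9) ∧ (ρ a : M9) * ρ d = ρ d * (ρ a : M9) ∧
      (ρ b : M9) * ρ d = ρ d * (ρ b : M9) ∧ (ρ c : M9) * ρ d = ω • ((ρ d : M9) * ρ c) := by
    by_cases hC : ∀ r : G, (ρ a : M9) * ρ r = ρ r * (ρ a : M9) → (ρ b : M9) * ρ r = ρ r * (ρ b : M9) →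
        ∀ g, (ρ r : M9) * ρ g = (ρ g : M9) * ρ r
    · exfalso
      obtain ⟨k, v, hv, hav, -⟩ := eig hω h3 (cube a) (v := Pi.single ((0, 0) : V3) (1 : F))
        (fun e => by simpa using congrFun e (0, 0))
      obtain ⟨U, hU⟩ : ∃ U, U = Submodule.span F (Set.range fun i : Fin 3 => (ρ b : M9) ^ (i : ℕ) *ᵥ v) :=
        ⟨_, rfl⟩
      let St : M9 → Prop := fun A => ∀ x ∈ U, A *ᵥ x ∈ U
      have smul' : ∀ {A B}, St A → St B → St (A * B) := fun {A B} hA hB x hx => by
        rw [← Matrix.mulVec_mulVec]; exact hA _ (hB x hx)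
      have spow : ∀ {A}, St A → ∀ m, St (A ^ m) := by
        intro A hA m
        induction m with
        | zero => intro x hx; rw [pow_zero, Matrix.one_mulVec]; exact hx
        | succ m ih => rw [pow_succ]; exact smul' ih hA
      have gen : ∀ A : M9, (∀ i : Fin 3, A *ᵥ ((ρ b : M9) ^ (i : ℕ) *ᵥ v) ∈ U) → St A := fun A hA x hx => by
        rw [hU] at hx
        induction hx using Submodule.span_induction with
        | mem y hy => obtain ⟨i, rfl⟩ := hy; exact hA i
        | zero => rw [Matrix.mulVec_zero]; exact zero_mem _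
        | add y z _ _ hy hz => rw [Matrix.mulVec_add]; exact add_mem hy hz
        | smul t y _ hy => rw [Matrix.mulVec_smul]; exact Submodule.smul_mem _ t hy
      have mem : ∀ i : Fin 3, (ρ b : M9) ^ (i : ℕ) *ᵥ v ∈ U := fun i => by
        rw [hU]; exact Submodule.subset_span ⟨i, rfl⟩
      have sa : St (ρ a : M9) := gen _ fun i => by
        rw [Matrix.mulVec_mulVec, smul_pow_comm hab, Matrix.smul_mulVec, ← Matrix.mulVec_mulVec, hav,
          Matrix.mulVec_smul]
        exact Submodule.smul_mem _ _ (Submodule.smul_mem _ _ (mem i))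
      have sb : St (ρ b : M9) := gen _ fun i => by
        rw [Matrix.mulVec_mulVec, ← pow_succ', pow_eq_pow_mod _ (cube b), ← (fin3_step i).1]
        exact mem _
      rcases irr U (fun g => by
        obtain ⟨i, j, h1, h2⟩ := corr g
        obtain ⟨t, ht⟩ := scal _ (hC _ h1 h2)
        have e : g = g * a ^ i * b ^ j * ((b ^ 2) ^ j * (a ^ 2) ^ i) := by
          have hb3 : b ^ j * (b ^ 2) ^ j = 1 := by
            rw [← pow_mul, ← pow_add, show j + 2 * j = 3 * j by ring, pow_mul, hexp, one_pow]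
          have ha3 : a ^ i * (a ^ 2) ^ i = 1 := by
            rw [← pow_mul, ← pow_add, show i + 2 * i = 3 * i by ring, pow_mul, hexp, one_pow]
          rw [mul_assoc g, mul_assoc g, mul_assoc (a ^ i), ← mul_assoc (b ^ j), hb3, one_mul, ha3, mul_one]
        intro x hx
        rw [e, map_mul, Units.val_mul, ht, Matrix.smul_mul, Matrix.one_mul, Matrix.smul_mulVec]
        refine Submodule.smul_mem _ _ ?_
        rw [map_mul, map_pow, map_pow, map_pow, map_pow, Units.val_mul, Units.val_pow_eq_pow_val,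
          Units.val_pow_eq_pow_val, Units.val_pow_eq_pow_val, Units.val_pow_eq_pow_val]
        exact smul' (spow (spow sb 2) j) (spow (spow sa 2) i) x hx) with e | e
      · have := mem 0
        rw [e, Submodule.mem_bot] at this
        simp [hv] at this
      · have h1 : Module.finrank F U ≤ 3 := by
          rw [hU]; exact (finrank_range_le_card _).trans (by rw [Fintype.card_fin])
        rw [e, finrank_top, Module.finrank_fintype_fun_eq_card, Fintype.card_prod, Fintype.card_fin] at h1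
        omega
    · push Not at hC
      obtain ⟨c, hca, hcb, g, hne⟩ := hC
      obtain ⟨i, j, h1, h2⟩ := corr g
      obtain ⟨k, hk⟩ := comm c g
      have e : (ρ c : M9) * ρ (g * a ^ i * b ^ j) = chi ω k • ((ρ (g * a ^ i * b ^ j) : M9) * ρ c) := by
        simp only [map_mul, map_pow, Units.val_mul, Units.val_pow_eq_pow_val]
        have ca : (ρ c : M9) * (ρ a : M9) ^ i = (ρ a : M9) ^ i * ρ c := (show Commute (ρ c : M9) (ρ a) from hca.symm).pow_right i
        have cb : (ρ c : M9) * (ρ b : M9) ^ j = (ρ b : M9) ^ j * ρ c := (show Commute (ρ c : M9) (ρ b) from hcb.symm).pow_right j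
        calc (ρ c : M9) * ((ρ g : M9) * (ρ a : M9) ^ i * (ρ b : M9) ^ j)
            = chi ω k • ((ρ g : M9) * ((ρ c : M9) * (ρ a : M9) ^ i) * (ρ b : M9) ^ j) := by
              simp only [← Matrix.mul_assoc]
              rw [hk]
              simp only [Matrix.smul_mul, Matrix.mul_assoc]
          _ = _ := by
              rw [ca, Matrix.mul_assoc, Matrix.mul_assoc, cb]
              simp only [Matrix.mul_assoc]
      have hk' := (show ∀ k : Fin 3, k = 0 ∨ k = 1 ∨ k = 2 by decide) k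
      rcases hk' with rfl | rfl | rfl
      · exact absurd (by rw [hk, chi_zero, one_smul]) hne
      · exact ⟨c, _, hca, hcb, h1, h2, by rw [e, chi_one]⟩
      · refine ⟨c, (g * a ^ i * b ^ j) ^ 2, hca, hcb, ?_, ?_, ?_⟩
        · rw [map_pow ρ _ 2, Units.val_pow_eq_pow_val]; exact (show Commute _ _ from h1).pow_right 2
        · rw [map_pow ρ _ 2, Units.val_pow_eq_pow_val]; exact (show Commute _ _ from h2).pow_right 2
        · rw [map_pow ρ _ 2, Units.val_pow_eq_pow_val]; exact fix _ _ e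
  -- a common eigenvector
  obtain ⟨α, u, hu, hau, -⟩ := eig hω h3 (cube a) (v := Pi.single ((0, 0) : V3) (1 : F))
    (fun e => by simpa using congrFun e (0, 0))
  obtain ⟨γ, w, hw, hcw, hkeep⟩ := eig hω h3 (cube c) hu
  have haw : (ρ a : M9) *ᵥ w = chi ω α • w := hkeep _ _ hca hau
  obtain ⟨v, hv⟩ : ∃ v, v = ((ρ b : M9) ^ (2 * (α : ℕ)) * (ρ d : M9) ^ (2 * (γ : ℕ))) *ᵥ w := ⟨_, rfl⟩
  have hav : (ρ a : M9) *ᵥ v = v := by
    rw [hv, Matrix.mulVec_mulVec, ← Matrix.mul_assoc, smul_pow_comm hab, Matrix.smul_mul, Matrix.mul_assoc,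
      ((show Commute (ρ a : M9) (ρ d) from hda).pow_right _).eq, ← Matrix.mul_assoc, Matrix.smul_mulVec,
      ← Matrix.mulVec_mulVec, haw, Matrix.mulVec_smul, smul_smul, ← chiN, ← pow_add,
      show 2 * (α : ℕ) + (α : ℕ) = 3 * (α : ℕ) by ring, pow_mul ω, w3, one_pow, one_smul]
  have hcv : (ρ c : M9) *ᵥ v = v := by
    rw [hv, Matrix.mulVec_mulVec, ← Matrix.mul_assoc, ((show Commute (ρ c : M9) (ρ b) from hcb.symm).pow_right _).eq,
      Matrix.mul_assoc, smul_pow_comm hcd, Matrix.mul_smul, ← Matrix.mul_assoc, Matrix.smul_mulVec,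
      ← Matrix.mulVec_mulVec, hcw, Matrix.mulVec_smul, smul_smul, ← chiN, ← pow_add,
      show 2 * (γ : ℕ) + (γ : ℕ) = 3 * (γ : ℕ) by ring, pow_mul ω, w3, one_pow, one_smul]
  -- the basis
  obtain ⟨f, hf⟩ : ∃ f : V3 → V3 → F, f = fun x => ((ρ b : M9) ^ (x.1 : ℕ) * (ρ d : M9) ^ (x.2 : ℕ)) *ᵥ v :=
    ⟨_, rfl⟩
  obtain ⟨P, hP⟩ : ∃ P : M9, P = of fun y x => f x y := ⟨_, rfl⟩
  have cases' : ∀ (g : G) (t : V4), (∀ x : V3, (ρ g : M9) *ᵥ f x = chi ω (ph t (x - sh t)) • f (x - sh t)) →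
      (ρ g : M9) * P = P * W9 ω t := by
    intro g t hg
    ext y x
    have h1 := congrFun (hg x) y
    rw [Matrix.mulVec, dotProduct, Pi.smul_apply, smul_eq_mul] at h1
    rw [Matrix.mul_apply]
    simp only [hP, of_apply]
    rw [h1, Matrix.mul_apply, Finset.sum_eq_single (x - sh t)]
    · rw [W9_apply hω, if_pos (sub_add_cancel _ _).symm, of_apply, mul_comm]
    · intro z _ hz
      rw [W9_apply hω, if_neg (fun e => hz (by rw [e, add_sub_cancel_right])), mul_zero]
    · simp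
  let S : V4 → Prop := fun t => ∃ g : G, ∃ k, (ρ g : M9) * P = chi ω k • (P * W9 ω t)
  have Sadd : ∀ s t, S s → S t → S (s + t) := by
    rintro s t ⟨g, k, hg⟩ ⟨g', l, hg'⟩
    obtain ⟨m, hm⟩ := H.mul s t
    refine ⟨g * g', l + k + m, ?_⟩
    rw [map_mul, Units.val_mul, Matrix.mul_assoc, hg', Matrix.mul_smul, ← Matrix.mul_assoc, hg, Matrix.smul_mul,
      Matrix.mul_assoc, hm, Matrix.mul_smul, smul_smul, smul_smul, chi_add hω, chi_add hω, mul_assoc]
  have S0 : S 0 := ⟨1, 0, by rw [map_one, Units.val_one, Matrix.one_mul, W9_zero, Matrix.mul_one, chi_zero, one_smul]⟩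
  have Snsmul : ∀ (m : ℕ) t, S t → S (m • t) := by
    intro m t ht
    induction m with
    | zero => rw [zero_smul]; exact S0
    | succ m ih => rw [succ_nsmul]; exact Sadd _ _ ih ht
  have mk : ∀ (g : G) (t : V4), (∀ x : V3, (ρ g : M9) *ᵥ f x = chi ω (ph t (x - sh t)) • f (x - sh t)) → S t :=
    fun g t hg => ⟨g, 0, by rw [cases' g t hg, chi_zero, one_smul]⟩
  have k0 : ∀ i : Fin 3, 0 * i = 0 ∧ 1 * i = i ∧ i - 0 = i ∧ i + 0 = i ∧ 0 + i = i := by decide
  have bd' : ∀ m : ℕ, (ρ b : M9) * (ρ d : M9) ^ m = (ρ d : M9) ^ m * ρ b := fun m =>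
    (show Commute (ρ b : M9) (ρ d) from hdb).pow_right m
  have Sall : ∀ t, S t := by
    intro t
    rw [v4_span t]
    refine Sadd _ _ (Sadd _ _ (Sadd _ _ (Snsmul _ _ (mk a _ fun x => ?_)) (Snsmul _ _ (mk b _ fun x => ?_)))
      (Snsmul _ _ (mk c _ fun x => ?_))) (Snsmul _ _ (mk d _ fun x => ?_))
    · rw [show x - sh ((((1, 0) : V3), (0 : V3)) : V4) = x from Prod.ext (k0 _).2.2.1 (k0 _).2.2.1,
        show ph ((((1, 0) : V3), (0 : V3)) : V4) x = x.1 by simp [ph, (k0 x.1).2.1, (k0 x.2).1], hf]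
      simp only
      rw [Matrix.mulVec_mulVec, ← Matrix.mul_assoc, smul_pow_comm hab, Matrix.smul_mul, Matrix.mul_assoc,
        ((show Commute (ρ a : M9) (ρ d) from hda).pow_right _).eq, ← Matrix.mul_assoc, Matrix.smul_mulVec,
        ← Matrix.mulVec_mulVec, hav, chiN]
    · rw [show x - sh ((((0, 2) : V3), (0 : V3)) : V4) = (x.1 + 1, x.2) from Prod.ext (fin3_step _).2 (k0 _).2.2.1,
        show ph ((((0, 2) : V3), (0 : V3)) : V4) ((x.1 + 1, x.2) : V3) = 0 by simp [ph, (k0 (x.1 + 1)).1, (k0 x.2).1],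
        chi_zero, one_smul, hf]
      simp only
      rw [Matrix.mulVec_mulVec, ← Matrix.mul_assoc, ← pow_succ', (fin3_step x.1).1, ← pow_eq_pow_mod _ (cube b)]
    · rw [show x - sh ((((0 : V3)), ((1, 0) : V3)) : V4) = x from Prod.ext (k0 _).2.2.1 (k0 _).2.2.1,
        show ph ((((0 : V3)), ((1, 0) : V3)) : V4) x = x.2 by simp [ph, (k0 x.1).1, (k0 x.2).2.1], hf]
      simp only
      rw [Matrix.mulVec_mulVec, ← Matrix.mul_assoc, ((show Commute (ρ c : M9) (ρ b) from hcb.symm).pow_right _).eq,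
        Matrix.mul_assoc, smul_pow_comm hcd, Matrix.mul_smul, ← Matrix.mul_assoc, Matrix.smul_mulVec,
        ← Matrix.mulVec_mulVec, hcv, chiN]
    · rw [show x - sh ((((0 : V3)), ((0, 2) : V3)) : V4) = (x.1, x.2 + 1) from Prod.ext (k0 _).2.2.1 (fin3_step _).2,
        show ph ((((0 : V3)), ((0, 2) : V3)) : V4) ((x.1, x.2 + 1) : V3) = 0 by simp [ph, (k0 x.1).1, (k0 (x.2 + 1)).1],
        chi_zero, one_smul, hf]
      simp only
      rw [Matrix.mulVec_mulVec, ← Matrix.mul_assoc, ((show Commute (ρ d : M9) (ρ b) from hdb.symm).pow_right _).eq,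
        Matrix.mul_assoc, ← pow_succ', (fin3_step x.2).1, ← pow_eq_pow_mod _ (cube d)]
  have hdet : P.det ≠ 0 := by
    intro h0
    obtain ⟨z, hz, hPz⟩ := Matrix.exists_mulVec_eq_zero_iff.2 h0
    refine hz (funext fun x0 => ?_)
    obtain ⟨E, hE⟩ : ∃ E : M9, E = ∑ y : V3, chi ω (-(y.1 * x0.1 + y.2 * x0.2)) • W9 ω ((y.1, 0), (y.2, 0)) :=
      ⟨_, rfl⟩
    have hEd : E = diagonal fun x : V3 => if x = x0 then (9 : F) else 0 := by
      rw [hE]
      ext x x'
      simp only [Matrix.sum_apply, Matrix.smul_apply, smul_eq_mul, W9_apply hω]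
      by_cases hxx : x = x'
      · subst hxx
        rw [Matrix.diagonal_apply_eq]
        have e1 : ∀ y : V3, chi ω (-(y.1 * x0.1 + y.2 * x0.2)) *
            (if x = x + sh ((y.1, 0), (y.2, 0)) then chi ω (ph ((y.1, 0), (y.2, 0)) x) else 0) =
            chi ω (y.1 * (x.1 - x0.1)) * chi ω (y.2 * (x.2 - x0.2)) := fun y => by
          rw [if_pos (by simp [sh]), ← chi_add hω, ← chi_add hω]
          congr 1
          have : ∀ a b c d e g : Fin 3, -(a * b + c * d) + (a * e + c * g) = a * (e - b) + c * (g - d) := by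
            decide +kernel
          exact this _ _ _ _ _ _
        simp only [e1]
        rw [Fintype.sum_prod_type]
        simp only [← Finset.mul_sum, ← Finset.sum_mul]
        have hs : ∀ m : Fin 3, (∑ y : Fin 3, chi ω (y * m)) = if m = 0 then 3 else 0 := by
          intro m
          have km : m = 0 ∨ m = 1 ∨ m = 2 := by revert m; decide
          rw [Fin.sum_univ_three]
          rcases km with rfl | rfl | rfl
          · rw [show (1 : Fin 3) * 0 = 0 from rfl, show (0 : Fin 3) * 0 = 0 from rfl, show (2 : Fin 3) * 0 = 0 from rfl,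
              chi_zero, if_pos rfl]
            norm_num
          · rw [show (1 : Fin 3) * 1 = 1 from rfl, show (0 : Fin 3) * 1 = 0 from rfl, show (2 : Fin 3) * 1 = 2 from rfl,
              chi_zero, chi_one, chi_two, if_neg (by decide)]
            linear_combination hω
          · rw [show (1 : Fin 3) * 2 = 2 from rfl, show (0 : Fin 3) * 2 = 0 from rfl, show (2 : Fin 3) * 2 = 1 from rfl,
              chi_zero, chi_one, chi_two, if_neg (by decide)]
            linear_combination hω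
        rw [hs, hs]
        by_cases hx : x = x0
        · subst hx; simp; norm_num
        · rw [if_neg hx]
          have : x.1 - x0.1 ≠ 0 ∨ x.2 - x0.2 ≠ 0 := by
            by_contra h1; push Not at h1
            exact hx (Prod.ext (sub_eq_zero.1 h1.1) (sub_eq_zero.1 h1.2))
          rcases this with h1 | h1 <;> rw [if_neg h1] <;> simp
      · rw [Matrix.diagonal_apply_ne _ hxx]
        refine Finset.sum_eq_zero fun y _ => ?_
        rw [show sh ((y.1, 0), (y.2, 0)) = 0 from rfl, add_zero, if_neg (fun e => hxx e.symm), mul_zero]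
    have hPW : ∀ t, P *ᵥ (W9 ω t *ᵥ z) = 0 := fun t => by
      obtain ⟨g, k, hg⟩ := Sall t
      have := congrArg (· *ᵥ z) hg
      simp only [← Matrix.mulVec_mulVec, hPz, Matrix.mulVec_zero, Matrix.smul_mulVec] at this
      exact (smul_eq_zero.1 this.symm).resolve_left (chi_ne_zero hω k)
    have h9 : P *ᵥ (E *ᵥ z) = 0 := by
      rw [hE, Matrix.sum_mulVec, Matrix.mulVec_sum]
      exact Finset.sum_eq_zero fun y _ => by rw [Matrix.smul_mulVec, Matrix.mulVec_smul, hPW, smul_zero]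
    have hEz : E *ᵥ z = Pi.single x0 ((9 : F) * z x0) := by
      funext x
      rw [hEd, Matrix.mulVec_diagonal]
      by_cases hx : x = x0
      · subst hx; simp
      · simp [hx]
    rw [hEz] at h9
    have h90 : (9 : F) ≠ 0 := by have := mul_ne_zero h3 h3; norm_num at this; exact this
    have hfne : f x0 ≠ 0 := fun e => by
      rw [hf] at e
      simp only at e
      rw [hv, Matrix.mulVec_mulVec] at e
      have hu' : ∀ (g : G) (m : ℕ), IsUnit ((ρ g : M9) ^ m) := fun g m => (ρ g).isUnit.pow m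
      have := Matrix.mulVec_injective_iff_isUnit.2 (((hu' b (x0.1 : ℕ)).mul (hu' d (x0.2 : ℕ))).mul ((hu' b (2 * (α : ℕ))).mul (hu' d (2 * (γ : ℕ)))))
      exact hw (this (e.trans (Matrix.mulVec_zero _).symm))
    by_contra hne
    refine hfne (funext fun y => ?_)
    have := congrFun h9 y
    rw [Matrix.mulVec, dotProduct_single, hP, of_apply] at this
    exact (mul_eq_zero.1 this).resolve_right (mul_ne_zero h90 hne)
  obtain ⟨Q, hQ⟩ : ∃ Q : G9, (Q : M9) = P := ⟨Matrix.GeneralLinearGroup.mkOfDetNeZero P hdet, rfl⟩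
  have conjW : ∀ t, ∃ g : G, ∃ k, ((Q⁻¹ * ρ g * Q : G9) : M9) = chi ω k • W9 ω t := fun t => by
    obtain ⟨g, k, hg⟩ := Sall t
    refine ⟨g, k, ?_⟩
    rw [Units.val_mul, Units.val_mul, hQ, Matrix.mul_assoc, hg, Matrix.mul_smul, ← hQ, ← Matrix.mul_assoc,
      ← Units.val_mul, inv_mul_cancel, Units.val_one, Matrix.one_mul]
  refine ⟨Q, fun y => ⟨?_, fun hy => ?_⟩⟩
  · rintro ⟨g, rfl⟩
    obtain ⟨x, hx⟩ : ∃ x : G9, x = Q⁻¹ * ρ g * Q := ⟨_, rfl⟩
    have hact : Act (W9 ω) (x : M9) id := by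
      intro t
      obtain ⟨g', k, hg'⟩ := conjW t
      obtain ⟨l, hl⟩ := comm g g'
      refine ⟨chi ω l, smul_right_injective M9 (chi_ne_zero hω k) ?_⟩
      show chi ω k • ((x : M9) * W9 ω t) = chi ω k • (chi ω l • (W9 ω (id t) * (x : M9)))
      rw [← Matrix.mul_smul, ← hg', smul_comm, ← Matrix.smul_mul (chi ω k), id, ← hg', hx]
      simp only [Units.val_mul]
      calc ((Q⁻¹ : G9) : M9) * (ρ g : M9) * Q * (((Q⁻¹ : G9) : M9) * (ρ g' : M9) * Q)
          = ((Q⁻¹ : G9) : M9) * ((ρ g : M9) * (ρ g' : M9)) * Q := by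
            simp only [Matrix.mul_assoc]
            rw [← Matrix.mul_assoc (Q : M9), ← Units.val_mul Q, mul_inv_cancel, Units.val_one, Matrix.one_mul]
        _ = chi ω l • (((Q⁻¹ : G9) : M9) * ((ρ g' : M9) * (ρ g : M9)) * Q) := by
            rw [hl, Matrix.mul_smul, Matrix.smul_mul]
        _ = _ := by
            simp only [Matrix.mul_assoc]
            rw [← Matrix.mul_assoc (Q : M9) ((Q⁻¹ : G9) : M9), ← Units.val_mul Q, mul_inv_cancel, Units.val_one,
              Matrix.one_mul]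
    obtain ⟨e, u, -, eu⟩ := H.act_id x.isUnit hact
    have hx3 : x ^ 3 = 1 := by
      have h1 : ρ g ^ 3 = 1 := by rw [← map_pow, hexp, map_one]
      rw [hx, show Q⁻¹ * ρ g * Q = Q⁻¹ * ρ g * (Q⁻¹)⁻¹ by rw [inv_inv], conj_pow, h1, mul_one, mul_inv_cancel]
    have h4 := congrArg Units.val hx3
    rw [Units.val_pow_eq_pow_val, Units.val_one, eu, _root_.smul_pow, W9_cube hω] at h4
    obtain ⟨k, rfl⟩ := exists_chi hω (c := e) (by simpa using congrFun (congrFun h4 0) 0)
    exact ⟨k, u, hx ▸ eu⟩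
  · obtain ⟨k, t, hy⟩ := hy
    obtain ⟨g, l, hg⟩ := conjW t
    obtain ⟨z, hz⟩ := getz (k - l)
    refine ⟨z * g, ?_⟩
    have e : Q⁻¹ * ρ (z * g) * Q = Q⁻¹ * y * Q := by
      refine Units.ext ?_
      rw [hy, show Q⁻¹ * ρ (z * g) * Q = (Q⁻¹ * ρ z * Q) * (Q⁻¹ * ρ g * Q) by rw [map_mul]; group, Units.val_mul,
        hg]
      simp only [Units.val_mul, hz, Matrix.mul_smul, Matrix.smul_mul, Matrix.mul_one]
      rw [← Units.val_mul, inv_mul_cancel, Units.val_one, Matrix.one_mul, smul_smul, ← chi_add hω, add_sub_cancel]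
    exact mul_left_cancel (mul_right_cancel e)

end CfsgLib.NineMax
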