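import Cfsg.Agent.Lib.NineMax.Endgame
import Cfsg.Agent.Lib.NineMax.Std
import Cfsg.Agent.Lib.Classical.ThreeMax.Glue

/-!
The normaliser of an extraspecial group of order `3⁵` is maximal in `SL₉(p)` for `p ≡ 1 (mod 3)`.
-/

set_option autoImplicit false
set_option linter.unusedSectionVars false
set_option maxRecDepth 10000
set_option maxHeartbeats 1000000

namespace CfsgLib.NineMax

open Matrix
open scoped MatrixGroups
open CfsgLib.Classical.ThreeMax (isMaximalIn_of_SL isMaximalIn_conj)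

variable {F : Type*} [Field F] [Fintype F]

local notation "M9" => Matrix (Fin 3 × Fin 3) (Fin 3 × Fin 3) F
local notation "G9" => GL (Fin 3 × Fin 3) F

/-- A transvection does not normalise the twisting group. -/
theorem not_act {ω : F} (hω : ω ^ 2 + ω + 1 = 0) (h3 : (3 : F) ≠ 0) (L : V4 → V4) :
    ¬ Act (W9 ω) (1 + Matrix.single ((0, 0) : V3) ((0, 1) : V3) (1 : F) : M9) L := by
  intro hA
  obtain ⟨c, hc⟩ := hA ((0 : V3), (1, 0))
  obtain ⟨v, hv⟩ : ∃ v, v = L ((0 : V3), (1, 0)) := ⟨_, rfl⟩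
  rw [← hv] at hc
  have hne : ω ≠ 1 := fun e => h3 (by rw [e] at hω; linear_combination hω)
  have hW : ∀ x y : V3, W9 ω ((0 : V3), (1, 0)) x y = if y = x then chi ω x.2 else 0 := fun x y => by
    have k0 : ∀ i : Fin 3, 0 * i = 0 ∧ 1 * i = i ∧ i + 0 = i ∧ 0 + i = i := by decide
    rw [W9_apply hω, show sh ((0 : V3), ((1, 0) : V3)) = 0 from rfl, add_zero]
    simp [ph, (k0 x.1).1, (k0 x.2).2.1]
  have ent : ∀ x y : V3, ((1 + Matrix.single ((0, 0) : V3) ((0, 1) : V3) (1 : F) : M9) * W9 ω ((0 : V3), (1, 0))) x y =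
      c * (W9 ω v * (1 + Matrix.single ((0, 0) : V3) ((0, 1) : V3) (1 : F) : M9)) x y := fun x y => by
    rw [hc]; rfl
  have e1 := ent (0, 0) (0, 0)
  have e2 := ent (0, 0) (0, 1)
  simp [Matrix.mul_add, Matrix.add_mul, hW, chi] at e1 e2
  by_cases hs : sh v = 0
  · rw [W9_apply hω, hs, add_zero, if_pos rfl] at e1
    rw [W9_apply hω, W9_apply hω, hs, add_zero, if_neg (by decide), if_pos rfl, zero_add] at e2
    exact hne (e2.trans e1.symm)
  · rw [W9_apply hω, if_neg (fun e => hs (left_eq_add.1 e)), mul_zero] at e1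
    exact one_ne_zero e1

/-- Class six in dimension nine, linear case. -/
theorem isMaximalIn_extraspecial (hp : ∃ p : ℕ, p.Prime ∧ Fintype.card F = p ∧ p % 3 = 1)
    (R : Subgroup (GL (Fin 9) F)) (hR : Cfsg.Geo.IsLinearSymplecticTypeData 3 R) :
    Cfsg.Geo.IsMaximalIn (Cfsg.Geo.specialLinear (Fin 9) F)
      (Cfsg.Geo.subgroupNormalizer R ⊓ Cfsg.Geo.specialLinear (Fin 9) F) := by
  classical
  obtain ⟨p, hp, hF, hp3⟩ := hp
  have h7 : 7 ≤ p := by
    by_contra hlt
    push Not at hlt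
    interval_cases p <;> simp at hp3 <;> norm_num at hp
  haveI : Fact p.Prime := ⟨hp⟩
  haveI : CharP F p := charP_of_card_eq_prime hF
  have h3 : (3 : F) ≠ 0 := fun e => by
    have := Nat.le_of_dvd (by norm_num) ((CharP.cast_eq_zero_iff F p 3).1 (by exact_mod_cast e))
    omega
  obtain ⟨ω, hω⟩ : ∃ ω : F, ω ^ 2 + ω + 1 = 0 := by
    haveI : Fact (Nat.Prime 3) := ⟨Nat.prime_three⟩
    obtain ⟨u, hu⟩ := exists_prime_orderOf_dvd_card' (G := Fˣ) 3 (by
      rw [Nat.card_eq_fintype_card, Fintype.card_units, hF]; omega)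
    refine ⟨(u : F), ?_⟩
    have h1 : (u : F) ^ 3 = 1 := by rw [← Units.val_pow_eq_pow_val, ← hu, pow_orderOf_eq_one, Units.val_one]
    have h2 : (u : F) - 1 ≠ 0 := fun e => by
      rw [Units.ext (sub_eq_zero.1 e) (v := (1 : Fˣ)), orderOf_one] at hu
      exact absurd hu (by norm_num)
    exact mul_left_cancel₀ h2 (by linear_combination h1)
  haveI : Finite (GL V3 F) := Finite.of_injective _ Units.val_injective
  obtain ⟨e, -⟩ : ∃ e : V3 ≃ Fin 9, True := ⟨finProdFinEquiv, trivial⟩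
  obtain ⟨φ, hφ⟩ : ∃ φ : GL (Fin 9) F ≃* G9, ∀ g, (φ g : M9) = (g : Matrix (Fin 9) (Fin 9) F).submatrix e e :=
    ⟨Units.mapEquiv (Matrix.reindexAlgEquiv F F e.symm).toMulEquiv, fun g => rfl⟩
  have hdet : ∀ g, (φ g : M9).det = (g : Matrix (Fin 9) (Fin 9) F).det := fun g => by
    rw [hφ, Matrix.det_submatrix_equiv_self]
  have H := heis9 hω h3
  -- the data of the group
  have hS := hR.symplecticType
  have hexp : ∀ g : R, g ^ 3 = 1 := fun g => by
    have := Monoid.pow_exponent_eq_one g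
    rwa [hS.exponent_eq, show 3 * Nat.gcd 2 3 = 3 by decide] at this
  have hZ : Nat.card (Subgroup.center R) = 3 := by
    obtain ⟨q, m, -, -, h1 | h1 | h1⟩ := hR.field
    · exact h1.2.2.1
    · exact absurd h1.1 (by norm_num)
    · exact absurd h1.1 (by norm_num)
  obtain ⟨ρ, hρ⟩ : ∃ ρ : R →* G9, ρ = φ.toMonoidHom.comp R.subtype := ⟨_, rfl⟩
  have hρv : ∀ g : R, (ρ g : M9) = ((g : GL (Fin 9) F) : Matrix (Fin 9) (Fin 9) F).submatrix e e := fun g => by
    rw [hρ]; exact hφ _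
  have hρi : Function.Injective ρ := by
    rw [hρ]; exact φ.injective.comp R.subtype_injective
  have scal : ∀ A : M9, (∀ g, A * (ρ g : M9) = (ρ g : M9) * A) → ∃ c : F, A = c • 1 := by
    intro A hA
    obtain ⟨c, hc⟩ := hR.absIrred.2 (A.submatrix e.symm e.symm) (by
      rintro _ ⟨g, hg, rfl⟩
      have := congrArg (fun X : M9 => X.submatrix e.symm e.symm) (hA ⟨g, hg⟩)
      simp only [hρv] at this
      rw [← Matrix.submatrix_mul_equiv A _ e.symm e.symm e.symm,
        ← Matrix.submatrix_mul_equiv _ A e.symm e.symm e.symm, Matrix.submatrix_submatrix,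
        Equiv.self_comp_symm, Matrix.submatrix_id_id] at this
      exact this)
    refine ⟨c, ?_⟩
    have := congrArg (fun X : Matrix (Fin 9) (Fin 9) F => X.submatrix e e) hc
    simpa [Matrix.submatrix_smul, Matrix.submatrix_one_equiv] using this
  have irr : ∀ U : Submodule F (V3 → F), (∀ g, ∀ x ∈ U, (ρ g : M9) *ᵥ x ∈ U) → U = ⊥ ∨ U = ⊤ := by
    intro U hU
    have key := hR.absIrred.1 (U.comap (LinearMap.funLeft F F e)) (by
      rintro _ ⟨g, hg, rfl⟩ _ ⟨x, hx, rfl⟩
      show LinearMap.funLeft F F e _ ∈ U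
      have := hU ⟨g, hg⟩ _ hx
      rw [hρv, show LinearMap.funLeft F F e x = x ∘ e from rfl, Matrix.submatrix_mulVec_equiv] at this
      simpa [LinearMap.funLeft, Function.comp_def, Matrix.toLin'_apply] using this)
    have hsurj : Function.Surjective (LinearMap.funLeft F F e) :=
      LinearMap.funLeft_surjective_of_injective F F e e.injective
    rcases key with k | k
    · exact Or.inl (Submodule.comap_injective_of_surjective hsurj (k.trans
        ((Submodule.comap_bot _).trans (LinearMap.ker_eq_bot.2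
          (LinearMap.funLeft_injective_of_surjective F F e e.surjective))).symm))
    · exact Or.inr (Submodule.comap_injective_of_surjective hsurj (k.trans (Submodule.comap_top _).symm))
  obtain ⟨P, hP⟩ := standard hω h3 hexp hS.cyclic_of_characteristic hZ ρ hρi scal irr
  -- change of coordinates
  obtain ⟨X, hX⟩ : ∃ X : Subgroup (GL (Fin 9) F),
      X = (Subgroup.normalizer (H.grp : Set G9)).comap φ.toMonoidHom := ⟨_, rfl⟩
  have memX : ∀ g, g ∈ X ↔ ∃ L, Act (W9 ω) (φ g : M9) L := fun g => by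
    rw [hX, Subgroup.mem_comap]; exact H.mem_normalizer_iff
  have memR : ∀ x, x ∈ R ↔ P⁻¹ * φ x * P ∈ H.grp := fun x => by
    rw [H.mem_grp, ← hP, MonoidHom.mem_range]
    refine ⟨fun hx => ⟨⟨x, hx⟩, by rw [hρ]; rfl⟩, ?_⟩
    rintro ⟨y, hy⟩
    rw [hρ] at hy
    exact (φ.injective hy : (y : GL (Fin 9) F) = x) ▸ y.2
  refine isMaximalIn_conj (X := X) (φ.symm P) (fun g => ?_) ?_
  · rw [hX, Subgroup.mem_comap, Cfsg.Geo.subgroupNormalizer, Subgroup.mem_normalizer_iff,
      Subgroup.mem_normalizer_iff]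
    show _ ↔ ∀ y, y ∈ H.grp ↔ φ ((φ.symm P)⁻¹ * g * φ.symm P) * y * (φ ((φ.symm P)⁻¹ * g * φ.symm P))⁻¹ ∈ H.grp
    simp only [map_mul, map_inv, MulEquiv.apply_symm_apply]
    constructor
    · intro h y
      have := h (φ.symm (P * y * P⁻¹))
      rw [memR, memR, map_mul φ, map_mul φ, map_inv, MulEquiv.apply_symm_apply,
        show P⁻¹ * (P * y * P⁻¹) * P = y by group] at this
      rw [this]
      refine Iff.of_eq (congrArg (· ∈ H.grp) ?_)
      group
    · intro h x
      have := h (P⁻¹ * φ x * P)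
      rw [memR, memR, map_mul φ, map_mul φ, map_inv, this]
      refine Iff.of_eq (congrArg (· ∈ H.grp) ?_)
      group
  refine isMaximalIn_of_SL ?_ fun M hM => ?_
  · obtain ⟨s, hs⟩ : ∃ s : SpecialLinearGroup (Fin 9) F, (s : Matrix (Fin 9) (Fin 9) F) =
        (1 + Matrix.single ((0, 0) : V3) ((0, 1) : V3) (1 : F) : M9).submatrix e.symm e.symm :=
      ⟨⟨(1 + Matrix.single ((0, 0) : V3) ((0, 1) : V3) (1 : F) : M9).submatrix e.symm e.symm,
        (Matrix.det_submatrix_equiv_self e.symm _).trans (Matrix.det_transvection_of_ne _ _ (by decide) 1)⟩, rfl⟩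
    refine ⟨s, fun hsX => ?_⟩
    obtain ⟨L, hL⟩ := (memX _).1 hsX
    rw [hφ] at hL
    refine not_act hω h3 L ?_
    have e1 : ((s : GL (Fin 9) F) : Matrix (Fin 9) (Fin 9) F) = (s : Matrix (Fin 9) (Fin 9) F) := rfl
    rwa [e1, hs, Matrix.submatrix_submatrix, Equiv.symm_comp_self, Matrix.submatrix_id_id] at hL
  by_cases hMtop : M = ⊤
  · exact Or.inl hMtop
  obtain ⟨M', hM'⟩ : ∃ M' : Subgroup G9,
      M' = (M.map SpecialLinearGroup.toGL).map φ.toMonoidHom := ⟨_, rfl⟩
  have hmemM : ∀ s ∈ M, φ (s : GL (Fin 9) F) ∈ M' := fun s hs => hM' ▸ ⟨_, ⟨s, hs, rfl⟩, rfl⟩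
  have toS : ∀ g : G9, (g : M9).det = 1 → ∃ s : SpecialLinearGroup (Fin 9) F, φ (s : GL (Fin 9) F) = g := by
    intro g hg
    have hd : ((φ.symm g : GL (Fin 9) F) : Matrix (Fin 9) (Fin 9) F).det = 1 := by
      rw [← hdet, MulEquiv.apply_symm_apply, hg]
    exact ⟨⟨_, hd⟩, φ.eq_symm_apply.1 (Units.ext rfl)⟩
  have hSetup : Setup p ω M' :=
    { prime := hp
      card := hF
      seven := h7
      om := hω
      det := by
        intro g hg
        rw [hM'] at hg
        obtain ⟨_, ⟨s, -, rfl⟩, rfl⟩ := hg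
        show (φ (s : GL (Fin 9) F) : M9).det = 1
        rw [hdet]; exact s.2
      le := fun g hg hL => by
        obtain ⟨s, rfl⟩ := toS g hg
        exact hmemM s (hM s ((memX _).2 hL))
      ntop := fun hall => hMtop (by
        refine eq_top_iff.2 fun s _ => ?_
        have h1 := hall (φ (s : GL (Fin 9) F)) (by rw [hdet]; exact s.2)
        rw [hM'] at h1
        obtain ⟨_, ⟨t, ht, rfl⟩, h2⟩ := h1
        exact Matrix.SpecialLinearGroup.toGL_injective (φ.injective h2) ▸ ht) }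
  exact Or.inr fun s hs => (memX _).2 (hSetup.all_act (hmemM s hs))

end CfsgLib.NineMax
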