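import Cfsg.Agent.Lib.NineMax.PlaneEmb
import Cfsg.Agent.Lib.HessianMax.Std

/-!
The two reflections on the plane, and moving a nilpotent line of the plane to the standard one.
-/

set_option autoImplicit false
set_option linter.unusedSectionVars false
set_option maxRecDepth 10000
set_option maxHeartbeats 1000000

namespace CfsgLib.NineMax

open Matrix
open CfsgLib.HessianMax (gm tm Dm)

variable {F : Type*} [Field F] [Fintype F]

local notation "M2" => Matrix (Fin 2) (Fin 2) F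
local notation "M3" => Matrix (Fin 3) (Fin 3) F
local notation "M9" => Matrix (Fin 3 × Fin 3) (Fin 3 × Fin 3) F

theorem R0_eq {ω e : F} (hω : ω ^ 2 + ω + 1 = 0) (h3 : (3 : F) ≠ 0) (he : 3 * e = ω - 1) :
    gm ω * Dm ω * (gm ω * tm) = (1 : M3) + e • Matrix.of fun _ _ => (1 : F) := by
  have hd := CfsgLib.HessianMax.delta_ne hω h3
  have e2 : (!![1, 1, 1; 1, ω, ω ^ 2; 1, ω ^ 2, ω] : M3) * Dm ω * (!![1, 1, 1; 1, ω, ω ^ 2; 1, ω ^ 2, ω] * tm) =
      (-3 : F) • ((1 : M3) + e • Matrix.of fun _ _ => (1 : F)) := by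
    ext i j
    fin_cases i <;> fin_cases j <;> simp [Dm, tm, Matrix.mul_apply, Fin.sum_univ_three] <;> grind
  rw [gm]
  simp only [Matrix.smul_mul, Matrix.mul_smul, smul_smul, e2]
  rw [show (ω - ω ^ 2)⁻¹ * ((ω - ω ^ 2)⁻¹ * (-3 : F)) = 1 by
    rw [← CfsgLib.HessianMax.delta_sq hω, sq (ω - ω ^ 2), ← mul_assoc (ω - ω ^ 2)⁻¹ (ω - ω ^ 2), inv_mul_cancel₀ hd, one_mul,
      inv_mul_cancel₀ hd], one_smul]

theorem nil_entries {N : M2} (h : N * N = 0) (hc : N 1 0 ≠ 0) :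
    N 1 1 = -N 0 0 ∧ N 0 0 ^ 2 + N 0 1 * N 1 0 = 0 := by
  have s00 := congrFun (congrFun h 0) 0
  have s10 := congrFun (congrFun h 1) 0
  simp [Matrix.mul_apply, Fin.sum_univ_two] at s00 s10
  exact ⟨eq_neg_of_add_eq_zero_right ((mul_eq_zero.1 (show N 1 0 * (N 0 0 + N 1 1) = 0 by linear_combination s10)).resolve_left hc),
    by linear_combination s00⟩

theorem std_of_c {N : M2} (h : N * N = 0) (hc : N 1 0 = 0) : N = !![0, N 0 1; 0, 0] := by
  have s00 := congrFun (congrFun h 0) 0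
  have s11 := congrFun (congrFun h 1) 1
  simp [Matrix.mul_apply, Fin.sum_univ_two, hc] at s00 s11
  ext i j; fin_cases i <;> fin_cases j <;> simp [hc, s00, s11]

/-- A set of nilpotent lines closed under two conjugations and under its own transvections contains the standard one. -/
theorem std_root {ω e : F} (hω : ω ^ 2 + ω + 1 = 0) (h3 : (3 : F) ≠ 0) (h8 : (8 : F) ≠ 0) (he : 3 * e = ω - 1)
    (L : M2 → Prop) (hr : ∀ N, L N → L (!![ω, e; 0, 1] * N * !![ω ^ 2, -(e * ω ^ 2); 0, 1]))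
    (hs : ∀ N, L N → L (!![1, 0; e, ω] * N * !![1, 0; -(e * ω ^ 2), ω ^ 2]))
    (hc : ∀ N N', L N → L N' → ∀ t : F, L ((1 + t • N') * N * (1 - t • N'))) {N : M2} (hN : L N) (hN0 : N ≠ 0)
    (hsq : ∀ N, L N → N * N = 0) : ∃ n : F, n ≠ 0 ∧ L !![0, n; 0, 0] := by
  have w3 : ω ^ 3 = 1 := CfsgLib.HessianMax.om3 hω
  have hω0 := CfsgLib.HessianMax.om_ne_zero hω
  have fin : ∀ X, L X → X ≠ 0 → X 1 0 = 0 → ∃ n : F, n ≠ 0 ∧ L !![0, n; 0, 0] := fun X hX hX0 h10 => by
    have eX := std_of_c (hsq X hX) h10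
    exact ⟨X 0 1, fun e0 => hX0 (by rw [eX, e0]; ext i j; fin_cases i <;> fin_cases j <;> simp), eX ▸ hX⟩
  by_cases h10 : N 1 0 = 0
  · exact fin N hN hN0 h10
  obtain ⟨h11, hn⟩ := nil_entries (hsq N hN) h10
  have conj0 : ∀ {T Ti N : M2}, Ti * T = 1 → N ≠ 0 → T * N * Ti ≠ 0 := fun {T Ti N} hTi hN0 e0 => hN0 (by
    calc N = Ti * T * N * (Ti * T) := by rw [hTi, Matrix.one_mul, Matrix.mul_one]
      _ = Ti * (T * N * Ti) * T := by simp only [Matrix.mul_assoc]
      _ = 0 := by rw [e0, Matrix.mul_zero, Matrix.zero_mul])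
  obtain ⟨N', hN', hN'0, hD⟩ : ∃ N', L N' ∧ N' ≠ 0 ∧ (N' 1 0 ≠ 0 → N 0 0 * N' 1 0 - N' 0 0 * N 1 0 ≠ 0) := by
    by_cases hk : 3 * N 0 0 + N 1 0 = 0
    · refine ⟨_, hs N hN, conj0 ?_ hN0, ?_⟩
      · ext i j; fin_cases i <;> fin_cases j <;> simp [Matrix.mul_apply, Fin.sum_univ_two] <;> grind
      intro h1 hD
      have hc3 : N 1 0 = -3 * N 0 0 := by linear_combination hk
      have ha : N 0 0 ≠ 0 := fun e0 => h10 (by rw [hc3, e0, mul_zero])
      have hb : 3 * N 0 1 = N 0 0 := by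
        rw [hc3] at hn
        exact mul_left_cancel₀ ha (by linear_combination -hn)
      simp [Matrix.mul_apply, Matrix.vecMul, Matrix.mulVec, dotProduct, Fin.sum_univ_two, h11, hc3] at h1 hD
      obtain ⟨u, hu⟩ : ∃ u, u = 3 * ω - 2 := ⟨_, rfl⟩
      have ee : e = (ω - 1) / 3 := by field_simp; linear_combination he
      have eb : N 0 1 = N 0 0 / 3 := by field_simp; linear_combination hb
      have hu0 : (8 : F) * (N 0 0 * N 0 0) * u = 0 := by
        rw [eb, ee] at hD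
        field_simp at hD
        refine mul_left_cancel₀ h3 ?_
        rw [hu]
        linear_combination -hD + 8 * (N 0 0) ^ 2 * (ω ^ 2 - 3 * ω + 3) * hω
      have hu1 : u = 0 := (mul_eq_zero.1 hu0).resolve_left (mul_ne_zero h8 (mul_ne_zero ha ha))
      have h19 : (19 : F) = 0 := by linear_combination 9 * hω - (3 * ω + 5) * (hu.symm.trans hu1)
      have h81 : (81 : F) ≠ 0 := by
        have := mul_ne_zero (mul_ne_zero h3 h3) (mul_ne_zero h3 h3); norm_num at this; exact this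
      apply h1
      refine (mul_eq_zero.1 ?_).resolve_left h81
      clear * - he hb h19 hu hu1 hω
      grind
    · refine ⟨_, hr N hN, conj0 ?_ hN0, ?_⟩
      · ext i j; fin_cases i <;> fin_cases j <;> simp [Matrix.mul_apply, Fin.sum_univ_two] <;> grind
      intro h1 hD
      simp [Matrix.mul_apply, Matrix.vecMul, Matrix.mulVec, dotProduct, Fin.sum_univ_two, h11] at h1 hD
      have hne : ω ≠ 1 := CfsgLib.HessianMax.om_ne_one hω h3
      have h1' : N 0 0 - (ω * N 0 0 + e * N 1 0) = 0 :=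
        (mul_eq_zero.1 (show (N 1 0 * ω ^ 2) * (N 0 0 - (ω * N 0 0 + e * N 1 0)) = 0 by linear_combination hD)).resolve_left
          (mul_ne_zero h10 (pow_ne_zero 2 hω0))
      exact hk ((mul_eq_zero.1 (show (1 - ω) * (3 * N 0 0 + N 1 0) = 0 by
        linear_combination 3 * h1' + N 1 0 * he)).resolve_left (sub_ne_zero.2 (Ne.symm hne)))
  by_cases h10' : N' 1 0 = 0
  · exact fin N' hN' hN'0 h10'
  obtain ⟨h11', hn'⟩ := nil_entries (hsq N' hN') h10'
  obtain ⟨s, hs'⟩ : ∃ s, s = -(N 1 0) / (N 0 0 * N' 1 0 - N' 0 0 * N 1 0) := ⟨_, rfl⟩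
  have eN : N = !![N 0 0, N 0 1; N 1 0, -N 0 0] := by ext i j; fin_cases i <;> fin_cases j <;> simp [h11]
  have eN' : N' = !![N' 0 0, N' 0 1; N' 1 0, -N' 0 0] := by ext i j; fin_cases i <;> fin_cases j <;> simp [h11']
  refine fin _ (hc N N' hN hN' s) ?_ ?_
  · refine conj0 ?_ hN0
    simp [Matrix.sub_mul, Matrix.mul_add, hsq N' hN']
  · rw [eN, eN', hs']
    exact clean hn hn' h10 h10' (hD h10')

end CfsgLib.NineMax
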