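import Cfsg.Agent.Lib.NineMax.PlaneGen
import Cfsg.Agent.Lib.NineMax.PlaneMat
import Cfsg.Agent.Lib.NineMax.Dickson

/-!
Exotic blocks are impossible: they lead to a transvection commuting with the first phase matrix.
-/

set_option autoImplicit false
set_option linter.unusedSectionVars false
set_option maxRecDepth 10000
set_option maxHeartbeats 1000000

namespace CfsgLib.NineMax

open Matrix
open scoped Kronecker MatrixGroups
open CfsgLib.HessianMax (gm tm Dm Xm)

variable {F : Type*} [Field F] [Fintype F]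

local notation "M2" => Matrix (Fin 2) (Fin 2) F
local notation "M3" => Matrix (Fin 3) (Fin 3) F
local notation "M9" => Matrix (Fin 3 × Fin 3) (Fin 3 × Fin 3) F

namespace Setup

variable {p : ℕ} {ω : F} {M : Subgroup (GL (Fin 3 × Fin 3) F)} (h : Setup p ω M)
include h

/-- The standard root of the plane leads to a transvection in one block. -/
theorem false_of_root {n : F} (hn0 : n ≠ 0) (hn : ∀ t : F, In M (emb (1 + t • !![0, n; 0, 0]))) : False := by
  have hω := h.om
  have h3 := h.three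
  have h2 : (2 : F) ≠ 0 := by
    have := h.natCast_ne (m := 2) (by norm_num) (by have := h.seven; omega); exact_mod_cast this
  have h8 : (8 : F) ≠ 0 := by
    have := mul_ne_zero h2 (mul_ne_zero h2 h2); norm_num at this; exact this
  -- transvections centred on the first row
  obtain ⟨av, hav⟩ : ∃ av : V3 → F, av = fun y => if y.1 = 0 then 1 else 0 := ⟨_, rfl⟩
  let Fl : (V3 → F) → Prop := fun f => f ⬝ᵥ av = 0 ∧ ∀ t : F, In M (1 + t • vecMulVec av f)
  have fadd : ∀ f g, Fl f → Fl g → Fl (f + g) := by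
    rintro f g ⟨f0, hf⟩ ⟨g0, hg⟩
    refine ⟨by rw [add_dotProduct, f0, g0, add_zero], fun t => ?_⟩
    convert in_mul (hf t) (hg t) using 1
    rw [Matrix.add_mul, Matrix.mul_add, Matrix.mul_add, Matrix.one_mul, Matrix.one_mul, Matrix.mul_one,
      Matrix.smul_mul, Matrix.mul_smul, vecMulVec_mul_vecMulVec, f0, zero_smul, vecMulVec_zero, smul_zero, smul_zero,
      add_zero, vecMulVec_add, smul_add]
    abel
  have fsmul : ∀ (c : F) f, Fl f → Fl (c • f) := by
    rintro c f ⟨f0, hf⟩
    refine ⟨by rw [smul_dotProduct, f0, smul_zero], fun t => ?_⟩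
    rw [vecMulVec_smul, smul_smul]
    exact hf _
  have base : ∀ m0 m1 : Fin 3, Fl fun y => 3 * (if y.2 - (m0 + y.1 * m1) = 0 then 1 else 0) - av y := by
    intro m0 m1
    refine ⟨?_, fun t => ?_⟩
    · subst hav
      fin_cases m0 <;> fin_cases m1 <;>
        simp [dotProduct, Fintype.sum_prod_type, Fin.sum_univ_three] <;> ring
    have h1 := hn (8 * t / n)
    have e1 : emb (1 + (8 * t / n) • !![0, n; 0, 0]) =
        1 + t • vecMulVec av (fun y => 3 * (if y.2 = 0 then 1 else 0) - av y) := by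
      subst hav
      ext x y
      simp only [emb, add_sub_cancel_left, Matrix.add_apply, Matrix.smul_apply, vecMulVec_apply,
        Matrix.mul_apply, Fin.sum_univ_two]
      congr 1
      simp [Em, Dd]
      field_simp
    rw [e1] at h1
    have hP : In M (bd fun i => W3 ω (0 + i * 0, m0 + i * m1)) := by
      simpa [chi_zero] using h.in_AP (0, m0) (0, m1) 0
    have hP' : In M (bd fun i => W3 ω (0, -(m0 + i * m1))) := h.in_bd_inv hP fun i => by
      rw [W3_mul hω, show (m0 + i * m1) * (0 : Fin 3) = 0 by rw [(fin3_law _ 0 0).2.2.2.2.1, (fin3_law _ 0 0).2.2.1],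
        chi_zero, one_smul]
      have hz : ∀ i a : Fin 3, (((0 : Fin 3) + i * 0, a) : V3) + (0, -a) = 0 := by decide
      rw [hz]; exact W3_zero
    have := in_mul (in_mul hP' h1) hP
    rw [Matrix.mul_add, Matrix.mul_one, Matrix.add_mul, Matrix.mul_smul, Matrix.smul_mul] at this
    convert this using 1
    rw [bd_mul, mul_vecMulVec, vecMulVec_mul]
    have ez : ∀ i : Fin 3, W3 ω ((0, -(m0 + i * m1)) : V3) * W3 ω (0 + i * 0, m0 + i * m1) = 1 := fun i => by
      rw [W3_mul hω]
      have hz : ∀ i a : Fin 3, (-a) * ((0 : Fin 3) + i * 0) = 0 ∧ ((0, -a) : V3) + ((0 : Fin 3) + i * 0, a) = 0 := by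
        decide
      rw [(hz i _).1, (hz i _).2, chi_zero, one_smul]; exact W3_zero
    simp only [ez, bd_one]
    have k0 : ∀ i m : Fin 3, (0 : Fin 3) + i * 0 = 0 := by decide
    congr 2
    congr 1
    · funext x
      subst hav
      rw [mulVec, dotProduct, Fintype.sum_prod_type, Finset.sum_eq_single x.1]
      · rw [Finset.sum_eq_single (x.2 + -(m0 + x.1 * m1))]
        · simp [bd, W3_apply, chi_zero, (fin3_law x.2 0 0).2.2.1]
        · intro z _ hz
          simp only [bd, Matrix.of_apply, if_true]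
          rw [W3_apply, if_neg hz, zero_mul]
        · simp
      · intro z _ hz; simp [bd, Ne.symm hz]
      · simp
    · funext y
      rw [vecMul, dotProduct, Fintype.sum_prod_type, Finset.sum_eq_single y.1]
      · rw [Finset.sum_eq_single (y.2 - (m0 + y.1 * m1))]
        · simp [bd, W3_apply, k0, chi_zero, (fin3_law (y.2 - (m0 + y.1 * m1)) 0 0).2.2.1, hav]
        · intro z _ hz
          have h0 : W3 ω ((0 + y.1 * 0, m0 + y.1 * m1) : V3) z y.2 = 0 := by
            rw [W3_apply, if_neg (fun e : y.2 = z + (m0 + y.1 * m1) => hz (eq_sub_of_add_eq e.symm))]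
          simp only [bd, Matrix.of_apply, if_true, h0]
          exact mul_zero _
        · simp
      · intro z _ hz; simp [bd, hz]
      · simp
  -- a transvection inside one block
  obtain ⟨f, hf⟩ : ∃ f : V3 → F, f = fun y => if y = (0, 0) then 1 else if y = (0, 1) then -1 else 0 := ⟨_, rfl⟩
  have hFl : Fl f := by
    have := fsmul (9 : F)⁻¹ _ (fadd _ _ (fadd _ _ (fadd _ _ (base 0 0) (fsmul (-1) _ (base 1 0)))
      (fadd _ _ (base 0 1) (fsmul (-1) _ (base 1 1)))) (fadd _ _ (base 0 2) (fsmul (-1) _ (base 1 2))))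
    convert this using 1
    subst hf hav
    funext y
    have h9 : (9 : F) ≠ 0 := by have := mul_ne_zero h3 h3; norm_num at this; exact this
    obtain ⟨i, j⟩ := y
    fin_cases i <;> fin_cases j <;> simp <;> field_simp <;> ring
  obtain ⟨T, hT⟩ : ∃ T : M3, T = 1 + vecMulVec (fun _ => (1 : F)) ![1, -1, 0] := ⟨_, rfl⟩
  have hTin : In M (bd ![T, 1, 1]) := by
    convert hFl.2 1 using 1
    subst hav hf hT
    ext ⟨i, a⟩ ⟨j, b⟩
    fin_cases i <;> fin_cases a <;> fin_cases j <;> fin_cases b <;>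
      simp [bd, vecMulVec, Matrix.one_apply, one_add_one_eq_two]
  obtain ⟨L, hL⟩ := h.small hTin 0
  obtain ⟨c, hc⟩ := hL (1, 0)
  have hT' : (![T, 1, 1] : Fin 3 → M3) 0 = !![2, -1, 0; 1, 0, 0; 1, -1, 1] := by
    subst hT
    ext i j
    fin_cases i <;> fin_cases j <;> simp [vecMulVec, Matrix.one_apply, one_add_one_eq_two]
  rw [hT', W3_one_zero, W3_eq hω] at hc
  obtain ⟨⟨v1, v2⟩, hv⟩ : ∃ v, v = L ((1, 0) : V3) := ⟨_, rfl⟩
  rw [← hv] at hc
  have e00 := congrFun (congrFun hc 0) 0
  have e01 := congrFun (congrFun hc 0) 1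
  have e10 := congrFun (congrFun hc 1) 0
  have e11 := congrFun (congrFun hc 1) 1
  have e12 := congrFun (congrFun hc 1) 2
  have e02 := congrFun (congrFun hc 0) 2
  have hne : ω ≠ 1 := CfsgLib.HessianMax.om_ne_one hω h3
  fin_cases v1 <;> fin_cases v2 <;>
    simp [Xm, CfsgLib.HessianMax.Ym, pow_succ, Matrix.mul_apply, Fin.sum_univ_three] at e00 e01 e10 e11 e12 e02 <;>
    grind

/-- No exotic block. -/
theorem noU : ¬ HasU M ω := by
  intro hU
  have hω := h.om
  have h3 := h.three
  haveI : Fact p.Prime := ⟨h.prime⟩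
  haveI := h.charP
  have w3 : ω ^ 3 = 1 := CfsgLib.HessianMax.om3 hω
  have hne : ω ≠ 1 := CfsgLib.HessianMax.om_ne_one hω h3
  have h2 : (2 : F) ≠ 0 := by
    have := h.natCast_ne (m := 2) (by norm_num) (by have := h.seven; omega); exact_mod_cast this
  have h8 : (8 : F) ≠ 0 := by
    have := mul_ne_zero h2 (mul_ne_zero h2 h2); norm_num at this; exact this
  have hb := fun d hd => h.in_blocks_of_U hU d hd
  obtain ⟨e, he⟩ : ∃ e : F, e = (ω - 1) / 3 := ⟨_, rfl⟩
  have e3 : 3 * e = ω - 1 := by rw [he]; field_simp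
  set rM : M2 := !![ω, e; 0, 1] with hrM
  set sM : M2 := !![1, 0; e, ω] with hsM
  have hgr := h.g_r_mem hb
  have R0 := R0_eq (e := e) hω h3 e3
  have gr : In M (emb rM * sgi ω) := by
    convert hgr using 1
    rw [R0, sgi, ← emb_r (ω := ω) h3 h8 e3, bd_mul]
    congr 1
    funext i; fin_cases i <;> simp
  have gs : In M (emb sM * sgi ω) := by
    convert h.in_sw hgr using 1
    rw [R0, hsM, ← sw_emb_r, ← sw_sgi ω, ← sw_mul, ← emb_r (ω := ω) h3 h8 e3, sgi, bd_mul]
    congr 2
    funext i; fin_cases i <;> simp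
  -- the group on the plane
  let Q : M2 → Prop := fun A => ∃ c : F, ∃ k : ℕ, c ^ 3 = 1 ∧ In M (emb (c • A) * sgi ω ^ k)
  have comm_k : ∀ (A : M2) (k : ℕ), sgi ω ^ k * emb A = emb A * sgi ω ^ k := fun A k =>
    (Commute.pow_left (show Commute (sgi ω) (emb A) from sgi_comm ω A) k).eq
  have qmul : ∀ A B, Q A → Q B → Q (A * B) := by
    rintro A B ⟨c, k, hc, hA⟩ ⟨c', k', hc', hB⟩
    refine ⟨c * c', k + k', by rw [mul_pow, hc, hc', one_mul], ?_⟩
    have := in_mul hA hB
    rwa [Matrix.mul_assoc, ← Matrix.mul_assoc (sgi ω ^ k), comm_k, Matrix.mul_assoc, ← pow_add, ← Matrix.mul_assoc,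
      emb_mul h8, Matrix.smul_mul, Matrix.mul_smul, smul_smul] at this
  obtain ⟨d, hd⟩ : ∃ d : F, d = ω * e := ⟨_, rfl⟩
  have hd3 : 3 * d = ω ^ 2 - ω := by rw [hd]; linear_combination ω * e3
  obtain ⟨R, hR⟩ : ∃ R : SL(2, F), (R : M2) = !![ω ^ 2, d; 0, ω] :=
    ⟨⟨!![ω ^ 2, d; 0, ω], by simp [det_fin_two]; linear_combination w3⟩, rfl⟩
  obtain ⟨S, hS⟩ : ∃ S : SL(2, F), (S : M2) = !![ω, 0; d, ω ^ 2] :=
    ⟨⟨!![ω, 0; d, ω ^ 2], by simp [det_fin_two]; linear_combination w3⟩, rfl⟩
  have qR : Q (R : M2) := ⟨ω ^ 2, 1, by rw [← pow_mul, mul_comm, pow_mul, w3, one_pow], by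
    convert gr using 1
    rw [pow_one, hR, hrM]
    congr 2
    ext i j; fin_cases i <;> fin_cases j <;> simp [hd] <;> grind⟩
  have qS : Q (S : M2) := ⟨ω ^ 2, 1, by rw [← pow_mul, mul_comm, pow_mul, w3, one_pow], by
    convert gs using 1
    rw [pow_one, hS, hsM]
    congr 2
    ext i j; fin_cases i <;> fin_cases j <;> simp [hd] <;> grind⟩
  obtain ⟨u, hu, hu1, hu2⟩ := exists_unip (p := p) h.card h.seven (by
    have h31 : (ω : F) ^ 3 = 1 := w3
    have ho : orderOf ω = 3 := orderOf_eq_prime h31 hne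
    have hω0 : ω ≠ 0 := fun e => by simp [e] at hω
    have := orderOf_dvd_of_pow_eq_one (FiniteField.pow_card_sub_one_eq_one ω hω0)
    rw [ho, h.card] at this
    have := h.seven
    omega) hω hd3 hR hS
  have qu : Q (u : M2) := by
    clear hu1 hu2
    induction hu using Subgroup.closure_induction with
    | mem z hz =>
      rcases hz with rfl | hz
      · exact qR
      · rw [Set.mem_singleton_iff] at hz; subst hz; exact qS
    | one => exact ⟨1, 0, one_pow 3, by rw [Matrix.SpecialLinearGroup.coe_one, one_smul, emb_one, pow_zero, Matrix.one_mul]; exact in_one⟩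
    | mul a b _ _ ha hb => rw [Matrix.SpecialLinearGroup.coe_mul]; exact qmul _ _ ha hb
    | inv a _ ha =>
      obtain ⟨c, k, hc, hA⟩ := ha
      refine ⟨c⁻¹, 2 * k, by rw [inv_pow, hc, inv_one], in_inv hA ?_⟩
      have hc0 : c ≠ 0 := fun e0 => by simp [e0] at hc
      rw [Matrix.mul_assoc, ← Matrix.mul_assoc (sgi ω ^ k), comm_k, Matrix.mul_assoc, ← pow_add, ← Matrix.mul_assoc,
        emb_mul h8, Matrix.smul_mul, Matrix.mul_smul, smul_smul, mul_inv_cancel₀ hc0, one_smul,
        ← Matrix.SpecialLinearGroup.coe_mul, mul_inv_cancel, Matrix.SpecialLinearGroup.coe_one, emb_one,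
        show k + 2 * k = 3 * k by ring, pow_mul, sgi_cube hω, one_pow, Matrix.one_mul]
  obtain ⟨N, hN⟩ : ∃ N : M2, N = (u : M2) - 1 := ⟨_, rfl⟩
  rw [← hN] at hu2
  have hN0 : N ≠ 0 := fun e0 => hu1 (sub_eq_zero.1 (hN ▸ e0))
  have line : ∀ {N : M2}, N * N = 0 → In M (emb (1 + N)) → ∀ t : F, In M (emb (1 + t • N)) := by
    intro N hN2 h1 t
    obtain ⟨m, rfl⟩ := h.exists_natCast t
    induction m with
    | zero => rw [Nat.cast_zero, zero_smul, add_zero, emb_one]; exact in_one
    | succ m ih =>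
      have := in_mul ih h1
      rw [emb_mul h8] at this
      convert this using 2
      simp [Matrix.add_mul, Matrix.mul_add, hN2, add_smul]
      abel
  have hall : ∀ t : F, In M (emb (1 + t • N)) := by
    intro t
    obtain ⟨c, k, hc, hA⟩ := qu
    have hcube : (emb (c • (u : M2)) * sgi ω ^ k) ^ 3 = emb (1 + (3 : F) • N) := by
      have cm : Commute (emb (c • (u : M2))) (sgi ω ^ k) := (comm_k _ k).symm
      rw [cm.mul_pow, ← pow_mul, mul_comm k, pow_mul, sgi_cube hω, one_pow, Matrix.mul_one, pow_succ, pow_two,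
        emb_mul h8, emb_mul h8]
      congr 1
      simp only [Matrix.smul_mul, Matrix.mul_smul, smul_smul]
      rw [show c * (c * c) = 1 by rw [← hc]; ring, one_smul, show (u : M2) = 1 + N by rw [hN]; abel]
      simp only [Matrix.add_mul, Matrix.mul_add, Matrix.one_mul, Matrix.mul_one, hu2, Matrix.zero_mul, add_zero]
      module
    have h3' := line (N := (3 : F) • N) (by rw [Matrix.smul_mul, Matrix.mul_smul, hu2, smul_zero, smul_zero])
      (hcube ▸ in_pow hA 3) (t / 3)
    rwa [smul_smul, div_mul_cancel₀ t h3] at h3'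
  have conjr : ∀ {T Ti : M2}, T * Ti = 1 → In M (emb T * sgi ω) → ∀ {N : M2}, In M (emb (1 + N)) →
      In M (emb (1 + T * N * Ti)) := by
    intro T Ti hT hg N hX
    have hgi : In M (emb Ti * sgi ω ^ 2) := in_inv hg (by
      rw [Matrix.mul_assoc, ← Matrix.mul_assoc (sgi ω), sgi_comm, Matrix.mul_assoc, ← pow_succ',
        sgi_cube hω, Matrix.mul_one, emb_mul h8, hT, emb_one])
    have := in_mul (in_mul hg hX) hgi
    have e : ∀ A B C : M2, emb A * sgi ω * emb B * (emb C * sgi ω ^ 2) = emb (A * B * C) := fun A B C => by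
      calc _ = emb A * (sgi ω * emb B) * emb C * sgi ω ^ 2 := by simp only [Matrix.mul_assoc]
        _ = emb A * emb B * (sgi ω * emb C) * sgi ω ^ 2 := by rw [sgi_comm]; simp only [Matrix.mul_assoc]
        _ = emb A * emb B * emb C * (sgi ω * sgi ω ^ 2) := by rw [sgi_comm]; simp only [Matrix.mul_assoc]
        _ = _ := by rw [← pow_succ', sgi_cube hω, Matrix.mul_one, emb_mul h8, emb_mul h8]
    rw [e, Matrix.mul_add, Matrix.add_mul, Matrix.mul_one, hT] at this
    exact this
  -- the standard root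
  obtain ⟨n, hn0, hn⟩ : ∃ n : F, n ≠ 0 ∧ ∀ t : F, In M (emb (1 + t • !![0, n; 0, 0])) := by
    obtain ⟨n, hn0, -, hn⟩ := std_root hω h3 h8 e3 (fun X => X * X = 0 ∧ ∀ t : F, In M (emb (1 + t • X)))
      (fun X hX => ⟨conj_sq (by ext i j; fin_cases i <;> fin_cases j <;> simp [Matrix.mul_apply, Fin.sum_univ_two] <;> grind) hX.1,
        fun t => by
          have := conjr (T := rM) (Ti := !![ω ^ 2, -(e * ω ^ 2); 0, 1]) (by
            ext i j; fin_cases i <;> fin_cases j <;> simp [hrM, Matrix.mul_apply, Fin.sum_univ_two] <;> grind) gr (hX.2 t)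
          rw [hrM, Matrix.mul_smul, Matrix.smul_mul] at this
          exact this⟩)
      (fun X hX => ⟨conj_sq (by ext i j; fin_cases i <;> fin_cases j <;> simp [Matrix.mul_apply, Fin.sum_univ_two] <;> grind) hX.1,
        fun t => by
          have := conjr (T := sM) (Ti := !![1, 0; -(e * ω ^ 2), ω ^ 2]) (by
            ext i j; fin_cases i <;> fin_cases j <;> simp [hsM, Matrix.mul_apply, Fin.sum_univ_two] <;> grind) gs (hX.2 t)
          rw [hsM, Matrix.mul_smul, Matrix.smul_mul] at this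
          exact this⟩)
      (fun X Y hX hY s => ⟨conj_sq (by simp [Matrix.sub_mul, Matrix.mul_add, hY.1]) hX.1, fun t => by
        have h1 := in_mul (in_mul (hY.2 s) (hX.2 t)) (hY.2 (-s))
        rw [emb_mul h8, emb_mul h8] at h1
        convert h1 using 2
        simp [Matrix.mul_add, Matrix.add_mul, Matrix.mul_smul, Matrix.smul_mul, Matrix.mul_sub, hY.1, smul_sub]
        module⟩)
      (N := N) ⟨hu2, hall⟩ hN0 (fun X hX => hX.1)
    exact ⟨n, hn0, hn⟩
  exact h.false_of_root hn0 hn


/-- Block diagonal elements normalise the Heisenberg group. -/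
theorem bd_act {d : Fin 3 → M3} (hd : In M (bd d)) : ∃ L, Act (W9 ω) (bd d) L :=
  h.bd_act_of_noU h.noU hd

end Setup

end CfsgLib.NineMax
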