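import Cfsg.Agent.Lib.NineMax.Setup

/-!
Matrices supported on the plane of a row and a column.
-/

set_option autoImplicit false
set_option linter.unusedSectionVars false
set_option maxRecDepth 10000
set_option maxHeartbeats 1000000

namespace CfsgLib.NineMax

open Matrix
open scoped Kronecker MatrixGroups
open CfsgLib.HessianMax (gm tm Dm Xm)

variable {F : Type*} [Field F] [Fintype F]

local notation "M2" => Matrix (Fin 2) (Fin 2) F
local notation "M3" => Matrix (Fin 3) (Fin 3) F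
local notation "M9" => Matrix (Fin 3 × Fin 3) (Fin 3 × Fin 3) F

/-- `diag(1, 1, c)`. -/
def D22 (c : F) : M3 := Matrix.diagonal ![1, 1, c]

/-- The indicators of the first row and of the first column. -/
def Em (F : Type*) [Field F] : Matrix (Fin 3 × Fin 3) (Fin 2) F :=
  of fun y l => ![(if y.1 = 0 then 1 else 0 : F), if y.2 = 0 then 1 else 0] l

/-- Coordinates on the plane of the two indicators. -/
def Dd (F : Type*) [Field F] : Matrix (Fin 2) (Fin 3 × Fin 3) F :=
  of fun l y => ![(3 * (Em F) y 0 - (Em F) y 1) / 8, (3 * (Em F) y 1 - (Em F) y 0) / 8] l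

/-- A matrix on the plane, extended by the identity. -/
def emb (A : M2) : M9 := 1 + (Em F) * (A - 1) * (Dd F)

/-- The correcting reflection outside the plane. -/
def sgi (ω : F) : M9 := bd ![1, 1, D22 (ω ^ 2)]

theorem Dd_Em (h8 : (8 : F) ≠ 0) : ((Dd F) * (Em F) : M2) = 1 := by
  ext i j
  fin_cases i <;> fin_cases j <;>
    simp [Dd, Em, Matrix.mul_apply, Fintype.sum_prod_type, Fin.sum_univ_three] <;> field_simp <;> ring

theorem emb_mul (h8 : (8 : F) ≠ 0) (A B : M2) : emb A * emb B = emb (A * B) := by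
  have e := Dd_Em h8
  have e2 : (Em F) * (A - 1) * (Dd F) * ((Em F) * (B - 1) * (Dd F)) = (Em F) * ((A - 1) * (B - 1)) * (Dd F) := by
    calc _ = (Em F) * (A - 1) * ((Dd F) * (Em F)) * (B - 1) * (Dd F) := by simp only [Matrix.mul_assoc]
      _ = _ := by rw [e, Matrix.mul_one]; simp only [Matrix.mul_assoc]
  rw [emb, emb, emb, Matrix.add_mul, Matrix.mul_add, Matrix.mul_add, Matrix.one_mul, Matrix.one_mul, Matrix.mul_one, e2,
    show A * B - 1 = (A - 1) + ((B - 1) + (A - 1) * (B - 1)) by simp [Matrix.sub_mul, Matrix.mul_sub]; abel,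
    Matrix.mul_add, Matrix.add_mul, Matrix.mul_add, Matrix.add_mul]
  abel

theorem emb_one : emb (1 : M2) = 1 := by simp [emb]

theorem sgi_Em (ω : F) : sgi ω * (Em F) = (Em F) := by
  ext ⟨i, a⟩ l
  fin_cases i <;> fin_cases a <;> fin_cases l <;>
    simp [sgi, bd, Em, D22, Matrix.mul_apply, Fintype.sum_prod_type, Fin.sum_univ_three, Matrix.diagonal]

theorem Dd_sgi (ω : F) : (Dd F) * sgi ω = (Dd F) := by
  ext l ⟨i, a⟩
  fin_cases i <;> fin_cases a <;> fin_cases l <;>
    simp [sgi, bd, Dd, Em, D22, Matrix.mul_apply, Fintype.sum_prod_type, Fin.sum_univ_three, Matrix.diagonal]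

theorem sgi_comm (ω : F) (A : M2) : sgi ω * emb A = emb A * sgi ω := by
  rw [emb, Matrix.mul_add, Matrix.add_mul, Matrix.mul_one, Matrix.one_mul, ← Matrix.mul_assoc, ← Matrix.mul_assoc,
    sgi_Em, Matrix.mul_assoc ((Em F) * (A - 1)) (Dd F), Dd_sgi]

theorem sgi_cube {ω : F} (hω : ω ^ 2 + ω + 1 = 0) : sgi ω ^ 3 = (1 : M9) := by
  rw [pow_succ, pow_two, sgi, bd_mul, bd_mul, ← bd_one]
  congr 1
  funext i
  fin_cases i <;> simp [D22, Matrix.diagonal_mul_diagonal]
  funext j
  fin_cases j <;> simp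
  linear_combination (ω ^ 4 - ω ^ 3 + ω - 1) * hω

/-- Two different nilpotent lines give the standard one. -/
theorem clean {a b c a' b' c' : F} (hn : a ^ 2 + b * c = 0) (hn' : a' ^ 2 + b' * c' = 0) (hc : c ≠ 0) (hc' : c' ≠ 0)
    (hD : a * c' - a' * c ≠ 0) :
    ((1 + (-c / (a * c' - a' * c)) • !![a', b'; c', -a']) * !![a, b; c, -a] *
      (1 - (-c / (a * c' - a' * c)) • !![a', b'; c', -a'])) 1 0 = 0 := by
  obtain ⟨D, hDd⟩ : ∃ D, D = a * c' - a' * c := ⟨_, rfl⟩
  rw [← hDd] at hD ⊢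
  have eb : b = -a ^ 2 / c := by field_simp; linear_combination hn
  have eb' : b' = -a' ^ 2 / c' := by field_simp; linear_combination hn'
  simp [Matrix.mul_apply, Fin.sum_univ_two, eb, eb']
  field_simp
  rw [hDd]
  ring

theorem conj_sq {T Ti N : M2} (h : Ti * T = 1) (hN : N * N = 0) : T * N * Ti * (T * N * Ti) = 0 := by
  calc _ = T * N * (Ti * T) * N * Ti := by simp only [Matrix.mul_assoc]
    _ = T * (N * N) * Ti := by rw [h, Matrix.mul_one]; simp only [Matrix.mul_assoc]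
    _ = 0 := by rw [hN, Matrix.mul_zero, Matrix.zero_mul]

theorem sw_sgi (ω : F) : sw (sgi ω) = (sgi ω : M9) := by
  ext ⟨i, a⟩ ⟨j, b⟩
  have e : ∀ i a b : Fin 3, (![1, 1, D22 (ω ^ 2)] : Fin 3 → M3) i a b =
      if a = b then (if i = 2 ∧ a = 2 then ω ^ 2 else 1) else 0 := by
    intro i a b
    fin_cases i <;> fin_cases a <;> fin_cases b <;> simp [D22, Matrix.diagonal]
  simp only [sw, sgi, bd, Matrix.submatrix_apply, Matrix.of_apply, Prod.fst_swap, Prod.snd_swap, e]
  by_cases h1 : i = j <;> by_cases h2 : a = b <;> simp [h1, h2, and_comm]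

/-- The reflection in the first row. -/
theorem emb_r {ω e : F} (h3 : (3 : F) ≠ 0) (h8 : (8 : F) ≠ 0) (he : 3 * e = ω - 1) :
    bd ![(1 : M3) + e • Matrix.of (fun _ _ => (1 : F)), 1, 1] = (emb !![ω, e; 0, 1] : M9) := by
  have c : ∀ z : V3, (ω - 1) * Dd F 0 z + e * Dd F 1 z = e * Em F z 0 := by
    intro z
    simp only [Dd, Matrix.of_apply, Matrix.cons_val_zero, Matrix.cons_val_one]
    rw [← he]
    field_simp
    ring
  have h : ∀ y z : V3, (Em F * ((!![ω, e; 0, 1] : M2) - 1) * Dd F : M9) y z = Em F y 0 * (e * Em F z 0) := by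
    intro y z
    rw [← c z]
    simp [Matrix.mul_apply, Fin.sum_univ_two]
    ring
  ext ⟨i, a⟩ ⟨j, b⟩
  rw [emb, Matrix.add_apply, h]
  fin_cases i <;> fin_cases j <;> simp [bd, Em, Matrix.one_apply]

theorem sw_emb (A : M2) : sw (emb A) = (emb !![A 1 1, A 1 0; A 0 1, A 0 0] : M9) := by
  ext x y
  simp only [sw, emb, Matrix.submatrix_apply, Matrix.add_apply, Matrix.one_apply, Matrix.mul_apply, Fin.sum_univ_two,
    Prod.swap_inj]
  simp [Em, Dd]
  ring

theorem sw_emb_r (ω e : F) : sw (emb !![ω, e; 0, 1]) = (emb !![1, 0; e, ω] : M9) := by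
  rw [sw_emb]; simp

end CfsgLib.NineMax
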