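import Cfsg.Agent.Lib.NineMax.PlaneEmb
import Cfsg.Agent.Lib.NineMax.Blocks

/-!
A reflection-like element from the Heisenberg blocks.
-/

set_option autoImplicit false
set_option linter.unusedSectionVars false
set_option maxRecDepth 10000
set_option maxHeartbeats 1000000

namespace CfsgLib.NineMax

open Matrix
open scoped Kronecker MatrixGroups
open CfsgLib.HessianMax (gm tm Dm Xm)

variable {F : Type*} [Field F] [Fintype F]

local notation "M2" => Matrix (Fin 2) (Fin 2) F
local notation "M3" => Matrix (Fin 3) (Fin 3) F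
local notation "M9" => Matrix (Fin 3 × Fin 3) (Fin 3 × Fin 3) F

theorem inW_of_id {ω : F} (H3 : Heis ω (W3 ω) sy) {Z : M3} (hZ : Z.det = 1) {L : V3 → V3}
    (hA : Act (W3 ω) Z L) (hL : ∀ v, L v = v) : InW ω (W3 ω) Z := by
  obtain ⟨c, u, -, e⟩ := H3.act_id ((Matrix.isUnit_iff_isUnit_det Z).2 (by rw [hZ]; exact isUnit_one)) (hA.congr hL)
  rw [e, det_smul, W3_det H3.om, mul_one, Fintype.card_fin] at hZ
  obtain ⟨k, rfl⟩ := exists_chi H3.om hZ
  exact ⟨k, u, e⟩

theorem sw_bd_diagonal (d : Fin 3 → Fin 3 → F) :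
    sw (bd fun i => Matrix.diagonal (d i)) = (bd fun a => Matrix.diagonal fun i => d i a : M9) := by
  ext ⟨i, a⟩ ⟨j, b⟩
  by_cases h1 : i = j <;> by_cases h2 : a = b <;> simp [sw, bd, h1, h2]

namespace Setup

variable {p : ℕ} {ω : F} {M : Subgroup (GL (Fin 3 × Fin 3) F)} (h : Setup p ω M)
include h

theorem P0_mem (hb : ∀ d : Fin 3 → M3, (∀ i, InW ω (W3 ω) (d i)) → In M (bd d)) :
    In M (bd ![Dm ω, 1, Dm (ω ^ 2)]) := by
    have hω := h.om
    have H3 := h.heis'
    have := h.in_sw (hb ![chi ω 1 • W3 ω ((2, 0) : V3), 1, 1] (fun i => by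
      fin_cases i
      · exact ⟨1, (2, 0), rfl⟩
      · exact H3.inW_one
      · exact H3.inW_one))
    have e1 : (![chi ω 1 • W3 ω ((2, 0) : V3), 1, 1] : Fin 3 → M3) =
        fun i => Matrix.diagonal (![![ω, 1, ω ^ 2], ![1, 1, 1], ![1, 1, 1]] i) := by
      funext i
      fin_cases i
      · ext a b; fin_cases a <;> fin_cases b <;> simp [W3_apply, chi] <;> grind
      · ext a b; fin_cases a <;> fin_cases b <;> simp
      · ext a b; fin_cases a <;> fin_cases b <;> simp
    rw [e1, sw_bd_diagonal] at this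
    convert this using 2
    funext a
    fin_cases a <;> (ext u v; fin_cases u <;> fin_cases v <;> simp [Dm])

theorem rho_mem (hP0 : In M (bd ![Dm ω, 1, Dm (ω ^ 2)])) : In M (bd ![Dm ω, 1, D22 (ω ^ 2)]) := by
    have hω := h.om
    have hs := h.in_line (0, 2)
    have hs' := h.in_line (0, 1)
    have := in_mul (in_mul hs hP0) hs'
    rw [bd_mul, bd_mul] at this
    convert this using 2
    funext i
    fin_cases i <;>
      (ext a b; fin_cases a <;> fin_cases b <;>
        simp [D22, Dm, W3_apply, chi, Matrix.mul_apply, Fin.sum_univ_three, Matrix.diagonal, Matrix.one_apply])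


omit h in
theorem linZ0 : ∀ v : V3,
    Dl (ev ((2, 2), (2, 1)) (Dl (Dl (ev ((2, 1), (1, 1)) (ev ((2, 2), (2, 1)) v))))) = v := by decide +kernel

omit h in
theorem linZ2 : ∀ v : V3, Dl (ev ((2, 1), (1, 1)) (Dl (Dl (ev ((2, 2), (2, 1)) v)))) = v := by decide +kernel

omit h in
theorem linq : ∀ v : V3, Dl (Jl (Dl (Dl (Jl (Jl (Jl v)))))) = ev ((2, 2), (2, 1)) v := by decide +kernel

omit h in
theorem linx : ∀ v : V3, Dl (Dl (Jl (Dl (Jl (Jl (Jl v)))))) = ev ((2, 1), (1, 1)) v := by decide +kernel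

theorem comb {D Di g gi E : M3} (DDi : D * Di = 1) (DiD : Di * D = 1) (gg : g * gi = 1)
    (hb : ∀ d : Fin 3 → M3, (∀ i, InW ω (W3 ω) (d i)) → In M (bd d)) (P0 : In M (bd ![D, 1, Di]))
    (rho : In M (bd ![D, 1, E])) (hG : In M (bd fun _ => g)) (hD : In M (bd fun _ => D))
    (i0 : InW ω (W3 ω) (D * (D * g * Di * gi) * Di * (Di * g * D * gi) * (D * g * Di * gi)))
    (i2 : InW ω (W3 ω) (D * (Di * g * D * gi) * Di * (D * g * Di * gi))) :
    In M (bd ![g * D * gi, 1, E]) := by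
  have H3 := h.heis'
  have P0i : In M (bd ![Di, 1, D]) := h.in_bd_inv P0 fun i => by fin_cases i <;> simp [DDi, DiD]
  have hGi : In M (bd fun _ => gi) := h.in_bd_inv hG fun _ => gg
  have hDi : In M (bd fun _ => Di) := h.in_bd_inv hD fun _ => DDi
  obtain ⟨q, hq⟩ : ∃ q, q = D * g * Di * gi := ⟨_, rfl⟩
  obtain ⟨x, hx⟩ : ∃ x, x = Di * g * D * gi := ⟨_, rfl⟩
  rw [← hq, ← hx] at i0 i2
  have hA : In M (bd ![q, 1, x]) := by
    have := in_mul (in_mul (in_mul P0 hG) P0i) hGi
    rw [bd_mul, bd_mul, bd_mul] at this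
    convert this using 2
    funext i; fin_cases i <;> simp [hq, hx, gg]
  have hB : In M (bd ![x, 1, q]) := by
    convert h.in_shift (h.in_rev hA) using 2
    funext i; fin_cases i <;> rfl
  have hC : In M (bd ![D * q * Di * x, 1, D * x * Di * q]) := by
    have := in_mul (in_mul (in_mul hD hA) hDi) hB
    rw [bd_mul, bd_mul, bd_mul] at this
    convert this using 2
    funext i
    fin_cases i <;> simp [DDi]
  have hk := in_mul (hb ![(D * q * Di * x * q) ^ 2, 1, (D * x * Di * q) ^ 2] (fun i => by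
    fin_cases i
    · exact H3.inW_pow i0 2
    · exact H3.inW_one
    · exact H3.inW_pow i2 2)) (in_mul hC rho)
  rw [bd_mul, bd_mul] at hk
  convert hk using 2
  funext i
  have qi : q * (g * D * gi * Di) = 1 := by
    have gg' : gi * g = 1 := mul_eq_one_comm.1 gg
    rw [hq]
    calc D * g * Di * gi * (g * D * gi * Di) = D * g * Di * (gi * g) * D * gi * Di := by simp only [Matrix.mul_assoc]
      _ = D * g * (Di * D) * gi * Di := by rw [gg', Matrix.mul_one]; simp only [Matrix.mul_assoc]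
      _ = D * (g * gi) * Di := by rw [DiD, Matrix.mul_one]; simp only [Matrix.mul_assoc]
      _ = 1 := by rw [gg, Matrix.mul_one, DDi]
  fin_cases i
  · show g * D * gi = (D * q * Di * x * q) ^ 2 * (D * q * Di * x * D)
    calc g * D * gi = (D * q * Di * x * q) ^ 2 * (D * q * Di * x * q) * (g * D * gi * Di) * D := by
          rw [← pow_succ, H3.inW_cube i0, Matrix.one_mul, Matrix.mul_assoc _ Di D, DiD, Matrix.mul_one]
      _ = (D * q * Di * x * q) ^ 2 * (D * q * Di * x * (q * (g * D * gi * Di)) * D) := by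
          simp only [Matrix.mul_assoc]
      _ = _ := by rw [qi, Matrix.mul_one]
  · simp
  · show E = (D * x * Di * q) ^ 2 * (D * x * Di * q * E)
    rw [← Matrix.mul_assoc, ← pow_succ, H3.inW_cube i2, Matrix.one_mul]

theorem g_r_mem (hb : ∀ d : Fin 3 → M3, (∀ i, InW ω (W3 ω) (d i)) → In M (bd d)) :
    In M (bd ![gm ω * Dm ω * (gm ω * tm), 1, D22 (ω ^ 2)]) := by
  have hω := h.om
  have h3 := h.three
  have w3 : ω ^ 3 = 1 := CfsgLib.HessianMax.om3 hω
  have H3 := h.heis'
  have gg : gm ω * (gm ω * tm) = 1 := by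
    rw [← Matrix.mul_assoc, CfsgLib.HessianMax.gm_sq hω h3, CfsgLib.HessianMax.tm_sq]
  have DDi : Dm ω * Dm (ω ^ 2) = 1 ∧ Dm (ω ^ 2) * Dm ω = 1 ∧ Dm (ω ^ 2) = Dm ω * Dm ω := by
    refine ⟨?_, ?_, ?_⟩ <;> ext i j <;> fin_cases i <;> fin_cases j <;>
      simp [Dm, Matrix.mul_apply, Fin.sum_univ_three] <;> grind
  have aD : Act (W3 ω) (Dm ω) Dl := Dm_act hω h3
  have aDi : Act (W3 ω) (Dm (ω ^ 2)) (Dl ∘ Dl) := DDi.2.2 ▸ aD.comp aD
  have ag : Act (W3 ω) (gm ω) Jl := gm_act hω h3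
  have agi : Act (W3 ω) (gm ω * tm) (Jl ∘ (Jl ∘ Jl)) := by
    rw [← CfsgLib.HessianMax.gm_sq hω h3]; exact ag.comp (ag.comp ag)
  have dg : (gm ω).det = 1 := CfsgLib.HessianMax.gm_det hω h3
  have dD : (Dm ω).det = ω := Dm_det hω
  have dDi : (Dm (ω ^ 2)).det = ω ^ 2 := by simp [Dm, det_fin_three]
  have dgi : (gm ω * tm).det = 1 := by
    have := congrArg Matrix.det gg; rwa [det_mul, dg, one_mul, det_one] at this
  have hG : In M (bd fun _ => gm ω) := by rw [bd_const]; exact h.in_gm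
  have hD : In M (bd fun _ => Dm ω) := by rw [bd_const]; exact h.in_Dm
  have aq := (((aD.comp ag).comp aDi).comp agi).congr (K := ev ((2, 2), (2, 1))) linq
  have ax := (((aDi.comp ag).comp aD).comp agi).congr (K := ev ((2, 1), (1, 1))) linx
  refine h.comb DDi.1 DDi.2.1 gg hb (h.P0_mem hb) (h.rho_mem (h.P0_mem hb)) hG hD ?_ ?_
  · refine inW_of_id H3 ?_ ((((aD.comp aq).comp aDi).comp ax).comp aq) linZ0
    simp only [det_mul] at dgi ⊢
    simp only [dgi, dg, dD, dDi, mul_one, one_mul] at *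
    simp only [dgi, mul_one]
    linear_combination (ω ^ 9 + ω ^ 6 + ω ^ 3 + 1) * w3
  · refine inW_of_id H3 ?_ (((aD.comp ax).comp aDi).comp aq) linZ2
    simp only [det_mul] at dgi ⊢
    simp only [dgi, dg, dD, dDi, mul_one, one_mul] at *
    simp only [dgi, mul_one]
    linear_combination (ω ^ 6 + ω ^ 3 + 1) * w3

end Setup

end CfsgLib.NineMax
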