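import Cfsg.Agent.Lib.NineMax.Inv
import Cfsg.Agent.Lib.NineMax.Dich

/-!
The setting of the maximality proof on nine points, and the block diagonal elements of the standard normaliser.
-/

set_option autoImplicit false
set_option linter.unusedSectionVars false
set_option maxRecDepth 10000

namespace CfsgLib.NineMax

open Matrix
open scoped Kronecker
open CfsgLib.HessianMax (Rsub gm Dm)

variable {F : Type*} [Field F] [Fintype F]

local notation "M3" => Matrix (Fin 3) (Fin 3) F
local notation "M9" => Matrix (Fin 3 × Fin 3) (Fin 3 × Fin 3) F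

/-- A proper subgroup of `SL₉` containing the determinant-one normaliser. -/
structure Setup (p : ℕ) (ω : F) (M : Subgroup (GL (Fin 3 × Fin 3) F)) : Prop where
  prime : p.Prime
  card : Fintype.card F = p
  seven : 7 ≤ p
  om : ω ^ 2 + ω + 1 = 0
  det : ∀ g ∈ M, (g : M9).det = 1
  le : ∀ g : GL (Fin 3 × Fin 3) F, (g : M9).det = 1 → (∃ L, Act (W9 ω) (g : M9) L) → g ∈ M
  ntop : ¬ ∀ g : GL (Fin 3 × Fin 3) F, (g : M9).det = 1 → g ∈ M

/-- The matrix belongs to the group. -/
def In (M : Subgroup (GL (Fin 3 × Fin 3) F)) (A : M9) : Prop := ∃ g ∈ M, (g : M9) = A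

/-- A determinant-one matrix of the normaliser. -/
def Nm (ω : F) (A : M9) : Prop := A.det = 1 ∧ ∃ L, Act (W9 ω) A L

variable {p : ℕ} {ω : F} {M : Subgroup (GL (Fin 3 × Fin 3) F)}

theorem Nm.mul {A B : M9} (hA : Nm ω A) (hB : Nm ω B) : Nm ω (A * B) := by
  obtain ⟨dA, L, aA⟩ := hA
  obtain ⟨dB, K, aB⟩ := hB
  exact ⟨by rw [det_mul, dA, dB, mul_one], _, aA.comp aB⟩

theorem nm_one : Nm ω (1 : M9) := ⟨det_one, id, act_one _⟩

theorem W3_det (hω : ω ^ 2 + ω + 1 = 0) (v : V3) : (W3 ω v).det = 1 := by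
  rw [W3_eq hω, det_mul, det_pow, det_pow,
    show (CfsgLib.HessianMax.Xm ω).det = 1 by
      simp [CfsgLib.HessianMax.Xm, det_fin_three]; linear_combination (ω - 1) * hω,
    show (CfsgLib.HessianMax.Ym : M3).det = 1 by simp [CfsgLib.HessianMax.Ym, det_fin_three],
    one_pow, one_pow, one_mul]

/-- The action of a phase triple. -/
def Lk (k : Fin 3 → Fin 3) (v : V4) : V4 := ((v.1.1 + (k 0 + k 1 + k 2) * (2 * v.1.2), v.1.2), v.2)

theorem phase_act : ∀ k : Fin 3 → Fin 3, MonAct id (fun y => k y.1) (Lk k) := by decide +kernel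

/-- The action of the first shear. -/
def LX (v : V4) : V4 := ((v.1.1 - v.2.2, v.1.2), (v.2.1 - v.1.2, v.2.2))

/-- The action of the second shear. -/
def LY (v : V4) : V4 := ((v.1.1 + v.2.1, v.1.2), (v.2.1, v.2.2 - v.1.2))

/-- The index map of the second shear. -/
def shearY (y : V3) : V3 := (y.1, y.2 - y.1)

theorem shearY_act : MonAct shearY 0 LY := by decide +kernel

namespace Setup

variable (h : Setup p ω M)
include h

theorem charP : CharP F p := by
  haveI : Fact p.Prime := ⟨h.prime⟩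
  exact charP_of_card_eq_prime h.card

theorem natCast_ne {m : ℕ} (h0 : m ≠ 0) (hm : m < p) : (m : F) ≠ 0 := fun e => by
  haveI := h.charP
  exact absurd (Nat.le_of_dvd (Nat.pos_of_ne_zero h0) ((CharP.cast_eq_zero_iff F p m).1 e)) (not_le.2 hm)

theorem three : (3 : F) ≠ 0 := by
  have := h.natCast_ne (m := 3) (by norm_num) (by have := h.seven; omega)
  exact_mod_cast this

theorem exists_natCast (c : F) : ∃ m : ℕ, (m : F) = c := by
  haveI : Fact p.Prime := ⟨h.prime⟩
  haveI := h.charP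
  exact CfsgLib.HessianMax.exists_natCast (by rw [← h.card]; exact FiniteField.pow_card c)

theorem heis : Heis ω (W9 ω) sy4 := heis9 h.om h.three

theorem heis' : Heis ω (W3 ω) sy := heis3 h.om h.three

theorem in_act {A : M9} (hd : A.det = 1) {L : V4 → V4} (hA : Act (W9 ω) A L) : In M A :=
  ⟨Matrix.GeneralLinearGroup.mkOfDetNeZero A (by rw [hd]; exact one_ne_zero), h.le _ hd ⟨L, hA⟩, rfl⟩

theorem in_det {A : M9} (hA : In M A) : A.det = 1 := by
  obtain ⟨g, hg, rfl⟩ := hA
  exact h.det g hg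

theorem in_unit {A : M9} (hA : In M A) : IsUnit A :=
  (Matrix.isUnit_iff_isUnit_det A).2 (by rw [h.in_det hA]; exact isUnit_one)

omit h in
theorem in_mul {A B : M9} (hA : In M A) (hB : In M B) : In M (A * B) := by
  obtain ⟨g, hg, rfl⟩ := hA
  obtain ⟨k, hk, rfl⟩ := hB
  exact ⟨g * k, mul_mem hg hk, Units.val_mul g k⟩

omit h in
theorem in_one : In M (1 : M9) := ⟨1, one_mem M, rfl⟩

omit h in
theorem in_inv {A B : M9} (hA : In M A) (hAB : A * B = 1) : In M B := by
  obtain ⟨g, hg, rfl⟩ := hA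
  exact ⟨g⁻¹, inv_mem hg, Units.inv_eq_of_mul_eq_one_right hAB⟩

omit h in
theorem in_pow {A : M9} (hA : In M A) : ∀ m : ℕ, In M (A ^ m)
  | 0 => by rw [pow_zero]; exact in_one
  | m + 1 => by rw [pow_succ]; exact in_mul (in_pow hA m) hA

/-- Cancelling an element of the normaliser. -/
theorem act_cancel {A P : M9} {L K : V4 → V4} (uA : IsUnit A) (uP : IsUnit P) (hP : Act (W9 ω) P L)
    (hAP : Act (W9 ω) (A * P) K) : ∃ J, Act (W9 ω) A J := by
  obtain ⟨a, rfl⟩ := uA
  obtain ⟨b, rfl⟩ := uP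
  rw [← Units.val_mul] at hAP
  have := mul_mem (h.heis.mem_normalizer_iff.2 ⟨K, hAP⟩) (inv_mem (h.heis.mem_normalizer_iff.2 ⟨L, hP⟩))
  rw [mul_inv_cancel_right] at this
  exact h.heis.mem_normalizer_iff.1 this

theorem in_W (v : V4) : In M (W9 ω v) := h.in_act (W9_det h.om v) (h.heis.act_W v)

theorem in_one_kron {A : M3} (hd : A.det ^ 3 = 1) {L : V3 → V3} (hA : Act (W3 ω) A L) : In M ((1 : M3) ⊗ₖ A) :=
  h.in_act (by simp [det_kronecker, hd]) (kron_act (act_one _) hA)

theorem in_gm : In M ((1 : M3) ⊗ₖ gm ω) :=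
  h.in_one_kron (by rw [CfsgLib.HessianMax.gm_det h.om h.three, one_pow]) (gm_act h.om h.three)

theorem in_Dm : In M ((1 : M3) ⊗ₖ Dm ω) :=
  h.in_one_kron (by rw [Dm_det h.om, CfsgLib.HessianMax.om3 h.om]) (Dm_act h.om h.three)

theorem in_tM : In M (tM ω) := h.in_act tM_det (tM_act h.om)

theorem in_t4M : In M (t4M ω) := h.in_act t4M_det (t4M_act h.om)

/-- Conjugation by the exchange of the factors. -/
theorem in_sw {A : M9} (hA : In M A) : In M (sw A) := by
  have hs : In M (mon ω (-1) (Equiv.prodComm (Fin 3) (Fin 3)) 0 : M9) := by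
    refine h.in_act ?_ (mon_act h.om (show MonAct Prod.swap 0 Prod.swap by decide +kernel))
    rw [mon_det, show Equiv.Perm.sign (Equiv.prodComm (Fin 3) (Fin 3) : Equiv.Perm V3) = -1 by decide]
    simp [chi]
    norm_num
  have e : sw A = mon ω (-1) (Equiv.prodComm (Fin 3) (Fin 3)) 0 * A *
      mon ω (-1) (Equiv.prodComm (Fin 3) (Fin 3)) 0 := by
    ext x y
    rw [Matrix.mul_apply, Finset.sum_eq_single y.swap, Matrix.mul_apply, Finset.sum_eq_single x.swap]
    · simp [sw, mon, chi]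
    · intro z _ hz
      have : x ≠ z.swap := fun e => hz (by rw [e, Prod.swap_swap])
      simp [mon, this]
    · simp
    · intro z _ hz; simp [mon, hz]
    · simp
  rw [e]
  exact in_mul (in_mul hs hA) hs

theorem nm_phase (k : Fin 3 → Fin 3) : Nm ω (bd fun i => chi ω (k i) • (1 : M3)) := by
  have e : (bd fun i => chi ω (k i) • (1 : M3)) = mon ω 1 (1 : Equiv.Perm V3) (fun y => k y.1) := by
    ext ⟨i, a⟩ ⟨j, b⟩
    by_cases h1 : i = j <;> by_cases h2 : a = b <;> simp [bd, mon, h1, h2, Ne.symm, Matrix.one_apply]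
  rw [e]
  refine ⟨?_, _, mon_act h.om (phase_act k)⟩
  rw [mon_det]
  simp only [Equiv.Perm.sign_one, Units.val_one, Int.cast_one, one_mul, Fintype.prod_prod_type,
    Fin.prod_univ_three]
  linear_combination ((chi ω (k 1) * chi ω (k 2)) ^ 3) * chi_cube h.om (k 0) +
    (chi ω (k 2) ^ 3) * chi_cube h.om (k 1) + chi_cube h.om (k 2)

theorem in_nm {A : M9} (hA : Nm ω A) : In M A := by
  obtain ⟨dA, L, aA⟩ := hA
  exact h.in_act dA aA

theorem in_phase (k : Fin 3 → Fin 3) : In M (bd fun i => chi ω (k i) • (1 : M3)) := h.in_nm (h.nm_phase k)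

theorem in_chi (k : Fin 3) : In M (chi ω k • (1 : M9)) := by
  rw [← bd_one, bd_smul]; exact h.in_phase fun _ => k

theorem nm_shX : Nm ω (bd fun i => W3 ω (i, 0)) := by
  have e : (bd fun i => W3 ω (i, 0)) = mon ω 1 (1 : Equiv.Perm V3) (fun y => y.1 * y.2) := by
    ext ⟨i, a⟩ ⟨j, b⟩
    by_cases h1 : i = j <;> by_cases h2 : a = b <;> simp [bd, mon, h1, h2, Ne.symm, W3_apply]
  rw [e]
  refine ⟨?_, _, mon_act h.om (show MonAct id (fun y => y.1 * y.2) LX by decide +kernel)⟩
  rw [← e, bd_det]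
  simp [W3_det h.om]

theorem nm_shY : Nm ω (bd fun i => W3 ω (0, i)) := by
  have e : (bd fun i => W3 ω (0, i)) = mon ω 1 shearY 0 := by
    ext ⟨i, a⟩ ⟨j, b⟩
    have hk : ∀ a b i : Fin 3, (b = a + i ↔ a = b - i) := by decide
    by_cases h1 : i = j
    · subst h1; simp [bd, mon, W3_apply, shearY, hk, chi]
    · simp [bd, mon, shearY, h1]
  rw [e]
  refine ⟨?_, _, mon_act h.om shearY_act⟩
  rw [← e, bd_det]
  simp [W3_det h.om]

/-- Arithmetic progressions of twisting matrices in the blocks. -/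
theorem nm_line (b : V3) : Nm ω (bd fun i => W3 ω (i * b.1, i * b.2)) := by
  have hX : ∀ m : Fin 3, Nm ω (bd fun i => W3 ω (i * m, 0)) := by
    have k0 : ∀ i : Fin 3, i * 0 = 0 ∧ i * 1 = i ∧ i * 2 = i + i := by decide
    intro m
    have km : m = 0 ∨ m = 1 ∨ m = 2 := by revert m; decide
    rcases km with rfl | rfl | rfl
    · simp only [k0]; rw [show (fun i : Fin 3 => W3 ω ((0, 0) : V3)) = fun _ => 1 from funext fun _ => W3_zero, bd_one]
      exact nm_one
    · simp only [k0]; exact h.nm_shX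
    · have := Nm.mul h.nm_shX h.nm_shX
      rw [bd_mul] at this
      convert this using 2
      funext i
      rw [W3_mul h.om, show (0 : Fin 3) * i = 0 from (fin3_law i i i).2.2.1, chi_zero, one_smul, (k0 i).2.2]
      exact congrArg (W3 ω) (Prod.ext rfl (add_zero _).symm)
  have hY : ∀ m : Fin 3, Nm ω (bd fun i => W3 ω (0, i * m)) := by
    have k0 : ∀ i : Fin 3, i * 0 = 0 ∧ i * 1 = i ∧ i * 2 = i + i := by decide
    intro m
    have km : m = 0 ∨ m = 1 ∨ m = 2 := by revert m; decide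
    rcases km with rfl | rfl | rfl
    · simp only [k0]; rw [show (fun i : Fin 3 => W3 ω ((0, 0) : V3)) = fun _ => 1 from funext fun _ => W3_zero, bd_one]
      exact nm_one
    · simp only [k0]; exact h.nm_shY
    · have := Nm.mul h.nm_shY h.nm_shY
      rw [bd_mul] at this
      convert this using 2
      funext i
      rw [W3_mul h.om, show i * (0 : Fin 3) = 0 from (k0 i).1, chi_zero, one_smul, (k0 i).2.2]
      exact congrArg (W3 ω) (Prod.ext (add_zero _).symm rfl)
  have := Nm.mul (hX b.1) (hY b.2)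
  rw [bd_mul] at this
  convert this using 2
  funext i
  rw [W3_mul h.om, show (0 : Fin 3) * 0 = 0 from rfl, chi_zero, one_smul]
  exact congrArg (W3 ω) (Prod.ext (add_zero _).symm (zero_add _).symm)

theorem nm_AP (a b : V3) (k : Fin 3 → Fin 3) :
    Nm ω (bd fun i => chi ω (k i) • W3 ω (a.1 + i * b.1, a.2 + i * b.2)) := by
  have hWa : Nm ω (bd fun _ => W3 ω a) := by
    have e : (bd fun _ => W3 ω a) = W9 ω (0, a) := by rw [bd_const, W9, W3_zero]
    rw [e]; exact ⟨W9_det h.om _, id, h.heis.act_W _⟩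
  have := Nm.mul (Nm.mul (h.nm_phase fun i => k i - a.2 * (i * b.1)) hWa) (h.nm_line b)
  rw [bd_mul, bd_mul] at this
  convert this using 2
  funext i
  rw [Matrix.smul_mul, Matrix.one_mul, Matrix.smul_mul, W3_mul h.om, smul_smul, ← chi_add h.om, sub_add_cancel]
  rfl

theorem in_shX : In M (bd fun i => W3 ω (i, 0)) := h.in_nm h.nm_shX

theorem in_line (b : V3) : In M (bd fun i => W3 ω (i * b.1, i * b.2)) := h.in_nm (h.nm_line b)

theorem in_AP (a b : V3) (k : Fin 3 → Fin 3) :
    In M (bd fun i => chi ω (k i) • W3 ω (a.1 + i * b.1, a.2 + i * b.2)) := h.in_nm (h.nm_AP a b k)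

theorem ap_act (a b : V3) : ∃ L, Act (W9 ω) (bd fun i => W3 ω (a.1 + i * b.1, a.2 + i * b.2)) L := by
  simpa [chi_zero] using (h.nm_AP a b 0).2

theorem in_shift {d : Fin 3 → M3} (hd : In M (bd d)) : In M (bd fun i => d (i + 1)) := by
  have hS := h.in_W (((0, 1) : V3), (0 : V3))
  have hS' := h.in_W (((0, 2) : V3), (0 : V3))
  have := in_mul (in_mul hS hd) hS'
  convert this using 1
  have hc : ∀ (u : V3), ∀ A : M9, ∀ x y : V3, u.1 = 0 →
      (W9 ω (u, (0 : V3)) * A) x y = A (x + sh (u, (0 : V3))) y ∧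
      (A * W9 ω (u, (0 : V3))) x y = A x (y - sh (u, (0 : V3))) := by
    intro u A x y hu
    have hph : ∀ z : V3, chi ω (ph (u, (0 : V3)) z) = 1 := fun z => by
      rw [ph, hu]
      show chi ω (0 * z.1 + 0 * z.2) = 1
      rw [(fin3_law z.1 0 0).2.2.1, (fin3_law z.2 0 0).2.2.1, add_zero, chi_zero]
    constructor
    · rw [Matrix.mul_apply, Finset.sum_eq_single (x + sh (u, (0 : V3)))]
      · rw [W9_apply h.om, if_pos rfl, hph, one_mul]
      · intro z _ hz; rw [W9_apply h.om, if_neg hz, zero_mul]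
      · simp
    · rw [Matrix.mul_apply, Finset.sum_eq_single (y - sh (u, (0 : V3)))]
      · rw [W9_apply h.om, if_pos (sub_add_cancel _ _).symm, hph, mul_one]
      · intro z _ hz
        rw [W9_apply h.om, if_neg (fun e => hz (by rw [e, add_sub_cancel_right])), mul_zero]
      · simp
  ext ⟨i, a⟩ ⟨j, b⟩
  rw [((hc (0, 2)) _ _ _ rfl).2, ((hc (0, 1)) _ _ _ rfl).1]
  have e2 : ∀ j : Fin 3, j - 2 = j + 1 := by decide
  simp [sh, bd, e2, add_left_inj]

theorem in_rev {d : Fin 3 → M3} (hd : In M (bd d)) : In M (bd fun i => d (-i)) := by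
  have := in_mul (in_mul h.in_tM hd) h.in_tM
  convert this using 1
  ext ⟨i, a⟩ ⟨j, b⟩
  rw [Matrix.mul_apply, Finset.sum_eq_single ((-j, b) : V3), Matrix.mul_apply,
    Finset.sum_eq_single ((-i, a) : V3)]
  · simp [tM, mon, negFst, bd, chi]
    split_ifs <;> simp
  · intro z _ hz
    have : (i, a) ≠ negFst z := fun e => hz (by
      have := congrArg negFst e
      simpa [negFst] using this.symm)
    simp [tM, mon, this]
  · simp
  · intro z _ hz
    have : z ≠ negFst ((j, b) : V3) := hz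
    simp [tM, mon, this]
  · simp

theorem in_conj1 {d : Fin 3 → M3} {A A' : M3} (hA : In M ((1 : M3) ⊗ₖ A)) (hAA : A * A' = 1)
    (hd : In M (bd d)) : In M (bd fun i => A * d i * A') := by
  rw [← bd_const] at hA
  have hA' : In M (bd fun _ => A') := in_inv hA (by rw [bd_mul]; simp only [hAA]; exact bd_one)
  have := in_mul (in_mul hA hd) hA'
  rwa [bd_mul, bd_mul] at this

/-- The inverse of a block diagonal element. -/
theorem in_bd_inv {d e : Fin 3 → M3} (hd : In M (bd d)) (he : ∀ i, d i * e i = 1) : In M (bd e) :=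
  in_inv hd (by rw [bd_mul]; simp only [he]; exact bd_one)

theorem det_blk {d : Fin 3 → M3} (hd : In M (bd d)) (i : Fin 3) : (d i).det ≠ 0 := fun e => by
  have := h.in_det hd
  rw [bd_det, Finset.prod_eq_zero (Finset.mem_univ i) e] at this
  exact zero_ne_one this

theorem blk_inv {d : Fin 3 → M3} (hd : In M (bd d)) : ∃ e, In M (bd e) ∧ ∀ i, d i * e i = 1 ∧ e i * d i = 1 := by
  have hu : ∀ i, IsUnit (d i).det := fun i => isUnit_iff_ne_zero.2 (h.det_blk hd i)
  exact ⟨fun i => (d i)⁻¹, h.in_bd_inv hd fun i => Matrix.mul_nonsing_inv _ (hu i),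
    fun i => ⟨Matrix.mul_nonsing_inv _ (hu i), Matrix.nonsing_inv_mul _ (hu i)⟩⟩

end Setup

end CfsgLib.NineMax
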