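import Cfsg.Agent.Lib.Classical.UnitaryMaxTen
import Cfsg.Agent.Lib.Classical.UnitaryPair
import Cfsg.Agent.Lib.Classical.UnitaryDecompMax.Apply
import Cfsg.Agent.Lib.Classical.UnitExtField.Max
import Cfsg.Agent.Lib.Classical.TensorWreathU.Main
import Cfsg.Agent.Lib.Classical.UnitarySubfield
import Cfsg.Agent.Lib.Classical.UnitarySubfieldOdd
import Cfsg.Agent.Lib.Classical.UnitaryOrthSubfield

/-!
The geometric maximal subgroups of `SU_9(q)` other than the normaliser of an extraspecial group.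
-/

set_option autoImplicit false

namespace CfsgLib.NineMaxUnit

open Cfsg CfsgLib.Classical.Herm
open CfsgLib.ClassicalAut (Unitary.Conj)

variable {F : Type*} [Field F] [Fintype F] {q : ℕ}

local notation "L₉" => Cfsg.GU 9 F q ⊓ Cfsg.Geo.specialLinear (Fin 9) F

theorem singular (hF : Fintype.card F = q ^ 2) (W : Submodule F (Fin 9 → F)) (hW0 : W ≠ ⊥)
    (hW : Cfsg.Geo.IsTotallySingularFor (Cfsg.hermForm 9 F q) W) :
    Cfsg.Geo.IsMaximalIn L₉ (Cfsg.Geo.subspaceStabilizer W ⊓ L₉) := by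
  obtain ⟨K⟩ := exists_conj_of_card hF
  exact isMaximalIn_of (exists_notMem_stab_singular K hW0 hW) (singular_le_or_top K (by omega) hW)

theorem nondegenerate (hF : Fintype.card F = q ^ 2) (W : Submodule F (Fin 9 → F)) (hW0 : W ≠ ⊥)
    (hW : Cfsg.Geo.IsNondegenerateOn (Cfsg.hermForm 9 F q) W) (hdim : 2 * Module.finrank F W < 9) :
    Cfsg.Geo.IsMaximalIn L₉ (Cfsg.Geo.subspaceStabilizer W ⊓ L₉) := by
  obtain ⟨K⟩ := exists_conj_of_card hF
  have hW' : Nondeg (q := q) W := fun w hw h0 => (hW w hw h0).2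
  have hd := finrank_orth K hW'
  exact isMaximalIn_of (exists_notMem_stab_nondeg K hW0 hW' (by omega))
    (nondegenerate_le_or_top' K hW' (by norm_num) hdim)

theorem lines (hF : Fintype.card F = q ^ 2) (D : Fin 9 → Submodule F (Fin 9 → F))
    (hD : Cfsg.Geo.IsNondegenerateMDecomposition (Cfsg.hermForm 9 F q) 1 D) :
    Cfsg.Geo.IsMaximalIn L₉ (Cfsg.Geo.decompositionStabilizer D ⊓ L₉) := by
  obtain ⟨K⟩ := exists_conj_of_card hF
  exact CfsgLib.Classical.HermDecompMax.decomposition_maximal' K le_rfl hD (by omega)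

theorem threeSpaces (hF : Fintype.card F = q ^ 2) (D : Fin 3 → Submodule F (Fin 9 → F))
    (hD : Cfsg.Geo.IsNondegenerateMDecomposition (Cfsg.hermForm 9 F q) 3 D) :
    Cfsg.Geo.IsMaximalIn L₉ (Cfsg.Geo.decompositionStabilizer D ⊓ L₉) := by
  obtain ⟨K⟩ := exists_conj_of_card hF
  exact CfsgLib.Classical.HermDecompMax.decomposition_maximal' K le_rfl hD (by omega)

theorem extensionField (hF : Fintype.card F = q ^ 2) (S : Subalgebra F (Matrix (Fin 9) (Fin 9) F))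
    (hS : Cfsg.Geo.IsFieldSubalgebra 3 S)
    (hac : Cfsg.Geo.IsAdjointClosedFor (Cfsg.hermForm 9 F q) S) :
    Cfsg.Geo.IsMaximalIn L₉ (Cfsg.Geo.subalgebraNormalizer S ⊓ L₉) := by
  obtain ⟨K⟩ := exists_conj_of_card hF
  exact CfsgLib.UnitExt.isMaximalIn_three K Nat.prime_three (by decide) rfl S hS hac

theorem subfield (hF : Fintype.card F = q ^ 2) (F₀ : Subfield F) (r : ℕ)
    (P : Matrix.GeneralLinearGroup (Fin 9) F) (hr : r.Prime) (hro : Odd r)
    (hcard : Fintype.card F = Nat.card F₀ ^ r)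
    (hP : Cfsg.Geo.IsFormRationalStructure (Cfsg.hermForm 9 F q) F₀ 1 P) :
    Cfsg.Geo.IsMaximalIn L₉ (Cfsg.Geo.subfieldSubgroup F₀ P ⊓ L₉) := by
  obtain ⟨K⟩ := exists_conj_of_card hF
  have hcard' : Nat.card F = Nat.card F₀ ^ r := by rw [Nat.card_eq_fintype_card]; exact hcard
  exact Rat.isMaximalIn_subfield K ⟨hP, by norm_num, hr, hro, hcard'⟩

theorem orthSubfield (hF : Fintype.card F = q ^ 2) (hodd : Odd q) (F₀ : Subfield F)
    (P : Matrix.GeneralLinearGroup (Fin 9) F) (hcard : Fintype.card F = Nat.card F₀ ^ 2)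
    (hP : Cfsg.Geo.IsFormRationalStructure (Cfsg.hermForm 9 F q) F₀ 1 P) :
    Cfsg.Geo.IsMaximalIn L₉ (Cfsg.Geo.subfieldSubgroup F₀ P ⊓ L₉) := by
  classical
  obtain ⟨K⟩ := exists_conj_of_card hF
  have hcard' : Nat.card F = Nat.card F₀ ^ 2 := by rw [Nat.card_eq_fintype_card]; exact hcard
  have h2 : (2 : F) ≠ 0 := Ring.two_ne_zero fun e => by
    have h1 := FiniteField.even_card_of_char_two e
    rw [hF] at h1
    have h3 : Odd (q ^ 2) := hodd.pow
    rw [Nat.odd_iff] at h3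
    omega
  obtain ⟨Q, hB, hQ, -⟩ := OrthSubfield.exists_form K hcard' hP h2
  exact isMaximalIn_subfield_of (OrthSubfield.orth_exists_notMem K hcard' hP h2 hB hQ (by norm_num))
    (fun M hM => OrthSubfield.orth_le_or_top K hcard' hP h2 hM hB hQ (by norm_num))

theorem tensorWreath (hF : Fintype.card F = q ^ 2) (hq : 3 ≤ q) (e : Fin 9 ≃ (Fin 2 → Fin 3))
    (P : Matrix.GeneralLinearGroup (Fin 9) F) (f₁ : (Fin 3 → F) → (Fin 3 → F) → F)
    (hf₁ : Cfsg.Geo.IsUnitaryFormPow q f₁)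
    (hT : Cfsg.Geo.IsTensorPowerFormStructure (fun x : F => x ^ q) (Cfsg.hermForm 9 F q) f₁ e P) :
    Cfsg.Geo.IsMaximalIn L₉ (Cfsg.Geo.tensorWreathSubgroup 3 2 e P ⊓ L₉) := by
  obtain ⟨K⟩ := exists_conj_of_card hF
  exact CfsgLib.Classical.TensorWreathU.isMaximalIn (K := K) le_rfl le_rfl (by omega) e P hf₁ hT

end CfsgLib.NineMaxUnit
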